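import Cfsg.Agent.Lib.FusionOrderFive.Setup

/-!
Elementary abelian essential subgroups of order `p ^ 3` in a group of order `p ^ 5`.
-/

set_option autoImplicit false
set_option linter.unusedSectionVars false

namespace Cfsg.Agent.Lib.FusionOrderFive

open Cfsg Cfsg.FusionSystem Cfsg.Agent.Lib.Fusion Cfsg.Agent.Lib.Fusion87
open scoped commutatorElement

universe u

variable {Ω : Type u} [Group Ω] {S : Subgroup Ω} [Finite S] {F : FusionSystem S} {p : ℕ}
  [hp : Fact p.Prime] (h : Setup p S F)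

include h

theorem normalizer_facts {R : Subgroup Ω} (hE : F.IsEssential p R) (hab : ∀ a b : R, a * b = b * a)
    (hexp : ∀ a : R, a ^ p = 1) (hc : Nat.card R = p ^ 3) :
    Nat.card (normalizerIn S R) = p ^ 4 ∧ S ≤ Subgroup.normalizer (normalizerIn S R : Set Ω) ∧
      Nat.card (centralizerIn (normalizerIn S R) (normalizerIn S R)) = p ^ 2 ∧
      centralizerIn (normalizerIn S R) (normalizerIn S R) ≤ R ∧
      ∀ a ∈ normalizerIn S R, ∀ b ∈ normalizerIn S R,
        ⁅a, b⁆ ∈ centralizerIn (normalizerIn S R) (normalizerIn S R) := by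
  have hRS := hE.1.1
  set N := normalizerIn S R
  haveI := finite_normalizerIn (S := S) R
  haveI := finite_of_le hRS
  have hN : Nat.card N = p ^ 4 := by
    rw [card_normalizer h.hS h.hF hE h.hp2 hab hexp (Or.inr hc), hc, ← pow_succ]
  have hNS : N ≤ S := inf_le_left
  have hNlt : N < S := lt_of_le_of_ne hNS fun e => by
    have h5 := h.hcard
    rw [← e, hN] at h5
    exact absurd (Nat.pow_right_injective hp.out.two_le h5) (by norm_num)
  have hNn : S ≤ Subgroup.normalizer (N : Set Ω) := by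
    have h1 := card_mul_le h inf_le_left (lt_normalizerIn h.hS hNlt)
    have heq : normalizerIn S N = S :=
      Subgroup.eq_of_le_of_card_ge inf_le_left (by rw [h.hcard, pow_succ, ← hN]; exact h1)
    exact heq.ge.trans inf_le_right
  have hRN : R ≤ N := le_normalizerIn hRS
  obtain ⟨y, hy, hyN⟩ := SetLike.exists_of_lt hNlt
  set R' := R.map (MulAut.conj y).toMonoidHom
  have hR'N : R' ≤ N := by
    rintro _ ⟨r, hr, rfl⟩
    exact (Subgroup.mem_normalizer_iff.1 (hNn hy) r).1 (hRN hr)
  have hR'c : Nat.card R' = p ^ 3 := by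
    rw [Subgroup.card_map_of_injective (MulAut.conj y).injective, hc]
  haveI := finite_of_le (hR'N.trans hNS)
  have hne : R' ≠ R := fun e => hyN ⟨hy, Subgroup.mem_normalizer_iff.2 fun r =>
    ⟨fun hr => e.le ⟨r, hr, rfl⟩, fun hr => by
      obtain ⟨r', hr', he⟩ := e.ge hr
      rwa [← mul_left_cancel (mul_right_cancel (show y * r' * y⁻¹ = y * r * y⁻¹ from he))]⟩⟩
  have hsup : R ⊔ R' = N := by
    refine Subgroup.eq_of_le_of_card_ge (sup_le hRN hR'N) ?_
    have hlt : R < R ⊔ R' := lt_of_le_of_ne le_sup_left fun e =>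
      hne (Subgroup.eq_of_le_of_card_ge (e.symm ▸ le_sup_right) (by rw [hR'c, hc]))
    have := card_mul_le h ((sup_le hRN hR'N).trans hNS) hlt
    rwa [hN, pow_succ, ← hc]
  have hab' : ∀ a ∈ R, ∀ b ∈ R, a * b = b * a := fun a ha b hb =>
    congrArg Subtype.val (hab ⟨a, ha⟩ ⟨b, hb⟩)
  have hcen : R ⊓ R' ≤ centralizerIn N N := by
    intro a ha
    refine ⟨hRN ha.1, ?_⟩
    have hle : N ≤ Subgroup.centralizer ({a} : Set Ω) := by
      rw [← hsup]
      refine sup_le (fun b hb => ?_) ?_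
      · rw [Subgroup.mem_centralizer_singleton_iff]; exact hab' b hb a ha.1
      · rintro _ ⟨b, hb, rfl⟩
        obtain ⟨a', ha', hae⟩ := ha.2
        rw [Subgroup.mem_centralizer_singleton_iff, ← hae, ← map_mul, ← map_mul, hab' b hb a' ha']
    exact fun b hb => Subgroup.mem_centralizer_singleton_iff.1 (hle hb)
  have hna : ¬ ∀ a ∈ N, ∀ b ∈ N, a * b = b * a := fun hh => h.hno N hNS hh hN
  have hZ : Nat.card (centralizerIn N N) ≤ p ^ 2 := by
    have h1 := card_center_mul h hNS hna
    rw [hN, mul_assoc, show p ^ 4 = p ^ 2 * (p * p) by ring] at h1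
    exact Nat.le_of_mul_le_mul_right h1 (by positivity [hp.out.pos])
  have hI : p ^ 2 ≤ Nat.card (R ⊓ R' : Subgroup Ω) := by
    have h1 : (R' ⊓ R).relIndex R ≤ R'.relIndex N := by
      rw [Subgroup.inf_relIndex_right]
      exact Subgroup.relIndex_le_of_le_right hRN (Subgroup.index_ne_zero_of_finite)
    have h2 := Subgroup.card_mul_index (R'.subgroupOf N)
    rw [Nat.card_congr (Subgroup.subgroupOfEquivOfLe hR'N).toEquiv, hR'c, hN, pow_succ] at h2
    have h3 : R'.relIndex N = p := Nat.eq_of_mul_eq_mul_left (pow_pos hp.out.pos 3) h2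
    have h4 := Subgroup.card_mul_index ((R' ⊓ R).subgroupOf R)
    rw [Nat.card_congr (Subgroup.subgroupOfEquivOfLe (inf_le_right : R' ⊓ R ≤ R)).toEquiv, hc] at h4
    change _ * (R' ⊓ R).relIndex R = _ at h4
    rw [inf_comm]
    by_contra hlt
    rw [not_le] at hlt
    have h5 : p ^ 2 * p ≤ Nat.card (R' ⊓ R : Subgroup Ω) * p := by
      rw [← pow_succ, ← h4]
      exact Nat.mul_le_mul_left _ (h1.trans h3.le)
    exact absurd (Nat.le_of_mul_le_mul_right h5 hp.out.pos) (not_le.2 hlt)
  haveI : Finite (centralizerIn N N) := finite_of_le (inf_le_left.trans hNS)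
  have heqI : R ⊓ R' = centralizerIn N N :=
    Subgroup.eq_of_le_of_card_ge hcen (hZ.trans hI)
  have hZc : Nat.card (centralizerIn N N) = p ^ 2 := le_antisymm hZ (heqI ▸ hI)
  refine ⟨hN, hNn, hZc, heqI ▸ inf_le_left, fun a ha b hb => ?_⟩
  set W := (centralizerIn N N).subgroupOf N
  haveI : W.Normal := ⟨fun w hw g => by
    have e : g * w = w * g := Subtype.ext
      (Subgroup.mem_centralizer_iff.1 (Subgroup.mem_subgroupOf.1 hw).2 g g.2)
    rwa [e, mul_inv_cancel_right]⟩
  have hidx : W.index = p ^ 2 := by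
    have h1 := W.card_mul_index
    rw [Nat.card_congr (Subgroup.subgroupOfEquivOfLe (H := centralizerIn N N) inf_le_left).toEquiv,
      hZc, hN, show p ^ 4 = p ^ 2 * p ^ 2 by ring] at h1
    exact Nat.eq_of_mul_eq_mul_left (pow_pos hp.out.pos 2) h1
  have hm : (⁅(⟨a, ha⟩ : N), ⟨b, hb⟩⁆ : N) ∈ W := by
    rw [← QuotientGroup.eq_one_iff]
    change QuotientGroup.mk' W _ = 1
    rw [map_commutatorElement, commutatorElement_eq_one_iff_mul_comm]
    exact IsPGroup.commutative_of_card_eq_prime_sq (G := N ⧸ W) (by rw [← hidx]; rfl) _ _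
  exact hm

end Cfsg.Agent.Lib.FusionOrderFive
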