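import Cfsg.Agent.Lib.FusionOrderFive.PearlAlgebra
import Cfsg.Agent.Lib.PGroup.NormalElem

/-!
A group of order `p ^ 5` with a normaliser of order `p ^ 4` of an elementary abelian subgroup of
order `p ^ 3`.
-/

set_option autoImplicit false
set_option linter.unusedSectionVars false

namespace Cfsg.Agent.Lib.FusionOrderFive

open scoped commutatorElement

section General

variable {G : Type*} [Group G]

theorem comm_mul_of_central {a b c : G} (h : Commute b ⁅a, c⁆) : ⁅a, b * c⁆ = ⁅a, b⁆ * ⁅a, c⁆ := by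
  have e : ⁅a, b * c⁆ = ⁅a, b⁆ * (b * ⁅a, c⁆ * b⁻¹) := by simp only [commutatorElement_def]; group
  rw [e, h.eq, mul_inv_cancel_right]

theorem comm_mul_of_central_left {a b c : G} (h : Commute a ⁅b, c⁆) :
    ⁅a * b, c⁆ = ⁅b, c⁆ * ⁅a, c⁆ := by
  have e : ⁅a * b, c⁆ = (a * ⁅b, c⁆ * a⁻¹) * ⁅a, c⁆ := by simp only [commutatorElement_def]; group
  rw [e, h.eq, mul_inv_cancel_right]

/-- Commutators landing in a normal subgroup are trivial in the quotient. -/
theorem commute_mk {K : Subgroup G} [K.Normal] {a b : G} (h : ⁅a, b⁆ ∈ K) :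
    Commute (QuotientGroup.mk' K a) (QuotientGroup.mk' K b) := by
  rw [← commutatorElement_eq_one_iff_commute, ← map_commutatorElement, ← MonoidHom.mem_ker,
    QuotientGroup.ker_mk']
  exact h

theorem comm_mem_of_commute_mk {K : Subgroup G} [K.Normal] {a b : G}
    (h : Commute (QuotientGroup.mk' K a) (QuotientGroup.mk' K b)) : ⁅a, b⁆ ∈ K := by
  rw [← commutatorElement_eq_one_iff_commute, ← map_commutatorElement, ← MonoidHom.mem_ker,
    QuotientGroup.ker_mk'] at h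
  exact h

theorem normal_of_le_center' {K : Subgroup G} (h : K ≤ Subgroup.center G) : K.Normal :=
  ⟨fun n hn g => by rwa [Subgroup.mem_center_iff.1 (h hn) g, mul_inv_cancel_right]⟩

end General

/-- The normaliser `N` of the elementary abelian subgroup `⟨z, l, e⟩` inside `G`. -/
structure CubeData (p : ℕ) (G : Type*) [Group G] where
  hG : Nat.card G = p ^ 5
  hno : ∀ A : Subgroup G, (∀ a ∈ A, ∀ b ∈ A, a * b = b * a) → Nat.card A ≠ p ^ 4
  N : Subgroup G
  I : Subgroup G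
  z : G
  l : G
  e : G
  y : G
  hN : Nat.card N = p ^ 4
  Nn : N.Normal
  In : I.Normal
  hI : Nat.card I = p ^ 2
  IN : I ≤ N
  cen : ∀ i ∈ I, ∀ a ∈ N, Commute i a
  zI : z ∈ I
  lI : l ∈ I
  eN : e ∈ N
  zc : ∀ g : G, Commute z g
  z1 : z ≠ 1
  zp : z ^ p = 1
  lp : l ^ p = 1
  ep : e ^ p = 1
  lz : l ∉ Subgroup.zpowers z
  eI : e ∉ I
  comm : ∀ a ∈ N, ∀ b ∈ N, ⁅a, b⁆ ∈ Subgroup.zpowers z
  yN : y ∉ N
  hy : y * e * y⁻¹ ∉ I ⊔ Subgroup.zpowers e
  hC : ∀ a ∈ N, Commute a e → a ∈ I ⊔ Subgroup.zpowers e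

namespace CubeData

variable {p : ℕ} [hp : Fact p.Prime] {G : Type*} [Group G] [Finite G] (c : CubeData p G)
include c

/-- The commutator spanning the second layer. -/
def d : G := ⁅c.e, c.y⁆

/-- The middle term. -/
def D : Subgroup G := c.I ⊔ Subgroup.zpowers c.d

instance : c.I.Normal := c.In
instance : c.N.Normal := c.Nn
instance : (Subgroup.zpowers c.z).Normal :=
  normal_of_le_center' (Subgroup.zpowers_le.2 (Subgroup.mem_center_iff.2 fun g => (c.zc g).eq.symm))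

theorem isPGroup : IsPGroup p G := IsPGroup.of_card c.hG

theorem card_le_mul {A B : Subgroup G} (hlt : A < B) : Nat.card A * p ≤ Nat.card B := by
  obtain ⟨i, hi⟩ := IsPGroup.iff_card.1 (c.isPGroup.to_subgroup A)
  obtain ⟨j, hj⟩ := IsPGroup.iff_card.1 (c.isPGroup.to_subgroup B)
  have hlt' : Nat.card A < Nat.card B := lt_of_le_of_ne (Subgroup.card_le_of_le hlt.le) fun e =>
    hlt.ne (Subgroup.eq_of_le_of_card_ge hlt.le e.ge)
  rw [hi, hj, Nat.pow_lt_pow_iff_right hp.out.one_lt] at hlt'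
  rw [hi, hj, ← pow_succ]
  exact Nat.pow_le_pow_right hp.out.pos hlt'

theorem card_le_sup {A : Subgroup G} {x : G} (hx : x ∉ A) :
    Nat.card A * p ≤ Nat.card (A ⊔ Subgroup.zpowers x : Subgroup G) :=
  c.card_le_mul (lt_of_le_of_ne le_sup_left fun e =>
    hx (e.ge (Subgroup.mem_sup_right (Subgroup.mem_zpowers x))))

theorem d_mem : c.d ∈ c.N := by
  rw [d, show ⁅c.e, c.y⁆ = c.e * (c.y * c.e⁻¹ * c.y⁻¹) by rw [commutatorElement_def]; group]
  exact c.N.mul_mem c.eN (c.Nn.conj_mem _ (c.N.inv_mem c.eN) _)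

theorem d_notMem : c.d ∉ c.I ⊔ Subgroup.zpowers c.e := fun h => c.hy (by
  rw [show c.y * c.e * c.y⁻¹ = (c.e⁻¹ * c.d)⁻¹ by rw [d, commutatorElement_def]; group]
  exact inv_mem (mul_mem (inv_mem (Subgroup.mem_sup_right (Subgroup.mem_zpowers _))) h))

theorem d_notMem_I : c.d ∉ c.I := fun h => c.d_notMem (Subgroup.mem_sup_left h)

theorem D_le : c.D ≤ c.N := sup_le c.IN (Subgroup.zpowers_le.2 c.d_mem)

theorem I_le_D : c.I ≤ c.D := le_sup_left

theorem d_mem_D : c.d ∈ c.D := Subgroup.mem_sup_right (Subgroup.mem_zpowers _)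

theorem pow_mem_I {x : G} (hx : x ∈ c.N) : x ^ p ∈ c.I := by
  by_contra hd
  -- the quotient of `N` would be cyclic
  have h1 := c.card_le_sup hd
  have hlt : c.I ⊔ Subgroup.zpowers (x ^ p) < c.I ⊔ Subgroup.zpowers x := by
    refine lt_of_le_of_ne (sup_le_sup_left (Subgroup.zpowers_le.2
      (Subgroup.pow_mem _ (Subgroup.mem_zpowers _) p)) _) fun heq => ?_
    obtain ⟨i', hi', w, hw, he'⟩ := Subgroup.mem_sup_of_normal_left.1
      (heq.ge (Subgroup.mem_sup_right (Subgroup.mem_zpowers x)))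
    obtain ⟨r, rfl⟩ := Subgroup.mem_zpowers_iff.1 hw
    obtain ⟨n, hn⟩ := c.isPGroup x
    obtain ⟨u, v, huv⟩ : IsCoprime (1 - (p : ℤ) * r) ((p : ℤ) ^ n) :=
      IsCoprime.pow_right ⟨1, r, by ring⟩
    refine hd (c.I.pow_mem ?_ p)
    have e1 : x ^ (1 - (p : ℤ) * r) = i' := by
      rw [zpow_sub, zpow_one, zpow_mul, zpow_natCast]
      exact (eq_mul_inv_of_mul_eq he').symm
    rw [← zpow_one x, ← huv, zpow_add, mul_comm u, mul_comm v, zpow_mul, zpow_mul, e1,
      ← Nat.cast_pow, zpow_natCast, hn, one_zpow, mul_one]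
    exact c.I.zpow_mem hi' u
  have h2 := c.card_le_mul hlt
  have htop : c.I ⊔ Subgroup.zpowers x = c.N :=
    Subgroup.eq_of_le_of_card_ge (sup_le c.IN (Subgroup.zpowers_le.2 hx)) (by
      rw [c.hN]
      calc p ^ 4 = p ^ 2 * p * p := by ring
        _ ≤ _ := (Nat.mul_le_mul_right _ (c.hI ▸ h1)).trans h2)
  refine c.hno c.N (fun a ha b hb => ?_) c.hN
  rw [← htop] at ha hb
  obtain ⟨i₁, hi₁, w₁, hw₁, rfl⟩ := Subgroup.mem_sup_of_normal_left.1 ha
  obtain ⟨i₂, hi₂, w₂, hw₂, rfl⟩ := Subgroup.mem_sup_of_normal_left.1 hb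
  obtain ⟨r₁, rfl⟩ := Subgroup.mem_zpowers_iff.1 hw₁
  obtain ⟨r₂, rfl⟩ := Subgroup.mem_zpowers_iff.1 hw₂
  have hxN := c.N.zpow_mem hx
  exact ((((c.cen i₁ hi₁ i₂ (c.IN hi₂)).mul_right (c.cen i₁ hi₁ _ (hxN r₂))).mul_left
    ((c.cen i₂ hi₂ _ (hxN r₁)).symm.mul_right ((Commute.refl x).zpow_zpow r₁ r₂)))).eq

theorem e_notMem : c.e ∉ c.D := fun h => by
  obtain ⟨i, hi, w, hw, he⟩ := Subgroup.mem_sup_of_normal_left.1 h
  obtain ⟨k, rfl⟩ := Subgroup.mem_zpowers_iff.1 hw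
  have hdp := c.pow_mem_I c.d_mem
  by_cases hk : (k : ZMod p) = 0
  · obtain ⟨q, rfl⟩ := (ZMod.intCast_zmod_eq_zero_iff_dvd k p).1 hk
    refine c.eI ?_
    rw [← he, zpow_mul, zpow_natCast]
    exact c.I.mul_mem hi (c.I.zpow_mem hdp q)
  · obtain ⟨u, v, huv⟩ := (Nat.prime_iff_prime_int.1 hp.out).coprime_iff_not_dvd.2
      (fun hd => hk ((ZMod.intCast_zmod_eq_zero_iff_dvd k p).2 hd))
    refine c.d_notMem ?_
    have hdk : c.d ^ k = i⁻¹ * c.e := by rw [← he, inv_mul_cancel_left]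
    rw [← zpow_one c.d, ← huv, zpow_add, mul_comm u, mul_comm v, zpow_mul, zpow_mul, hdk, zpow_natCast]
    exact mul_mem (zpow_mem (Subgroup.mem_sup_left hdp) u) (zpow_mem (mul_mem (inv_mem
      (Subgroup.mem_sup_left hi)) (Subgroup.mem_sup_right (Subgroup.mem_zpowers _))) v)

theorem card_D : Nat.card c.D = p ^ 3 := by
  have hlt : c.D < c.N := lt_of_le_of_ne c.D_le fun e => c.e_notMem (e.ge c.eN)
  have h1 := c.card_le_sup c.d_notMem_I
  have h2 := c.card_le_mul hlt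
  rw [c.hI, ← pow_succ] at h1
  rw [c.hN, pow_succ] at h2
  exact le_antisymm (Nat.le_of_mul_le_mul_right h2 hp.out.pos) h1

theorem N_eq : c.D ⊔ Subgroup.zpowers c.e = c.N := by
  refine Subgroup.eq_of_le_of_card_ge (sup_le c.D_le (Subgroup.zpowers_le.2 c.eN)) ?_
  have := c.card_le_sup c.e_notMem
  rwa [c.card_D, ← pow_succ, ← c.hN] at this

theorem top_eq : c.N ⊔ Subgroup.zpowers c.y = ⊤ := by
  refine Subgroup.eq_top_of_card_eq _ (le_antisymm (Subgroup.card_le_card_group _) ?_)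
  have := c.card_le_sup c.yN
  rwa [c.hN, ← pow_succ, ← c.hG] at this

/-- A subgroup containing `D`, `e` and `y` is everything. -/
theorem eq_top_of_mem {K : Subgroup G} (hD : c.D ≤ K) (he : c.e ∈ K) (hy : c.y ∈ K) : K = ⊤ := by
  rw [eq_top_iff, ← c.top_eq, ← c.N_eq]
  exact sup_le (sup_le hD (Subgroup.zpowers_le.2 he)) (Subgroup.zpowers_le.2 hy)

theorem comm_d_mem (g : G) : ⁅c.d, g⁆ ∈ c.I := by
  refine comm_mem_of_commute_mk ?_
  set q := QuotientGroup.mk' c.I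
  have hq : IsPGroup p (G ⧸ c.I) := c.isPGroup.to_quotient c.I
  have hcard : Nat.card (G ⧸ c.I) = p ^ 3 := by
    have h1 := c.I.card_mul_index
    rw [c.hI, c.hG, show p ^ 5 = p ^ 2 * p ^ 3 by ring] at h1
    exact Nat.eq_of_mul_eq_mul_left (pow_pos hp.out.pos 2) h1
  haveI : Nontrivial (G ⧸ c.I) := Finite.one_lt_card_iff_nontrivial.1
    (by rw [hcard]; exact Nat.one_lt_pow (by norm_num) hp.out.one_lt)
  haveI := hq.center_nontrivial
  have hcen : commutator (G ⧸ c.I) ≤ Subgroup.center (G ⧸ c.I) := by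
    obtain ⟨k, hk⟩ := IsPGroup.iff_card.1 (hq.to_subgroup (Subgroup.center (G ⧸ c.I)))
    have hk0 : k ≠ 0 := fun h0 => absurd
      (Finite.one_lt_card_iff_nontrivial.2 (inferInstance : Nontrivial (Subgroup.center (G ⧸ c.I))))
      (by rw [hk, h0, pow_zero]; exact lt_irrefl 1)
    have hmul := (Subgroup.center (G ⧸ c.I)).card_mul_index
    obtain ⟨j, -, hj⟩ := (Nat.dvd_prime_pow hp.out).1
      (show (Subgroup.center (G ⧸ c.I)).index ∣ p ^ 3 by rw [← hcard]; exact Subgroup.index_dvd_card _)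
    rw [hk, hj, hcard, ← pow_add] at hmul
    have := Nat.pow_right_injective hp.out.two_le hmul
    have hcomm : ∀ u v : (G ⧸ c.I) ⧸ Subgroup.center (G ⧸ c.I), u * v = v * u := by
      rcases (show j ≤ 1 ∨ j = 2 by omega) with hj1 | rfl
      · haveI : IsCyclic ((G ⧸ c.I) ⧸ Subgroup.center (G ⧸ c.I)) := by
          rcases Nat.le_one_iff_eq_zero_or_eq_one.1 hj1 with rfl | rfl
          · haveI : Subsingleton ((G ⧸ c.I) ⧸ Subgroup.center (G ⧸ c.I)) := by
              rw [← Finite.card_le_one_iff_subsingleton]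
              exact (hj.trans (pow_zero p)).le
            infer_instance
          · exact isCyclic_of_prime_card (p := p) (hj.trans (pow_one p))
        exact fun u v => Std.Commutative.comm (op := (· * ·)) (self := ⟨fun a b => by
          obtain ⟨w, hw⟩ := IsCyclic.exists_generator (α := (G ⧸ c.I) ⧸ Subgroup.center (G ⧸ c.I))
          obtain ⟨s, rfl⟩ := Subgroup.mem_zpowers_iff.1 (hw a)
          obtain ⟨t, rfl⟩ := Subgroup.mem_zpowers_iff.1 (hw b)
          exact ((Commute.refl w).zpow_zpow s t).eq⟩) u v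
      · exact fun u v => IsPGroup.commutative_of_card_eq_prime_sq (by rw [← hj]; rfl) u v
    rw [commutator_def, Subgroup.commutator_le]
    intro a _ b _
    exact comm_mem_of_commute_mk (hcomm _ _)
  refine (Subgroup.mem_center_iff.1 (hcen ?_) (q g)).symm
  show q ⁅c.e, c.y⁆ ∈ _
  rw [map_commutatorElement]
  exact Subgroup.commutator_mem_commutator (Subgroup.mem_top _) (Subgroup.mem_top _)

instance : c.D.Normal := by
  refine ⟨fun n hn g => ?_⟩
  obtain ⟨i, hi, w, hw, rfl⟩ := Subgroup.mem_sup_of_normal_left.1 hn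
  rw [← conj_mul]
  refine c.D.mul_mem (c.I_le_D (c.In.conj_mem i hi g)) ?_
  obtain ⟨k, rfl⟩ := Subgroup.mem_zpowers_iff.1 hw
  rw [← conj_zpow, show g * c.d * g⁻¹ = (g * ⁅c.d, g⁻¹⁆ * g⁻¹) * c.d by
    rw [commutatorElement_def]; group]
  exact c.D.zpow_mem (c.D.mul_mem (c.I_le_D (c.In.conj_mem _ (c.comm_d_mem _) g)) c.d_mem_D) k

/-- An element of `N` outside `D` is a power away from a conjugate of `e`. -/
theorem exists_conj {w : G} (hw : w ∈ c.N) (hwD : w ∉ c.D) :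
    ∃ (g : G) (j : ℤ), (w ^ j)⁻¹ * (g * c.e * g⁻¹) ∈ c.I := by
  rw [← c.N_eq] at hw
  obtain ⟨v, hv, u, hu, rfl⟩ := Subgroup.mem_sup_of_normal_left.1 hw
  obtain ⟨a, rfl⟩ := Subgroup.mem_zpowers_iff.1 hu
  obtain ⟨i, hi, u, hu, rfl⟩ := Subgroup.mem_sup_of_normal_left.1 hv
  obtain ⟨k, rfl⟩ := Subgroup.mem_zpowers_iff.1 hu
  obtain ⟨a', b, hab⟩ := (Nat.prime_iff_prime_int.1 hp.out).coprime_iff_not_dvd.2
    (show ¬ (p : ℤ) ∣ a by
      rintro ⟨q, rfl⟩
      refine hwD ?_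
      rw [zpow_mul, zpow_natCast, c.ep, one_zpow, mul_one]
      exact c.D.mul_mem (c.I_le_D hi) (c.D.zpow_mem c.d_mem_D k))
  let q := QuotientGroup.mk' c.I
  have hde : Commute (q c.d) (q c.e) := commute_mk (c.comm_d_mem _)
  have hdy : Commute (q c.d) (q c.y) := commute_mk (c.comm_d_mem _)
  have hye : q c.y * q c.e * (q c.y)⁻¹ = (q c.d)⁻¹ * q c.e := by
    rw [show c.d = ⁅c.e, c.y⁆ from rfl, map_commutatorElement, commutatorElement_def]; group
  have hit : ∀ m : ℕ, (q c.y) ^ m * q c.e * ((q c.y) ^ m)⁻¹ = (q c.d) ^ (-(m : ℤ)) * q c.e := by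
    intro m
    induction m with
    | zero => simp
    | succ m ih =>
      calc (q c.y) ^ (m + 1) * q c.e * ((q c.y) ^ (m + 1))⁻¹
          = q c.y * ((q c.y) ^ m * q c.e * ((q c.y) ^ m)⁻¹) * (q c.y)⁻¹ := by
            rw [pow_succ', mul_inv_rev]; simp only [mul_assoc]
        _ = (q c.y * (q c.d) ^ (-(m : ℤ)) * (q c.y)⁻¹) * (q c.y * q c.e * (q c.y)⁻¹) := by
            rw [ih]; group
        _ = (q c.d) ^ (-((m + 1 : ℕ) : ℤ)) * q c.e := by
            rw [hye, ← (hdy.zpow_left _).eq, mul_inv_cancel_right, ← mul_assoc, ← zpow_neg_one,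
              ← zpow_add]
            congr 2
            push_cast; ring
  have hit' : ∀ m : ℤ, ∃ g : G, q (g * c.e * g⁻¹) = (q c.d) ^ m * q c.e := fun m => by
    obtain ⟨P, hP⟩ := c.isPGroup c.d
    have hP' : q c.d ^ ((p ^ P : ℕ) : ℤ) = 1 := by rw [zpow_natCast, ← map_pow, hP, map_one]
    refine ⟨c.y ^ ((-m) % ((p ^ P : ℕ) : ℤ)).toNat, ?_⟩
    rw [map_mul, map_mul, map_inv, map_pow, hit]
    congr 1
    rw [Int.toNat_of_nonneg (Int.emod_nonneg _ (by simp [hp.out.ne_zero])), Int.emod_def, neg_sub,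
      sub_neg_eq_add, zpow_add, zpow_mul, hP', one_zpow, one_mul]
  obtain ⟨g, hg⟩ := hit' (k * b)
  refine ⟨g, b, ?_⟩
  rw [← QuotientGroup.eq]
  change q ((i * c.d ^ k * c.e ^ a) ^ b) = q (g * c.e * g⁻¹)
  rw [hg, map_zpow, map_mul, map_mul, show q i = 1 from (QuotientGroup.eq_one_iff _).2 hi, one_mul,
    map_zpow, map_zpow, (hde.zpow_zpow k a).mul_zpow, ← zpow_mul, ← zpow_mul]
  congr 1
  conv_rhs => rw [← zpow_one (q c.e), ← hab, zpow_add, mul_comm a' (p : ℤ), zpow_mul (q c.e) (p : ℤ) a',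
    zpow_natCast, ← map_pow, c.ep, map_one, one_zpow, one_mul, mul_comm b a]

end CubeData

end Cfsg.Agent.Lib.FusionOrderFive
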