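import Cfsg.Agent.Lib.FusionOrderFive.Tools

/-!
An automorphism inverting the top layer and fixing the middle one of an abelian quotient gives a
proper subgroup containing every focal quotient of the automorphisms of `S`.
-/

set_option autoImplicit false
set_option linter.unusedSectionVars false

namespace Cfsg.Agent.Lib.FusionOrderFive

open Cfsg Cfsg.FusionSystem Cfsg.Agent.Lib.Fusion Cfsg.Agent.Lib.Fusion87
open scoped commutatorElement

universe u

/-- Subgroups containing the commutators are normal. -/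
theorem normal_of_commutator_le' {G : Type*} [Group G] {A : Subgroup G} (h : commutator G ≤ A) :
    A.Normal :=
  ⟨fun n hn g => by
    rw [show g * n * g⁻¹ = ⁅g, n⁆ * n by rw [commutatorElement_def]; group]
    exact A.mul_mem (h (Subgroup.commutator_mem_commutator (Subgroup.mem_top g) (Subgroup.mem_top n))) hn⟩

/-- In a `p`-group of odd order an element is in a subgroup as soon as its square is. -/
theorem mem_of_sq_mem {G : Type*} [Group G] {p : ℕ} [Fact p.Prime] (hG : IsPGroup p G) (hp2 : p ≠ 2)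
    {M : Subgroup G} {m : G} (h : m * m ∈ M) : m ∈ M := by
  obtain ⟨n, hn⟩ := hG m
  obtain ⟨k, hk⟩ := (Nat.Prime.odd_of_ne_two (Fact.out : p.Prime) hp2).pow (n := n)
  have e : m = (m * m) ^ (k + 1) := by
    rw [← pow_two, ← pow_mul, show 2 * (k + 1) = (2 * k + 1) + 1 by ring, pow_succ, ← hk, hn, one_mul]
  rw [e]
  exact M.pow_mem h _

variable {Ω : Type u} [Group Ω] {S : Subgroup Ω} [Finite S] {F : FusionSystem S} {p : ℕ}
  [hp : Fact p.Prime] (hS : IsPGroup p S) (hF : F.IsSaturated p)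

include hS hF

theorem isFullyNormalized_self : F.IsFullyNormalized S := by
  haveI := finite_normalizerIn (S := S) S
  exact ⟨le_rfl, fun Q _ => Subgroup.card_le_of_le
    (le_inf inf_le_left (inf_le_left.trans Subgroup.le_normalizer))⟩

/-- An automorphism trivial on the steps of `A ≤ D ≤ S` is trivial modulo `A`. -/
theorem fix_mod_of_series {A D : Subgroup S} (hab : commutator S ≤ A) (hpow : ∀ d ∈ D, d ^ p ∈ A)
    (hinv : ∀ δ ∈ F.autGroup S, ∀ a ∈ A, δ a ∈ A) {φ : MulAut S} (hφ : φ ∈ F.autGroup S)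
    (h1 : ∀ g, g⁻¹ * φ g ∈ D) (h2 : ∀ d ∈ D, d⁻¹ * φ d ∈ A) : ∀ g, g⁻¹ * φ g ∈ A := by
  haveI := normal_of_commutator_le' hab
  haveI := finite_autGroup (F := F) (le_refl S)
  let K : Subgroup (F.autGroup S) :=
    { carrier := {x | ∀ g, g⁻¹ * (x : MulAut S) g ∈ A}
      one_mem' := fun g => by simp
      mul_mem' := by
        intro a b ha hb g
        have := A.mul_mem (hb g) (ha ((b : MulAut S) g))
        rwa [mul_assoc, mul_inv_cancel_left] at this
      inv_mem' := by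
        intro a ha g
        have := A.inv_mem (ha (((a⁻¹ : F.autGroup S) : MulAut S) g))
        rwa [mul_inv_rev, inv_inv, Subgroup.coe_inv, MulAut.apply_inv_self] at this }
  haveI hKn : K.Normal := ⟨fun x hx δ g => by
    have := hinv δ δ.2 _ (hx (((δ⁻¹ : F.autGroup S) : MulAut S) g))
    rw [map_mul, map_inv, Subgroup.coe_inv, MulAut.apply_inv_self] at this
    simpa using this⟩
  obtain ⟨-, Q, hQ⟩ := isFullyAutomized_of_isFullyNormalized hS hF (isFullyNormalized_self hS hF)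
  have hQK : (Q : Subgroup (F.autGroup S)) ≤ K := by
    intro x hx g
    rw [hQ, Subgroup.mem_subgroupOf] at hx
    obtain ⟨s, hs, h⟩ := mem_autInducedBy.1 hx
    rw [show (x : MulAut S) g = ⟨s, hs⟩ * g * (⟨s, hs⟩ : S)⁻¹ from Subtype.ext (h g),
      show g⁻¹ * (⟨s, hs⟩ * g * (⟨s, hs⟩ : S)⁻¹) = ⁅g⁻¹, ⟨s, hs⟩⁆ by rw [commutatorElement_def]; group]
    exact hab (Subgroup.commutator_mem_commutator (Subgroup.mem_top _) (Subgroup.mem_top _))
  have hcop : Nat.Coprime K.index p := by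
    refine ((Nat.Prime.coprime_iff_not_dvd hp.out).2 fun hd => ?_).symm
    exact Q.not_dvd_index (hd.trans (Subgroup.index_dvd_of_le hQK))
  let x : F.autGroup S := ⟨φ, hφ⟩
  have hit : ∀ (k : ℕ) g, (g * (g⁻¹ * φ g) ^ k)⁻¹ * (φ ^ k) g ∈ A := by
    intro k g
    induction k with
    | zero => simp
    | succ k ih =>
      set d := g⁻¹ * φ g
      have e1 : φ g = g * d := (mul_inv_cancel_left _ _).symm
      have h3 := hinv φ hφ _ ih
      rw [pow_succ' φ, MulAut.mul_apply]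
      rw [map_mul, map_inv, map_mul, map_pow, e1] at h3
      rw [← QuotientGroup.eq] at h3 ⊢
      have h4 : ((φ d : S) : S ⧸ A) = d := (QuotientGroup.eq.2 (h2 d (h1 g))).symm
      rw [← h3]
      simp only [QuotientGroup.mk_mul, QuotientGroup.mk_pow, h4, pow_succ', mul_assoc]
  have hp' : x ^ p ∈ K := fun g => by
    have h3 := hit p g
    rw [← QuotientGroup.eq] at h3 ⊢
    rw [show ((x ^ p : F.autGroup S) : MulAut S) = φ ^ p from rfl, ← h3, QuotientGroup.mk_mul,
      (QuotientGroup.eq_one_iff _).2 (hpow _ (h1 g)), mul_one]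
  have hi' : x ^ K.index ∈ K := Subgroup.pow_index_mem K x
  have : x ∈ K := by
    obtain ⟨u, v, huv⟩ := Nat.isCoprime_iff_coprime.2 hcop
    rw [← zpow_one x, ← huv, zpow_add, mul_comm u, mul_comm v, zpow_mul, zpow_mul, zpow_natCast,
      zpow_natCast]
    exact K.mul_mem (K.zpow_mem hi' u) (K.zpow_mem hp' v)
  exact this

/-- The proper subgroup containing every focal quotient of the automorphisms of `S`. -/
theorem exists_split (hp2 : p ≠ 2) {A D : Subgroup S} (hab : commutator S ≤ A)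
    (hpow : ∀ d ∈ D, d ^ p ∈ A) {d₀ : S} (hd₀ : d₀ ∈ D) (hd₀A : d₀ ∉ A) (hAD : A ≤ D)
    (hinv : ∀ δ ∈ F.autGroup S, ∀ a ∈ A, δ a ∈ A)
    (hfix : ∀ δ ∈ F.autGroup S, ∀ d ∈ D, d⁻¹ * δ d ∈ A) {β : MulAut S} (hβ : β ∈ F.autGroup S)
    (hneg : ∀ g, β g * g ∈ D) :
    ∃ M : Subgroup S, M ≠ ⊤ ∧ commutator S ≤ M ∧ (∀ g, g ^ p ∈ M) ∧
      ∀ δ ∈ F.autGroup S, ∀ g, g⁻¹ * δ g ∈ M := by
  haveI := normal_of_commutator_le' hab
  haveI := normal_of_commutator_le' (hab.trans hAD)
  letI : CommGroup (S ⧸ A) := { (inferInstance : Group (S ⧸ A)) with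
    mul_comm := fun u v => QuotientGroup.induction_on u fun a => QuotientGroup.induction_on v fun b => by
      rw [← QuotientGroup.mk_mul, ← QuotientGroup.mk_mul, QuotientGroup.eq]
      rw [show (a * b)⁻¹ * (b * a) = ⁅b⁻¹, a⁻¹⁆ by rw [commutatorElement_def]; group]
      exact hab (Subgroup.commutator_mem_commutator (Subgroup.mem_top _) (Subgroup.mem_top _)) }
  let π := QuotientGroup.mk' A
  let π' := QuotientGroup.mk' D
  let f : S →* S ⧸ A := π.comp β.toMonoidHom * π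
  have hf : ∀ g, f g = π (β g) * π g := fun g => rfl
  have hA0 : ∀ a ∈ A, π a = 1 := fun a ha => (QuotientGroup.eq_one_iff a).2 ha
  have hAf : A ≤ f.ker := fun a ha => MonoidHom.mem_ker.2 (by
    rw [hf, hA0 a ha, hA0 _ (hinv β hβ a ha), one_mul])
  have hfixπ : ∀ δ ∈ F.autGroup S, ∀ d ∈ D, π (δ d) = π d := fun δ hδ d hd =>
    (QuotientGroup.eq.2 (hfix δ hδ d hd)).symm
  have hD : ∀ δ ∈ F.autGroup S, ∀ d ∈ D, δ d ∈ D := fun δ hδ d hd => by
    have := D.mul_mem hd (hAD (hfix δ hδ d hd))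
    rwa [mul_inv_cancel_left] at this
  have hneg' : ∀ g, π' (β g) = (π' g)⁻¹ := fun g =>
    eq_inv_of_mul_eq_one_left (by rw [← map_mul]; exact (QuotientGroup.eq_one_iff _).2 (hneg g))
  -- every automorphism commutes with `β` modulo `A`
  have hcomm : ∀ δ ∈ F.autGroup S, ∀ g, π (β (δ g)) = π (δ (β g)) := by
    intro δ hδ g
    have hm : δ⁻¹ * β⁻¹ * δ * β ∈ F.autGroup S :=
      mul_mem (mul_mem (mul_mem (inv_mem hδ) (inv_mem hβ)) hδ) hβ
    have h1 : ∀ g, g⁻¹ * (δ⁻¹ * β⁻¹ * δ * β) g ∈ D := by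
      intro g
      rw [← QuotientGroup.eq]
      change π' g = π' (δ⁻¹ (β⁻¹ (δ (β g))))
      have hd : ∀ (γ : MulAut S), γ ∈ F.autGroup S → ∀ a b, π' a = π' b → π' (γ a) = π' (γ b) :=
        fun γ hγ a b h => QuotientGroup.eq.2 (by
          rw [← map_inv, ← map_mul]; exact hD γ hγ _ (QuotientGroup.eq.1 h))
      have e1 := hd δ hδ (β g) g⁻¹ (by rw [hneg', map_inv])
      have e2 : π' (β⁻¹ (δ (β g))) = π' (δ g) := by
        refine (hd β⁻¹ (inv_mem hβ) _ (β (δ g)) ?_).trans (by rw [MulAut.inv_apply_self])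
        rw [e1, hneg', map_inv, map_inv]
      refine (Eq.trans (hd δ⁻¹ (inv_mem hδ) _ _ e2) (by rw [MulAut.inv_apply_self])).symm
    have h2 : ∀ d ∈ D, d⁻¹ * (δ⁻¹ * β⁻¹ * δ * β) d ∈ A := fun d hd => hfix _ hm d hd
    have h3 := QuotientGroup.eq.2 (fix_mod_of_series hS hF hab hpow hinv hm h1 h2 g)
    have key : ∀ (γ : MulAut S), γ ∈ F.autGroup S → ∀ a b, π a = π b → π (γ a) = π (γ b) :=
      fun γ hγ a b h => QuotientGroup.eq.2 (by
        rw [← map_inv, ← map_mul]; exact hinv γ hγ _ (QuotientGroup.eq.1 h))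
    have h4 := key (β * δ) (mul_mem hβ hδ) _ _ h3
    simpa [MulAut.mul_apply] using h4
  have hsq : ∀ g, π (β (β g)) = π g := by
    have hm : β * β ∈ F.autGroup S := mul_mem hβ hβ
    intro g
    refine (QuotientGroup.eq.2 (fix_mod_of_series hS hF hab hpow hinv hm (fun g => ?_)
      (fun d hd => hfix _ hm d hd) g)).symm
    rw [← QuotientGroup.eq]
    change π' g = π' (β (β g))
    rw [hneg', hneg', inv_inv]
  refine ⟨f.ker, fun htop => hd₀A ?_, hab.trans hAf, fun g => MonoidHom.mem_ker.2 ?_, ?_⟩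
  · have h0 : f d₀ = 1 := MonoidHom.mem_ker.1 (htop ▸ Subgroup.mem_top d₀)
    rw [hf, hfixπ β hβ d₀ hd₀, ← map_mul] at h0
    exact mem_of_sq_mem hS hp2 ((QuotientGroup.eq_one_iff _).1 h0)
  · rw [map_pow, hf, ← map_mul]
    exact (map_pow π _ p).symm.trans (hA0 _ (hpow _ (hneg g)))
  intro δ hδ g
  refine mem_of_sq_mem hS hp2 ?_
  rw [MonoidHom.mem_ker, map_mul, hf]
  simp only [map_mul, map_inv]
  have hw : π (δ (β g)) * π (δ g) = π (β g) * π g := by
    rw [← map_mul, ← map_mul, ← map_mul]; exact hfixπ δ hδ _ (hneg g)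
  have h2 : π (β (δ g)) * π (δ g) = π (β g) * π g := by rw [hcomm δ hδ g, hw]
  calc (π (β g))⁻¹ * π (β (δ g)) * ((π g)⁻¹ * π (δ g)) *
        ((π (β g))⁻¹ * π (β (δ g)) * ((π g)⁻¹ * π (δ g)))
      = (π (β (δ g)) * π (δ g) / (π (β g) * π g)) ^ 2 := by
        simp only [div_eq_mul_inv, mul_inv_rev, sq, mul_assoc, mul_comm, mul_left_comm]
    _ = 1 := by rw [h2, div_self', one_pow]

end Cfsg.Agent.Lib.FusionOrderFive
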