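import Cfsg.Agent.Lib.FusionOrderFive.Axis
import Cfsg.Agent.Lib.FusionOrderFive.Split
import Cfsg.Agent.Lib.Fusion.ModT

/-!
The hyperfocal subgroup lies in a proper subgroup once the automorphisms of `S` are split.
-/

set_option autoImplicit false
set_option linter.unusedSectionVars false

namespace Cfsg.Agent.Lib.FusionOrderFive

open Cfsg Cfsg.FusionSystem Cfsg.Agent.Lib.Fusion Cfsg.Agent.Lib.Fusion87
open scoped commutatorElement

universe u

variable {Ω : Type u} [Group Ω]

/-- Every element of the normaliser acts on the Frattini quotient of `R` with displacements on one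
cyclic fixed subgroup. -/
def RankOne (S R : Subgroup Ω) : Prop :=
  ∀ x ∈ S, ∀ hn : x ∈ Subgroup.normalizer (R : Set Ω), ∃ z : R ⧸ frattini R,
    quotHom R (conjAut R x hn) z = z ∧ ∀ v, ∃ i : ℤ, quotHom R (conjAut R x hn) v = v * z ^ i

/-- A proper subgroup with all focal quotients of `Aut_F(S)`, and the rank one property of the
essential subgroups of order `p ^ 4`. -/
def SplitConclusion {S : Subgroup Ω} (p : ℕ) (F : FusionSystem S) : Prop :=
  (∃ M : Subgroup S, M ≠ ⊤ ∧ commutator S ≤ M ∧ (∀ g, g ^ p ∈ M) ∧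
    ∀ δ ∈ F.autGroup S, ∀ g, g⁻¹ * δ g ∈ M) ∧
  ∀ R, F.IsEssential p R → Nat.card R = p ^ 4 → (frattini R).index = p ^ 3 → RankOne S R

variable {S : Subgroup Ω} [Finite S] {F : FusionSystem S} {p : ℕ} [hp : Fact p.Prime]
  (h : Setup p S F)

include h

/-- The transvection of a subgroup whose Frattini quotient is a plane. -/
theorem rankOne_of_index_sq {R : Subgroup Ω} (hRS : R ≤ S) (hi : (frattini R).index = p ^ 2) :
    RankOne S R := by
  intro x hx hn
  haveI := finite_of_le hRS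
  obtain ⟨-, z, -, hz⟩ := plane_data (comm_quot (h.hS.to_le hRS)) (by rw [← hi]; rfl)
    (T := (autInducedBy S R).map (quotHom R)) ((isPGroup_autInducedBy h.hS).map _)
  exact ⟨z, hz _ (Subgroup.mem_map_of_mem _ (mem_autInducedBy_normalizer.2 ⟨x, hn, hx, rfl⟩))⟩

/-- The transvection of an essential subgroup, given the case of order `p ^ 4`. -/
theorem rankOne_of_essential (h81 : ∀ R, F.IsEssential p R → Nat.card R = p ^ 4 →
      (frattini R).index = p ^ 3 → RankOne S R) {R : Subgroup Ω} (hE : F.IsEssential p R) :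
    (frattini R).index = p ^ 2 ∧ RankOne S R ∨ (frattini R).index = p ^ 3 ∧ RankOne S R := by
  have hRS := hE.1.1
  haveI := finite_of_le hRS
  have hRp := h.hS.to_le hRS
  obtain ⟨j, hj5, hj⟩ := exists_card h hRS
  have hj4 : j ≤ 4 := by
    by_contra hlt
    refine AbelianMaximal.ne_of_isEssential h.hS h.hF hE ?_
    exact Subgroup.eq_of_le_of_card_ge hRS (by rw [hj, h.hcard, show j = 5 by omega])
  have hmul := Subgroup.card_mul_index (frattini R)
  obtain ⟨k, hk⟩ := IsPGroup.iff_card.1 (hRp.to_subgroup (frattini R))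
  obtain ⟨i, -, hi⟩ := (Nat.dvd_prime_pow hp.out).1
    (show (frattini R).index ∣ p ^ j by rw [← hj]; exact Subgroup.index_dvd_card _)
  rw [hk, hi, hj, ← pow_add] at hmul
  have hki := Nat.pow_right_injective hp.out.two_le hmul
  rcases (show i ≤ 1 ∨ i = 2 ∨ i = 3 ∨ i = 4 by omega) with h1 | rfl | rfl | rfl
  · exfalso
    refine not_isCyclic_of_isEssential h.hS hE ?_
    haveI : IsCyclic (R ⧸ frattini R) := by
      rcases Nat.le_one_iff_eq_zero_or_eq_one.1 h1 with rfl | rfl
      · haveI : Subsingleton (R ⧸ frattini R) := by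
          rw [← Finite.card_le_one_iff_subsingleton]
          exact (show Nat.card (R ⧸ frattini R) = 1 by rw [← pow_zero p, ← hi]; rfl).le
        infer_instance
      · exact isCyclic_of_prime_card (p := p)
          (show Nat.card (R ⧸ frattini R) = p by rw [← pow_one p, ← hi]; rfl)
    obtain ⟨g, hg⟩ := IsCyclic.exists_generator (α := R ⧸ frattini R)
    obtain ⟨g, rfl⟩ := QuotientGroup.mk_surjective g
    have htop : Subgroup.zpowers g ⊔ frattini R = ⊤ := eq_top_iff.2 fun x _ => by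
      obtain ⟨m, hm⟩ := Subgroup.mem_zpowers_iff.1 (hg x)
      rw [← QuotientGroup.mk_zpow, QuotientGroup.eq] at hm
      rw [← mul_inv_cancel_left (g ^ m) x]
      exact mul_mem (Subgroup.mem_sup_left (Subgroup.zpow_mem _ (Subgroup.mem_zpowers g) m))
        (Subgroup.mem_sup_right hm)
    exact ⟨g, fun x => (frattini_nongenerating htop).ge (Subgroup.mem_top x)⟩
  · exact Or.inl ⟨hi, rankOne_of_index_sq h hRS hi⟩
  · refine Or.inr ⟨hi, ?_⟩
    rcases (show j = 3 ∨ j = 4 by omega) with rfl | rfl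
    swap
    · exact h81 R hE hj hi
    have hb : frattini R = ⊥ := Subgroup.card_eq_one.1 (by rw [hk, show k = 0 by omega, pow_zero])
    have hab : ∀ a b : R, a * b = b * a := fun a b => commutatorElement_eq_one_iff_mul_comm.1
      (Subgroup.mem_bot.1 (hb ▸ Lib.PFrattini.commutator_le_frattini hRp
        (Subgroup.commutator_mem_commutator (Subgroup.mem_top a) (Subgroup.mem_top b))))
    have hexp : ∀ a : R, a ^ p = 1 := fun a =>
      Subgroup.mem_bot.1 (hb ▸ Lib.PFrattini.pow_mem_frattini hRp a)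
    obtain ⟨-, -, hI, hIR, hcomm⟩ := normalizer_facts h hE hab hexp hj
    intro x hx hn
    set N := normalizerIn S R
    have hxN : x ∈ N := ⟨hx, hn⟩
    have hRN : R ≤ N := le_normalizerIn hRS
    set I := centralizerIn N N
    haveI : Finite I := finite_of_le (hIR.trans hRS)
    have hfix : ∀ w ∈ I, x * w * x⁻¹ = w := fun w hw => by
      rw [Subgroup.mem_centralizer_iff.1 hw.2 x hxN, mul_inv_cancel_right]
    obtain ⟨r, hr, hrI⟩ : ∃ r ∈ R, r ∉ I := by
      by_contra hall
      push Not at hall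
      have := Subgroup.card_le_of_le (K := I) hall
      rw [hI, hj, Nat.pow_le_pow_iff_right hp.out.one_lt] at this
      omega
    have hgen : I ⊔ Subgroup.zpowers r = R := by
      refine Subgroup.eq_of_le_of_card_ge (sup_le hIR (Subgroup.zpowers_le.2 hr)) ?_
      have := card_mul_le h ((sup_le hIR (Subgroup.zpowers_le.2 hr)).trans hRS)
        (lt_of_le_of_ne le_sup_left fun e => hrI (e.ge (Subgroup.mem_sup_right (Subgroup.mem_zpowers r)))
          : I < I ⊔ Subgroup.zpowers r)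
      rwa [hI, ← pow_succ, ← hj] at this
    have hzI : ⁅x, r⁆ ∈ I := hcomm x hxN r (hRN hr)
    refine ⟨((⟨⁅x, r⁆, hIR hzI⟩ : R) : R ⧸ frattini R), ?_, fun v => ?_⟩
    · rw [quotHom_mk]
      exact congrArg _ (Subtype.ext (hfix _ hzI))
    obtain ⟨v, rfl⟩ := QuotientGroup.mk_surjective v
    haveI : (I.subgroupOf R).Normal := ⟨fun n hn g => by
      rw [hab g n, mul_inv_cancel_right]; exact hn⟩
    have hv : v ∈ I.subgroupOf R ⊔ Subgroup.zpowers (⟨r, hr⟩ : R) := by
      refine (Subgroup.mem_sup_of_normal_left).2 ?_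
      have hle : I ≤ Subgroup.normalizer ((Subgroup.zpowers r : Subgroup Ω) : Set Ω) := fun w hw =>
        Subgroup.mem_normalizer_iff.2 fun n => by
          constructor <;> intro hn'
          · obtain ⟨m, rfl⟩ := Subgroup.mem_zpowers_iff.1 hn'
            rw [← Subgroup.mem_centralizer_iff.1 hw.2 _ (hRN (R.zpow_mem hr m)), mul_inv_cancel_right]
            exact hn'
          · obtain ⟨m, hm⟩ := Subgroup.mem_zpowers_iff.1 hn'
            refine Subgroup.mem_zpowers_iff.2 ⟨m, mul_left_cancel (a := w) (mul_right_cancel (b := w⁻¹) ?_)⟩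
            rw [← hm, ← Subgroup.mem_centralizer_iff.1 hw.2 _ (hRN (R.zpow_mem hr m)),
              mul_inv_cancel_right]
      have hmem : (v : Ω) ∈ (↑(I ⊔ Subgroup.zpowers r) : Set Ω) := hgen.ge v.2
      rw [Subgroup.coe_mul_of_left_le_normalizer_right I _ hle] at hmem
      obtain ⟨w, hw, _, ⟨m, rfl⟩, he⟩ := hmem
      exact ⟨⟨w, hIR hw⟩, hw, ⟨r, hr⟩ ^ m, Subgroup.zpow_mem _ (Subgroup.mem_zpowers _) m,
        Subtype.ext (by simpa using he)⟩
    obtain ⟨w, hw, _, ⟨m, rfl⟩, rfl⟩ := Subgroup.mem_sup_of_normal_left.1 hv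
    refine ⟨m, ?_⟩
    rw [quotHom_mk, ← QuotientGroup.mk_zpow, ← QuotientGroup.mk_mul]
    refine congrArg _ (Subtype.ext ?_)
    rw [conjAut_apply]
    push_cast
    have e : x * r * x⁻¹ = ⁅x, r⁆ * r := by rw [commutatorElement_def]; group
    have hc : Commute ⁅x, r⁆ r := congrArg Subtype.val (hab ⟨_, hIR hzI⟩ ⟨r, hr⟩)
    rw [← conj_mul, hfix _ (Subgroup.mem_subgroupOf.1 hw), ← conj_zpow, e, hc.mul_zpow, mul_assoc,
      (hc.zpow_zpow m m).eq]
  · exfalso
    have hb : frattini R = ⊥ := Subgroup.card_eq_one.1 (by rw [hk, show k = 0 by omega, pow_zero])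
    refine h.hno R hRS (fun a ha b hb' => ?_) (by rw [hj, show j = 4 by omega])
    let u : R := ⟨a, ha⟩
    let v : R := ⟨b, hb'⟩
    have h1 : ⁅u, v⁆ ∈ frattini R := Lib.PFrattini.commutator_le_frattini hRp
      (Subgroup.commutator_mem_commutator (Subgroup.mem_top u) (Subgroup.mem_top v))
    rw [hb, Subgroup.mem_bot, commutatorElement_eq_one_iff_mul_comm] at h1
    exact congrArg Subtype.val h1

/-- The focal quotients of an automorphism of an essential subgroup. -/
theorem good_essential {M : Subgroup S} (hMc : commutator S ≤ M) (hMp : ∀ g, g ^ p ∈ M)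
    {R : Subgroup Ω} (hE : F.IsEssential p R)
    (hr : (frattini R).index = p ^ 2 ∨ (frattini R).index = p ^ 3) (hR1 : RankOne S R)
    (hbig : ∀ Q : Subgroup Ω, Nat.card R < Nat.card Q → ∀ ψ ∈ F.Hom Q, ∀ x : Q,
      (x : Ω)⁻¹ * ψ x ∈ M.map S.subtype)
    {α : MulAut R} (hα : α ∈ F.autGroup R) (r : R) :
    (r : Ω)⁻¹ * (α r : R) ∈ M.map S.subtype := by
  have hRS := hE.1.1
  haveI := finite_of_le hRS
  haveI := finite_autGroup (F := F) hRS
  haveI := finite_normalizerIn (S := S) R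
  set M' : Subgroup R := (M.map S.subtype).subgroupOf R
  have hM' : ∀ v : R, v ∈ M' ↔ (⟨v, hRS v.2⟩ : S) ∈ M := fun v => by
    rw [Subgroup.mem_subgroupOf]
    exact ⟨fun ⟨w, hw, he⟩ => (Subtype.ext he : w = ⟨v, hRS v.2⟩) ▸ hw, fun hw => ⟨_, hw, rfl⟩⟩
  have hΦ : frattini R ≤ M' := by
    refine Lib.PFrattini.frattini_le (p := p) ?_ fun v => (hM' _).2 (hMp ⟨v, hRS v.2⟩)
    rw [commutator_def, Subgroup.commutator_le]
    intro a _ b _
    exact (hM' _).2 (hMc (Subgroup.commutator_mem_commutator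
      (Subgroup.mem_top (⟨a, hRS a.2⟩ : S)) (Subgroup.mem_top ⟨b, hRS b.2⟩)))
  let G₀ : Subgroup (F.autGroup R) :=
    { carrier := {γ | ∀ v : R, v⁻¹ * (γ : MulAut R) v ∈ M'}
      one_mem' := fun v => by simp
      mul_mem' := by
        intro a b ha hb v
        have := M'.mul_mem (hb v) (ha ((b : MulAut R) v))
        rwa [mul_assoc, mul_inv_cancel_left] at this
      inv_mem' := by
        intro a ha v
        have := M'.inv_mem (ha (((a⁻¹ : F.autGroup R) : MulAut R) v))
        rwa [mul_inv_rev, inv_inv, Subgroup.coe_inv, MulAut.apply_inv_self] at this }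
  suffices htop : G₀ = ⊤ from
    Subgroup.mem_subgroupOf.1 ((htop ▸ Subgroup.mem_top (⟨α, hα⟩ : F.autGroup R) :
      (⟨α, hα⟩ : F.autGroup R) ∈ G₀) r)
  have hlt : R < normalizerIn S R :=
    lt_normalizerIn h.hS (lt_of_le_of_ne hRS (AbelianMaximal.ne_of_isEssential h.hS h.hF hE))
  have hcardlt : Nat.card R < Nat.card (normalizerIn S R) :=
    lt_of_le_of_ne (Subgroup.card_le_of_le hlt.le) fun e =>
      hlt.ne (Subgroup.eq_of_le_of_card_ge hlt.le e.ge)
  have hgood : ∀ β ∈ F.autGroup R, (∀ b ∈ autInducedBy S R, β * b * β⁻¹ ∈ autInducedBy S R) →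
      ∀ v : R, v⁻¹ * β v ∈ M' := by
    intro β hβ hn v
    obtain ⟨γ, hγ, hγx⟩ := exists_extend h.hS h.hF hE.2.1 hβ hn
    have hv : (v : Ω) ∈ normalizerIn S R := hlt.le v.2
    have := hbig _ hcardlt _ (autGroup_hom_mem inf_le_left hγ) ⟨v, hv⟩
    change (v : Ω)⁻¹ * (γ ⟨v, hv⟩ : Ω) ∈ _ at this
    rw [hγx v hv] at this
    exact this
  have hsq : ∀ β ∈ F.autGroup R, (∀ b ∈ autInducedBy S R, β * b * β⁻¹ ∈ autInducedBy S R) →
      ∀ v : R, quotHom R β (v : R ⧸ frattini R) = (v : R ⧸ frattini R) ^ (-1 : ℤ) → v ∈ M' := by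
    intro β hβ hn v hv
    rw [quotHom_mk, zpow_neg_one, ← QuotientGroup.mk_inv, QuotientGroup.eq] at hv
    have h1 := M'.mul_mem (hgood β hβ hn v) (hΦ hv)
    rw [mul_assoc, ← mul_assoc (β v), mul_inv_cancel, one_mul, ← mul_inv_rev] at h1
    exact mem_of_sq_mem (h.hS.to_le hRS) h.hp2 (inv_mem_iff.1 h1)
  obtain ⟨-, Q, hQ⟩ := isFullyAutomized_of_isFullyNormalized h.hS h.hF hE.2.1
  -- the conjugates of the induced automorphisms are good
  have hconj : ∀ g ∈ F.autGroup R, ∀ a ∈ autInducedBy S R, ∀ v : R,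
      v⁻¹ * (g * a * g⁻¹) v ∈ M' := by
    intro g hg a ha v
    obtain ⟨x, hn, hx, rfl⟩ := mem_autInducedBy_normalizer.1 ha
    set s := g⁻¹ v
    have e : v⁻¹ * (g * conjAut R x hn * g⁻¹) v = g (s⁻¹ * conjAut R x hn s) := by
      rw [map_mul, map_inv, show g s = v from MulAut.apply_inv_self R g v]
      rfl
    rw [e]
    by_cases hx1 : quotHom R (conjAut R x hn) = 1
    · exact hΦ (Subgroup.characteristic_iff_le_comap.1 frattini_characteristic g
        (quotHom_eq_one.1 hx1 s))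
    obtain ⟨z, hz, hmove⟩ := hR1 x hx hn
    have hT := exists_moved h.hS h.hF hE h.hp2 hr ha hx1 hz hmove
    have key : ∀ g' ∈ F.autGroup R, quotHom R g' z ∉ Subgroup.zpowers z →
        ∀ w : R, ((w : R ⧸ frattini R) = z ∨ (w : R ⧸ frattini R) = quotHom R g' z) → w ∈ M' := by
      intro g' hg' hgz w hw
      obtain ⟨-, β, hβ, b1, b2, -, -, b5⟩ :=
        exists_torus_aut h.hS h.hF hE h.hp2 hr ha hx1 hz hmove hg' hgz (n := -1) (m := -1) (by simp)
      refine hsq β hβ b5 w ?_
      rcases hw with hw | hw <;> rw [hw]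
      exacts [b1, b2]
    obtain ⟨i, hi⟩ := hmove s
    obtain ⟨z', rfl⟩ := QuotientGroup.mk_surjective z
    obtain ⟨g₁, hg₁, hg₁z⟩ := hT
    have hz' : z' ∈ M' := key g₁ hg₁ hg₁z z' (Or.inl rfl)
    have hgz : g z' ∈ M' := by
      by_cases hin : quotHom R g (z' : R ⧸ frattini R) ∈ Subgroup.zpowers (z' : R ⧸ frattini R)
      · obtain ⟨k, hk⟩ := Subgroup.mem_zpowers_iff.1 hin
        rw [quotHom_mk, ← QuotientGroup.mk_zpow, QuotientGroup.eq] at hk
        have := M'.mul_mem (M'.zpow_mem hz' k) (hΦ hk)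
        rwa [mul_inv_cancel_left] at this
      · exact key g hg hin (g z') (Or.inr (quotHom_mk g z').symm)
    rw [quotHom_mk, ← QuotientGroup.mk_zpow, ← QuotientGroup.mk_mul, QuotientGroup.eq] at hi
    have hd : (z' ^ i)⁻¹ * (s⁻¹ * conjAut R x hn s) ∈ frattini R := by
      have h1 := (frattini R).inv_mem hi
      rw [mul_inv_rev, inv_inv] at h1
      have h2 : (z' ^ i)⁻¹ * (s⁻¹ * conjAut R x hn s) =
          ((conjAut R x hn s)⁻¹ * (s * z' ^ i))⁻¹ := by group
      rw [h2]; exact (frattini R).inv_mem hi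
    have h2 := hΦ (Subgroup.characteristic_iff_le_comap.1 frattini_characteristic g hd)
    change g ((z' ^ i)⁻¹ * (s⁻¹ * conjAut R x hn s)) ∈ M' at h2
    rw [map_mul, map_inv, map_zpow] at h2
    have := M'.mul_mem (M'.zpow_mem hgz i) h2
    rwa [mul_inv_cancel_left] at this
  set K := Subgroup.normalClosure ((Q : Subgroup (F.autGroup R)) : Set (F.autGroup R))
  haveI : K.Normal := Subgroup.normalClosure_normal
  have hKG : K ≤ G₀ := by
    refine (Subgroup.closure_le _).2 ?_
    intro b hb v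
    obtain ⟨a, ha, hab⟩ := Group.mem_conjugatesOfSet_iff.1 hb
    obtain ⟨c, rfl⟩ := isConj_iff.1 hab
    exact hconj c c.2 a (by rw [SetLike.mem_coe, hQ, Subgroup.mem_subgroupOf] at ha; exact ha) v
  have hNG : Subgroup.normalizer ((Q : Subgroup (F.autGroup R)) : Set (F.autGroup R)) ≤ G₀ := by
    intro b hb
    refine hgood b b.2 fun a ha => ?_
    have h1 := (Subgroup.mem_normalizer_iff.1 hb ⟨a, autInducedBy_le_autGroup hRS ha⟩).1
      (by rw [hQ, Subgroup.mem_subgroupOf]; exact ha)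
    rw [hQ, Subgroup.mem_subgroupOf] at h1
    exact h1
  rw [eq_top_iff, ← Sylow.normalizer_sup_eq_top' Q Subgroup.le_normalClosure]
  exact sup_le hNG hKG

/-- The hyperfocal subgroup is proper. -/
theorem hyperfocal_ne {M : Subgroup S} (hM : M ≠ ⊤) (hMc : commutator S ≤ M) (hMp : ∀ g, g ^ p ∈ M)
    (hMa : ∀ δ ∈ F.autGroup S, ∀ g, g⁻¹ * δ g ∈ M)
    (h81 : ∀ R, F.IsEssential p R → Nat.card R = p ^ 4 → (frattini R).index = p ^ 3 → RankOne S R) :
    F.hyperfocalSubgroup p ≠ S := by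
  set MS := M.map S.subtype with hMS
  have main : ∀ (P : Subgroup Ω) (φ : P →* Ω), φ ∈ F.Hom P → ∀ x : P, (x : Ω)⁻¹ * φ x ∈ MS := by
    refine hom_induction h.hS h.hF (fun P φ => ∀ x : P, (x : Ω)⁻¹ * φ x ∈ MS) ?_ ?_ ?_ ?_
    · intro P Q φ hle _ hC x
      exact hC (Subgroup.inclusion hle x)
    · intro P Q φ χ ψ _ _ hχ hC hC' x
      obtain ⟨hx, he⟩ := hχ x
      have := MS.mul_mem (hC x) (hC' ⟨φ x, hx⟩)
      rwa [mul_assoc, mul_inv_cancel_left, ← he] at this
    · intro P Q φ ψ _ _ hr h1 hC y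
      obtain ⟨x, hx⟩ := hr.ge y.2
      have hy : φ x ∈ Q := hr.le ⟨x, rfl⟩
      have h2 := MS.inv_mem (hC x)
      rw [mul_inv_rev, inv_inv, ← h1 x hy, show (⟨φ x, hy⟩ : Q) = y from Subtype.ext hx, hx] at h2
      exact h2
    · intro R hRa hRr hbig α hα
      rcases eq_or_lt_of_le hRr.1 with rfl | hlt
      · intro x
        exact ⟨_, hMa α hα x, rfl⟩
      have hfn := isFullyNormalized_of_automized_receptive h.hS hRa hRr
      by_cases hess : F.IsEssential p R
      · intro x
        rcases rankOne_of_essential h h81 hess with ⟨hi, hR1⟩ | ⟨hi, hR1⟩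
        exacts [good_essential h hMc hMp hess (Or.inl hi) hR1 hbig hα x,
          good_essential h hMc hMp hess (Or.inr hi) hR1 hbig hα x]
      rw [← isEssential_or_extendable_eq h.hS h.hF hlt hfn hess] at hα
      induction hα using Subgroup.closure_induction with
      | mem β hβ =>
        intro x
        obtain ⟨Q, hRQ, ψ, hψ, hh⟩ := hβ
        haveI := finite_of_le (src_le hψ)
        have hc : Nat.card R < Nat.card Q := lt_of_le_of_ne (Subgroup.card_le_of_le hRQ.le) fun e =>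
          hRQ.ne (Subgroup.eq_of_le_of_card_ge hRQ.le e.ge)
        rw [autHom_apply, ← hh x]
        exact hbig Q hc ψ hψ (Subgroup.inclusion hRQ.le x)
      | one => intro x; simp [autHom_apply]
      | mul a b _ _ ha hb =>
        intro x
        have := MS.mul_mem (hb x) (ha (b x))
        rwa [autHom_apply, mul_assoc, autHom_apply, mul_inv_cancel_left] at this
      | inv a _ ha =>
        intro x
        have := MS.inv_mem (ha (a⁻¹ x))
        rwa [mul_inv_rev, inv_inv, autHom_apply, MulAut.apply_inv_self] at this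
  intro heq
  refine hM (eq_top_iff.2 fun s _ => ?_)
  have hle : F.hyperfocalSubgroup p ≤ MS := by
    refine (Subgroup.closure_le _).2 ?_
    rintro _ ⟨P, α, x, hP, -, rfl⟩
    exact main P (autHom (α : MulAut P)) (autGroup_hom_mem hP α.2) x
  obtain ⟨w, hw, he⟩ := hle (heq.ge s.2)
  exact (Subtype.ext he : w = s) ▸ hw

theorem hyperfocal_ne_of_split (hC : SplitConclusion p F) : F.hyperfocalSubgroup p ≠ S := by
  obtain ⟨⟨M, h1, h2, h3, h4⟩, h5⟩ := hC
  exact hyperfocal_ne h h1 h2 h3 h4 h5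

end Cfsg.Agent.Lib.FusionOrderFive
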