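import Cfsg.Agent.Lib.FusionOrderFive.Axis

/-!
Small tools to pass between a subgroup `S` of the ambient group and the group `S` itself.
-/

set_option autoImplicit false
set_option linter.unusedSectionVars false

namespace Cfsg.Agent.Lib.FusionOrderFive

open Cfsg Cfsg.FusionSystem Cfsg.Agent.Lib.Fusion Cfsg.Agent.Lib.Fusion87
open scoped commutatorElement

universe u

/-- Four nested subgroups, each generated by one more element, as a cyclic chain. -/
theorem exists_chain {D : Type*} [Group D] (K₁ K₂ K₃ : Subgroup D) [K₁.Normal] [K₂.Normal] [K₃.Normal]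
    (y₁ y₂ y₃ y₄ : D) (h1 : Subgroup.zpowers y₁ = K₁) (h2 : K₁ ⊔ Subgroup.zpowers y₂ = K₂)
    (h3 : K₂ ⊔ Subgroup.zpowers y₃ = K₃) (h4 : K₃ ⊔ Subgroup.zpowers y₄ = ⊤) :
    ∃ C : CyclicChain D, ∀ i, C.K i = ⊥ ∨ C.K i = K₁ ∨ C.K i = K₂ ∨ C.K i = K₃ ∨ C.K i = ⊤ := by
  have hstep : ∀ (H : Subgroup D) (_ : H.Normal) (y : D), ∀ g ∈ H ⊔ Subgroup.zpowers y,
      ∃ k : ℤ, (y ^ k)⁻¹ * g ∈ H := by
    intro H hH y g hg
    obtain ⟨w, hw, u, hu, rfl⟩ := Subgroup.mem_sup_of_normal_left.1 hg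
    obtain ⟨k, rfl⟩ := Subgroup.mem_zpowers_iff.1 hu
    exact ⟨k, by simpa [mul_assoc] using hH.conj_mem w hw (y ^ k)⁻¹⟩
  have hy : ∀ (H : Subgroup D) (y : D), y ∈ H ⊔ Subgroup.zpowers y := fun H y =>
    Subgroup.mem_sup_right (Subgroup.mem_zpowers y)
  refine ⟨{
    n := 4
    K := fun i => match i with
      | 0 => ⊥
      | 1 => K₁
      | 2 => K₂
      | 3 => K₃
      | _ => ⊤
    bot := rfl
    top := rfl
    le := fun i => ?_
    normal := fun i => ?_
    step := fun i => ?_ }, fun i => ?_⟩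
  · match i with
    | 0 => exact bot_le
    | 1 => exact h2 ▸ le_sup_left
    | 2 => exact h3 ▸ le_sup_left
    | 3 => exact le_top
    | (k + 4) => exact le_rfl
  · match i with
    | 0 => exact inferInstanceAs (⊥ : Subgroup D).Normal
    | 1 => assumption
    | 2 => assumption
    | 3 => assumption
    | (k + 4) => exact inferInstanceAs (⊤ : Subgroup D).Normal
  · match i with
    | 0 =>
      refine ⟨y₁, h1 ▸ Subgroup.mem_zpowers y₁, fun g hg => ?_⟩
      obtain ⟨k, hk⟩ := Subgroup.mem_zpowers_iff.1 (h1 ▸ hg : g ∈ Subgroup.zpowers y₁)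
      exact ⟨k, by simp [← hk]⟩
    | 1 => exact ⟨y₂, h2 ▸ hy _ _, fun g hg => hstep K₁ inferInstance y₂ g (h2 ▸ hg)⟩
    | 2 => exact ⟨y₃, h3 ▸ hy _ _, fun g hg => hstep K₂ inferInstance y₃ g (h3 ▸ hg)⟩
    | 3 => exact ⟨y₄, Subgroup.mem_top _, fun g hg => hstep K₃ inferInstance y₄ g (h4 ▸ hg)⟩
    | (k + 4) => exact ⟨1, Subgroup.mem_top _, fun g _ => ⟨0, Subgroup.mem_top _⟩⟩
  · match i with
    | 0 => exact Or.inl rfl
    | 1 => exact Or.inr (Or.inl rfl)
    | 2 => exact Or.inr (Or.inr (Or.inl rfl))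
    | 3 => exact Or.inr (Or.inr (Or.inr (Or.inl rfl)))
    | (k + 4) => exact Or.inr (Or.inr (Or.inr (Or.inr rfl)))

variable {Ω : Type u} [Group Ω] {S : Subgroup Ω} {F : FusionSystem S}

theorem aut_cast {P Q : Subgroup Ω} (hPQ : P = Q) {γ : MulAut P} (hγ : γ ∈ F.autGroup P) :
    ∃ δ ∈ F.autGroup Q, ∀ (x : Ω) (hx : x ∈ P) (hx' : x ∈ Q), (δ ⟨x, hx'⟩ : Ω) = γ ⟨x, hx⟩ := by
  subst hPQ
  exact ⟨γ, hγ, fun x hx hx' => rfl⟩

theorem mem_map_subtype {K : Subgroup S} {x : S} : (x : Ω) ∈ K.map S.subtype ↔ x ∈ K := by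
  exact Subgroup.mem_map_iff_mem S.subtype_injective

variable [Finite S] {p : ℕ} [hp : Fact p.Prime] (h : Setup p S F)
include h

/-- A maximal subgroup is normal with all commutators inside. -/
theorem normal_of_card_four {R : Subgroup Ω} (hR : R ≤ S) (hc : Nat.card R = p ^ 4) :
    commutator S ≤ R.subgroupOf S ∧ S ≤ Subgroup.normalizer (R : Set Ω) := by
  have hidx : (R.subgroupOf S).index = p := by
    have h1 := (R.subgroupOf S).card_mul_index
    rw [Nat.card_congr (Subgroup.subgroupOfEquivOfLe hR).toEquiv, hc, h.hcard, pow_succ p 4] at h1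
    exact Nat.eq_of_mul_eq_mul_left (pow_pos hp.out.pos 4) h1
  haveI hn : (R.subgroupOf S).Normal := by
    refine Subgroup.normal_of_index_eq_minFac_card ?_
    rw [hidx, h.hcard, Nat.Prime.pow_minFac hp.out (by norm_num)]
  refine ⟨?_, fun g hg => Subgroup.mem_normalizer_iff.2 fun r => ⟨fun hr => ?_, fun hr => ?_⟩⟩
  · rw [commutator_def, Subgroup.commutator_le]
    intro a _ b _
    rw [← QuotientGroup.eq_one_iff]
    change QuotientGroup.mk' _ _ = 1
    rw [map_commutatorElement, commutatorElement_eq_one_iff_mul_comm]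
    haveI : IsCyclic (S ⧸ R.subgroupOf S) := isCyclic_of_prime_card (p := p) hidx
    exact IsCyclic.commGroup.mul_comm _ _
  · exact hn.conj_mem ⟨r, hR hr⟩ hr ⟨g, hg⟩
  · have hrS : r ∈ S := by
      have := S.mul_mem (S.mul_mem (S.inv_mem hg) (hR hr)) hg
      simpa [mul_assoc] using this
    have := hn.conj_mem (⟨_, hR hr⟩ : S) hr ⟨g⁻¹, S.inv_mem hg⟩
    rw [Subgroup.mem_subgroupOf] at this
    simpa [mul_assoc] using this

/-- The Frattini subgroup of a maximal subgroup with three generators is central. -/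
theorem frattini_central {R : Subgroup Ω} (hR : R ≤ S) (hc : Nat.card R = p ^ 4)
    (hi : (frattini R).index = p ^ 3) :
    (frattini R).map R.subtype ≤ centralizerIn S S ∧ Nat.card (frattini R) = p := by
  haveI := finite_of_le hR
  obtain ⟨-, hn⟩ := normal_of_card_four h hR hc
  have h1 := (frattini R).card_mul_index
  rw [hi, hc, pow_succ' p 3] at h1
  have hk := Nat.eq_of_mul_eq_mul_right (pow_pos hp.out.pos 3) h1
  refine ⟨central_of_card_prime h ((Subgroup.map_subtype_le _).trans hR) ?_ ?_, hk⟩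
  · intro g hg
    have key : ∀ g ∈ S, ∀ x ∈ (frattini R).map R.subtype, g * x * g⁻¹ ∈ (frattini R).map R.subtype := by
      rintro g hg _ ⟨x, hx, rfl⟩
      exact ⟨conjAut R g (hn hg) x,
        Subgroup.characteristic_iff_le_comap.1 frattini_characteristic _ hx, rfl⟩
    refine Subgroup.mem_normalizer_iff.2 fun x => ⟨key g hg x, fun hx => ?_⟩
    simpa [mul_assoc] using key g⁻¹ (S.inv_mem hg) _ hx
  · rw [Subgroup.card_map_of_injective R.subtype_injective, hk]

end Cfsg.Agent.Lib.FusionOrderFive
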