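import Cfsg.Agent.Lib.FusionOrderFive.CubeWeights
import Cfsg.Agent.Lib.FusionOrderFive.Lift
import Cfsg.Agent.Lib.FusionOrderFive.Focal

/-!
The case of an elementary abelian essential subgroup of order `p ^ 3`.
-/

set_option autoImplicit false
set_option linter.unusedSectionVars false

namespace Cfsg.Agent.Lib.FusionOrderFive

open Cfsg Cfsg.FusionSystem Cfsg.Agent.Lib.Fusion Cfsg.Agent.Lib.Fusion87
open scoped commutatorElement

universe u

variable {Ω : Type u} [Group Ω] {S : Subgroup Ω} [Finite S] {F : FusionSystem S} {p : ℕ}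
  [hp : Fact p.Prime] (h : Setup p S F)

include h

theorem exists_cubeData {R : Subgroup Ω} (hE : F.IsEssential p R) (hab : ∀ a b : R, a * b = b * a)
    (hexp : ∀ a : R, a ^ p = 1) (hc : Nat.card R = p ^ 3) :
    ∃ c : CubeData p S, c.N = (normalizerIn S R).subgroupOf S ∧
      c.I ⊔ Subgroup.zpowers c.e = R.subgroupOf S ∧
      ∀ n m : ℤ, ((n * m : ℤ) : ZMod p) = 1 → ∃ γ ∈ F.autGroup (normalizerIn S R),
        (∀ hx, (γ ⟨c.z, hx⟩ : Ω) = ((c.z ^ n : S) : Ω)) ∧ (∀ hx, (γ ⟨c.e, hx⟩ : Ω) = ((c.e ^ m : S) : Ω)) ∧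
          ∀ hx, (γ ⟨c.l, hx⟩ : Ω) = (c.l : Ω) := by
  obtain ⟨hN, hNn, hI, hIR, hcomm⟩ := normalizer_facts h hE hab hexp hc
  have hRS := hE.1.1
  set N := normalizerIn S R with hNdef
  set I := centralizerIn N N with hIdef
  haveI := finite_of_le hRS
  haveI := finite_normalizerIn (S := S) R
  have hNS : N ≤ S := inf_le_left
  have hRN : R ≤ N := le_normalizerIn hRS
  haveI : Finite I := finite_of_le (hIR.trans hRS)
  have hab' : ∀ a ∈ R, ∀ b ∈ R, Commute a b := fun a ha b hb =>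
    congrArg Subtype.val (hab ⟨a, ha⟩ ⟨b, hb⟩)
  have hexp' : ∀ a ∈ R, a ^ p = 1 := fun a ha => congrArg Subtype.val (hexp ⟨a, ha⟩)
  have hIc : ∀ i ∈ I, ∀ a ∈ N, Commute i a := fun i hi a ha =>
    (Subgroup.mem_centralizer_iff.1 hi.2 a ha).symm
  obtain ⟨x, hxN, hxR⟩ : ∃ x ∈ N, x ∉ R := by
    by_contra hall
    push Not at hall
    have := Subgroup.card_le_of_le (K := R) hall
    rw [hN, hc, Nat.pow_le_pow_iff_right hp.out.one_lt] at this
    omega
  obtain ⟨r, hr, hrI⟩ : ∃ r ∈ R, r ∉ I := by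
    by_contra hall
    push Not at hall
    have := Subgroup.card_le_of_le (K := I) hall
    rw [hI, hc, Nat.pow_le_pow_iff_right hp.out.one_lt] at this
    omega
  have hgen : I ⊔ Subgroup.zpowers r = R := by
    refine Subgroup.eq_of_le_of_card_ge (sup_le hIR (Subgroup.zpowers_le.2 hr)) ?_
    have := card_mul_le h ((sup_le hIR (Subgroup.zpowers_le.2 hr)).trans hRS)
      (lt_of_le_of_ne le_sup_left fun e => hrI (e.ge (Subgroup.mem_sup_right (Subgroup.mem_zpowers r)))
        : I < I ⊔ Subgroup.zpowers r)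
    rwa [hI, ← pow_succ, ← hc] at this
  set z := ⁅x, r⁆ with hzdef
  have hzI : z ∈ I := hcomm x hxN r (hRN hr)
  have hzR : z ∈ R := hIR hzI
  have hxz : x * z * x⁻¹ = z := by rw [← (hIc z hzI x hxN).eq, mul_inv_cancel_right]
  let K : Subgroup Ω :=
    { carrier := {v | v ∈ R ∧ ∃ i : ℤ, x * v * x⁻¹ = v * z ^ i}
      one_mem' := ⟨R.one_mem, 0, by simp⟩
      mul_mem' := by
        rintro a b ⟨ha, i, hi⟩ ⟨hb, k, hk⟩
        refine ⟨R.mul_mem ha hb, i + k, ?_⟩
        rw [← conj_mul, hi, hk, mul_assoc, ← mul_assoc (z ^ i), ((hab' z hzR b hb).zpow_left i).eq,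
          zpow_add]
        simp only [mul_assoc]
      inv_mem' := by
        rintro a ⟨ha, i, hi⟩
        refine ⟨R.inv_mem ha, -i, ?_⟩
        rw [← conj_inv, hi, mul_inv_rev, ← zpow_neg, ((hab' z hzR a ha).inv_right.zpow_left (-i)).eq] }
  have hK : R ≤ K := by
    rw [← hgen]
    refine sup_le (fun i hi => ⟨hIR hi, 0, ?_⟩) (Subgroup.zpowers_le.2 ⟨hr, 1, ?_⟩)
    · rw [← (hIc i hi x hxN).eq, mul_inv_cancel_right, zpow_zero, mul_one]
    · rw [zpow_one, (hab' r hr z hzR).eq, hzdef, commutatorElement_def]; group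
  have hRx : R ⊔ Subgroup.zpowers x = N := by
    refine Subgroup.eq_of_le_of_card_ge (sup_le hRN (Subgroup.zpowers_le.2 hxN)) ?_
    have := card_mul_le h ((sup_le hRN (Subgroup.zpowers_le.2 hxN)).trans hNS)
      (lt_of_le_of_ne le_sup_left fun e => hxR (e.ge (Subgroup.mem_sup_right (Subgroup.mem_zpowers x)))
        : R < R ⊔ Subgroup.zpowers x)
    rwa [hc, ← pow_succ, ← hN] at this
  have hz1 : z ≠ 1 := fun e => by
    refine hxR (centralizerIn_le_of_isCentric hE.1 ⟨hNS hxN, fun v hv => ?_⟩)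
    obtain ⟨-, i, hi⟩ := hK hv
    rw [e, one_zpow, mul_one, mul_inv_eq_iff_eq_mul] at hi
    exact hi.symm
  -- the commutators of the normaliser
  have hcz : ∀ a ∈ N, ∀ b ∈ N, ⁅a, b⁆ ∈ Subgroup.zpowers z := by
    haveI : ((Subgroup.zpowers z).subgroupOf N).Normal := ⟨fun w hw g => by
      rw [Subgroup.mem_subgroupOf] at hw
      have e : w * g = g * w := Subtype.ext (hIc _ (Subgroup.zpowers_le.2 hzI hw) g g.2).eq
      rw [← e, mul_inv_cancel_right]
      exact Subgroup.mem_subgroupOf.2 hw⟩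
    set s : Set N := {w | (w : Ω) ∈ R ∨ (w : Ω) = x}
    have htop : Subgroup.closure s = ⊤ := by
      refine eq_top_iff.2 fun w _ => ?_
      have h1 : N ≤ (Subgroup.closure s).map N.subtype := by
        conv_lhs => rw [← hRx]
        refine sup_le (fun v hv => ⟨⟨v, hRN hv⟩, Subgroup.subset_closure (Or.inl hv), rfl⟩)
          (Subgroup.zpowers_le.2 ⟨⟨x, hxN⟩, Subgroup.subset_closure (Or.inr rfl), rfl⟩)
      obtain ⟨w', hw', he⟩ := h1 w.2
      exact (Subtype.ext he : w' = w) ▸ hw'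
    have hx' : ∀ v ∈ R, ⁅x, v⁆ ∈ Subgroup.zpowers z := fun v hv => by
      obtain ⟨-, i, hi⟩ := hK hv
      rw [commutatorElement_def, hi, ((hab' v hv z hzR).zpow_right i).eq, mul_inv_cancel_right]
      exact Subgroup.zpow_mem _ (Subgroup.mem_zpowers z) i
    have hle := commutator_le_of_generators ((Subgroup.zpowers z).subgroupOf N) htop (by
      intro a ha b hb
      rw [Subgroup.mem_subgroupOf]
      rcases ha with ha | ha <;> rcases hb with hb | hb
      · rw [show ((⁅a, b⁆ : N) : Ω) = ⁅(a : Ω), (b : Ω)⁆ from rfl,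
          commutatorElement_eq_one_iff_commute.2 (hab' _ ha _ hb)]
        exact one_mem _
      · rw [show ((⁅a, b⁆ : N) : Ω) = ⁅(a : Ω), (b : Ω)⁆ from rfl, hb, ← commutatorElement_inv]
        exact inv_mem (hx' _ ha)
      · rw [show ((⁅a, b⁆ : N) : Ω) = ⁅(a : Ω), (b : Ω)⁆ from rfl, ha]
        exact hx' _ hb
      · rw [show ((⁅a, b⁆ : N) : Ω) = ⁅(a : Ω), (b : Ω)⁆ from rfl, ha, hb, commutatorElement_self]
        exact one_mem _)
    intro a ha b hb
    exact hle (Subgroup.commutator_mem_commutator (Subgroup.mem_top (⟨a, ha⟩ : N)) (Subgroup.mem_top ⟨b, hb⟩))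
  have hzS : Subgroup.zpowers z ≤ centralizerIn S S := by
    refine central_of_card_prime h (Subgroup.zpowers_le.2 (hRS hzR)) ?_ ?_
    · intro g hg
      have key : ∀ g ∈ S, ∀ w ∈ Subgroup.zpowers z, g * w * g⁻¹ ∈ Subgroup.zpowers z := by
        intro g hg w hw
        obtain ⟨k, rfl⟩ := Subgroup.mem_zpowers_iff.1 hw
        rw [← conj_zpow]
        refine Subgroup.zpow_mem _ ?_ k
        rw [show g * z * g⁻¹ = ⁅g * x * g⁻¹, g * r * g⁻¹⁆ by
          rw [hzdef, commutatorElement_def, commutatorElement_def]; group]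
        exact hcz _ ((Subgroup.mem_normalizer_iff.1 (hNn hg) x).1 hxN) _
          ((Subgroup.mem_normalizer_iff.1 (hNn hg) r).1 (hRN hr))
      refine Subgroup.mem_normalizer_iff.2 fun w => ⟨key g hg w, fun hw => ?_⟩
      simpa [mul_assoc] using key g⁻¹ (S.inv_mem hg) _ hw
    · rw [Nat.card_zpowers, orderOf_eq_prime (hexp' z hzR) hz1]
  obtain ⟨e, t', hxe, -, hdec, htor⟩ := exists_torus_elem h.hS h.hF hE h.hp2 hab hexp (Or.inr hc)
    (hNS hxN) hxN.2 hxR (z := ⟨z, hzR⟩) hxz (fun v => (hK v.2).2)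
  have heI : (e : Ω) ∉ I := fun he => hxe (by rw [← (hIc _ he x hxN).eq, mul_inv_cancel_right])
  have heR : R = I ⊔ Subgroup.zpowers (e : Ω) := by
    refine (Subgroup.eq_of_le_of_card_ge (sup_le hIR (Subgroup.zpowers_le.2 e.2)) ?_).symm
    have := card_mul_le h ((sup_le hIR (Subgroup.zpowers_le.2 e.2)).trans hRS)
      (lt_of_le_of_ne le_sup_left fun e' => heI (e'.ge (Subgroup.mem_sup_right (Subgroup.mem_zpowers _)))
        : I < I ⊔ Subgroup.zpowers (e : Ω))
    rwa [hI, ← pow_succ, ← hc] at this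
  -- an element fixed by the torus outside the centre
  obtain ⟨l, hlx, hlt, hlz⟩ : ∃ l : R, x * (l : Ω) * x⁻¹ = l ∧ t' l = l ∧ (l : Ω) ∉ Subgroup.zpowers z := by
    by_contra hall
    push Not at hall
    have hle : I ≤ Subgroup.zpowers z := by
      intro w hw
      obtain ⟨i, k, l, hv, hl1, hl2⟩ := hdec ⟨w, hIR hw⟩
      have hl := hall l hl1 hl2
      have hv' : w = z ^ i * (e : Ω) ^ k * l := by simpa using congrArg Subtype.val hv
      have hke : (e : Ω) ^ k ∈ I := by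
        have : (e : Ω) ^ k = (z ^ i)⁻¹ * w * (l : Ω)⁻¹ := by rw [hv']; group
        rw [this]
        exact mul_mem (mul_mem (inv_mem (zpow_mem hzI i)) hw)
          (inv_mem ((Subgroup.zpowers_le.2 hzI) hl))
      have h0 := cast_eq_zero_of_zpow_mem (show (e : Ω) ^ p ∈ I by rw [hexp' _ e.2]; exact one_mem _) heI hke
      rw [hv', zpow_eq_one_of_cast (hexp' _ e.2) h0, mul_one]
      exact mul_mem (zpow_mem (Subgroup.mem_zpowers z) i) hl
    haveI : Finite (Subgroup.zpowers z) := finite_of_le (Subgroup.zpowers_le.2 (hRS hzR))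
    have := Subgroup.card_le_of_le hle
    rw [hI, Nat.card_zpowers, orderOf_eq_prime (hexp' z hzR) hz1] at this
    exact absurd this (not_le.2 (lt_self_pow₀ hp.out.one_lt one_lt_two))
  have hlI : (l : Ω) ∈ I := by
    refine ⟨hRN l.2, fun v hv => ?_⟩
    have hle : N ≤ Subgroup.centralizer ({(l : Ω)} : Set Ω) := by
      rw [← hRx]
      refine sup_le (fun w hw => ?_) (Subgroup.zpowers_le.2 ?_)
      · rw [Subgroup.mem_centralizer_singleton_iff]; exact (hab' w hw _ l.2).eq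
      · rw [Subgroup.mem_centralizer_singleton_iff]
        exact (mul_inv_eq_iff_eq_mul.1 hlx)
    exact Subgroup.mem_centralizer_singleton_iff.1 (hle hv)
  obtain ⟨y, hy, hyN⟩ : ∃ y ∈ S, y ∉ N := by
    by_contra hall
    push Not at hall
    have := Subgroup.card_le_of_le (K := N) hall
    rw [hN, h.hcard, Nat.pow_le_pow_iff_right hp.out.one_lt] at this
    omega
  have hconjI : ∀ g ∈ S, ∀ i ∈ I, g * i * g⁻¹ ∈ I := by
    intro g hg i hi
    refine ⟨(Subgroup.mem_normalizer_iff.1 (hNn hg) i).1 hi.1, fun v hv => ?_⟩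
    obtain hv' := (Subgroup.mem_normalizer_iff.1 (hNn (S.inv_mem hg)) v).1 hv
    have := (hIc i hi _ hv').eq
    rw [inv_inv] at this
    calc v * (g * i * g⁻¹) = g * (g⁻¹ * v * g * i) * g⁻¹ := by group
      _ = g * (i * (g⁻¹ * v * g)) * g⁻¹ := by rw [this]
      _ = g * i * g⁻¹ * v := by group
  have hye : y * e * y⁻¹ ∉ R := fun hh => hyN ⟨hy, by
    have key : ∀ v ∈ R, y * v * y⁻¹ ∈ R := by
      intro v hv
      rw [heR] at hv
      have hle : I ⊔ Subgroup.zpowers (e : Ω) ≤ R.comap (MulAut.conj y).toMonoidHom :=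
        sup_le (fun i hi => hIR (hconjI y hy i hi)) (Subgroup.zpowers_le.2 hh)
      exact hle hv
    have heq : R.map (MulAut.conj y).toMonoidHom = R := by
      haveI : Finite (R.map (MulAut.conj y).toMonoidHom) := Finite.of_equiv _
        (R.equivMapOfInjective _ (MulAut.conj y).injective).toEquiv
      refine Subgroup.eq_of_le_of_card_ge (by rintro _ ⟨v, hv, rfl⟩; exact key v hv) ?_
      exact (Subgroup.card_map_of_injective (MulAut.conj y).injective).ge
    exact Subgroup.mem_normalizer_iff.2 fun v => ⟨key v, fun hv => by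
      obtain ⟨v', hv', he⟩ := heq.ge hv
      rwa [← mul_left_cancel (mul_right_cancel (show y * v' * y⁻¹ = y * v * y⁻¹ from he))]⟩⟩
  have hRs : (I.subgroupOf S ⊔ Subgroup.zpowers (⟨e, hRS e.2⟩ : S)) = R.subgroupOf S := by
    refine Subgroup.map_injective S.subtype_injective ?_
    rw [Subgroup.map_sup, MonoidHom.map_zpowers, Subgroup.map_subgroupOf_eq_of_le (hIR.trans hRS),
      Subgroup.map_subgroupOf_eq_of_le hRS]
    exact heR.symm
  refine ⟨{
    hG := h.hcard
    hno := fun A hA hcA => h.hno (A.map S.subtype) (Subgroup.map_subtype_le A)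
      (by rintro _ ⟨a, ha, rfl⟩ _ ⟨b, hb, rfl⟩; rw [← map_mul, ← map_mul, hA a ha b hb])
      (by rw [Subgroup.card_map_of_injective S.subtype_injective, hcA])
    N := N.subgroupOf S
    I := I.subgroupOf S
    z := ⟨z, hRS hzR⟩
    l := ⟨l, hRS l.2⟩
    e := ⟨e, hRS e.2⟩
    y := ⟨y, hy⟩
    hN := by rw [Nat.card_congr (Subgroup.subgroupOfEquivOfLe hNS).toEquiv, hN]
    Nn := ⟨fun v hv g => (Subgroup.mem_normalizer_iff.1 (hNn g.2) v).1 hv⟩
    In := ⟨fun v hv g => hconjI g g.2 v hv⟩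
    hI := by rw [Nat.card_congr (Subgroup.subgroupOfEquivOfLe (hIR.trans hRS)).toEquiv, hI]
    IN := fun v hv => (show (v : Ω) ∈ I from hv).1
    cen := fun i hi a ha => Subtype.ext (hIc i hi a ha).eq
    zI := hzI
    lI := hlI
    eN := hRN e.2
    zc := fun g => Subtype.ext
      (Subgroup.mem_centralizer_iff.1 (hzS (Subgroup.mem_zpowers z)).2 g g.2).symm
    z1 := fun e => hz1 (congrArg Subtype.val e)
    zp := Subtype.ext (hexp' z hzR)
    lp := Subtype.ext (hexp' l l.2)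
    ep := Subtype.ext (hexp' e e.2)
    lz := fun hh => hlz (by
      obtain ⟨k, hk⟩ := Subgroup.mem_zpowers_iff.1 hh
      exact Subgroup.mem_zpowers_iff.2 ⟨k, congrArg Subtype.val hk⟩)
    eI := heI
    comm := fun a ha b hb => by
      obtain ⟨k, hk⟩ := Subgroup.mem_zpowers_iff.1 (hcz a ha b hb)
      exact Subgroup.mem_zpowers_iff.2 ⟨k, Subtype.ext hk⟩
    yN := hyN
    hy := by rw [hRs]; exact hye
    hC := fun a ha hae => by
      rw [hRs]
      refine centralizerIn_le_of_isCentric hE.1 ⟨a.2, ?_⟩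
      have hle : R ≤ Subgroup.centralizer ({(a : Ω)} : Set Ω) := by
        rw [heR]
        refine sup_le (fun i hi => ?_) (Subgroup.zpowers_le.2 ?_)
        · rw [Subgroup.mem_centralizer_singleton_iff]; exact (hIc i hi a ha).eq
        · rw [Subgroup.mem_centralizer_singleton_iff]; exact (congrArg Subtype.val hae.eq).symm
      exact fun v hv => Subgroup.mem_centralizer_singleton_iff.1 (hle hv) }, rfl, hRs, ?_⟩
  intro n m hnm
  obtain ⟨β, hβ, b1, b2, b3, b4⟩ := htor n m hnm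
  obtain ⟨γ, hγ, hγx⟩ := exists_extend h.hS h.hF hE.2.1 hβ b4
  refine ⟨γ, hγ, fun hx => ?_, fun hx => ?_, fun hx => ?_⟩
  · exact (hγx ⟨z, hzR⟩ hx).trans (by rw [b1]; rfl)
  · exact (hγx e hx).trans (by rw [b2]; rfl)
  · exact (hγx l hx).trans (by rw [b3 l hlx hlt])

theorem extend_to_S {R : Subgroup Ω} (hE : F.IsEssential p R) (hc : Nat.card R = p ^ 3)
    (c : CubeData p S) (hcN : c.N = (normalizerIn S R).subgroupOf S)
    (hcR : c.I ⊔ Subgroup.zpowers c.e = R.subgroupOf S)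
    {γ : MulAut (normalizerIn S R)} (hγ : γ ∈ F.autGroup (normalizerIn S R)) :
    ∃ δ ∈ F.autGroup S, ∀ (g : S) (hg : (g : Ω) ∈ normalizerIn S R), (δ g : Ω) = γ ⟨g, hg⟩ := by
  set N := normalizerIn S R with hNdef
  haveI := finite_normalizerIn (S := S) R
  have hNS : N ≤ S := inf_le_left
  have hmem : ∀ {g : S}, g ∈ c.N ↔ (g : Ω) ∈ N := fun {g} => by rw [hcN]; rfl
  have hNn : normalizerIn S N = S := by
    refine le_antisymm inf_le_left fun g hg => ⟨hg, Subgroup.mem_normalizer_iff.2 fun v => ?_⟩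
    constructor <;> intro hv
    · exact hmem.1 (c.Nn.conj_mem ⟨v, hNS hv⟩ (hmem.2 hv) ⟨g, hg⟩)
    · have := hmem.1 (c.Nn.conj_mem ⟨_, hNS hv⟩ (hmem.2 hv) ⟨g⁻¹, S.inv_mem hg⟩)
      simpa [mul_assoc] using this
  have hfn : F.IsFullyNormalized N := ⟨hNS, fun Q _ => by rw [hNn]; exact Subgroup.card_le_of_le inf_le_left⟩
  let φ : N →* S := Subgroup.inclusion hNS
  have hφmem : ∀ w : N, φ w ∈ c.N := fun w => hmem.2 w.2
  set K₁ := (Subgroup.zpowers c.z).comap φ with hK1
  set K₂ := c.I.comap φ with hK2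
  set K₃ := c.D.comap φ with hK3
  have hlift : ∀ {g : S}, g ∈ c.N → ∃ w : N, φ w = g := fun {g} hg => ⟨⟨g, hmem.1 hg⟩, rfl⟩
  obtain ⟨y₁, e1⟩ := hlift (c.IN c.zI)
  obtain ⟨y₂, e2⟩ := hlift (c.IN c.lI)
  obtain ⟨y₃, e3⟩ := hlift c.d_mem
  obtain ⟨y₄, e4⟩ := hlift c.eN
  have hinj : Function.Injective φ := Subgroup.inclusion_injective hNS
  have hrange : φ.range = c.N := le_antisymm (by rintro _ ⟨w, rfl⟩; exact hφmem w)
    fun g hg => hlift hg
  have hcm : ∀ X : Subgroup S, X ≤ c.N → (X.comap φ).map φ = X := fun X hX => by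
    rw [Subgroup.map_comap_eq, hrange, inf_eq_right.2 hX]
  have hj := Subgroup.map_injective hinj
  obtain ⟨C, hC⟩ := exists_chain K₁ K₂ K₃ y₁ y₂ y₃ y₄
    (hj (by rw [MonoidHom.map_zpowers, e1, hK1, hcm _ (c.zpowers_le_I.trans c.IN)]))
    (hj (by rw [Subgroup.map_sup, MonoidHom.map_zpowers, e2, hK1, hK2,
      hcm _ (c.zpowers_le_I.trans c.IN), hcm _ c.IN, c.I_eq]))
    (hj (by rw [Subgroup.map_sup, MonoidHom.map_zpowers, e3, hK2, hK3, hcm _ c.IN, hcm _ c.D_le]; rfl))
    (hj (by rw [Subgroup.map_sup, MonoidHom.map_zpowers, e4, hK3, hcm _ c.D_le, c.N_eq,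
      ← MonoidHom.range_eq_map, hrange]))
  have hinv : ∀ a ∈ F.autGroup N, ∀ i, ∀ w ∈ C.K i, a w ∈ C.K i := by
    intro a ha i w hw
    have h1 : ∀ v ∈ K₁, a v ∈ K₁ := by
      intro v hv
      obtain ⟨j, hj', hj0⟩ := c.exists_j
      obtain ⟨we, hwe⟩ := hlift c.eN
      obtain ⟨wd, hwd⟩ := hlift c.d_mem
      have hz : φ (a y₁) ∈ Subgroup.zpowers c.z := by
        have : φ (a ⁅we, wd⁆) ∈ Subgroup.zpowers c.z := by
          rw [map_commutatorElement, map_commutatorElement]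
          exact c.comm _ (hφmem _) _ (hφmem _)
        rw [show ⁅we, wd⁆ = y₁ ^ j from hinj (by
          rw [map_commutatorElement, hwe, hwd, map_zpow, e1, hj']), map_zpow, map_zpow] at this
        refine by_contra fun hz => hj0 (cast_eq_zero_of_zpow_mem ?_ hz this)
        rw [← map_pow, ← map_pow, show y₁ ^ p = 1 from hinj (by rw [map_pow, e1, c.zp, map_one]),
          map_one, map_one]
        exact one_mem _
      obtain ⟨k, hk⟩ := Subgroup.mem_zpowers_iff.1 (show φ v ∈ Subgroup.zpowers c.z from hv)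
      show φ (a v) ∈ Subgroup.zpowers c.z
      rw [show v = y₁ ^ k from hinj (by rw [map_zpow, e1, hk]), map_zpow, map_zpow]
      exact Subgroup.zpow_mem _ hz k
    have h2 : ∀ v ∈ K₂, a v ∈ K₂ := by
      intro v hv
      show φ (a v) ∈ c.I
      -- the centre of `N`
      have hcen : ∀ u ∈ c.N, Commute (φ (a v)) u := fun u hu => by
        obtain ⟨w', rfl⟩ := hlift hu
        obtain ⟨w'', rfl⟩ := a.surjective w'
        rw [commute_iff_eq, ← map_mul, ← map_mul, ← map_mul, ← map_mul]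
        exact congrArg _ (congrArg a (hinj (by
          rw [map_mul, map_mul]; exact (c.cen _ hv _ (hφmem w'')).eq)))
      have hR' : φ (a v) ∈ c.I ⊔ Subgroup.zpowers c.e := c.hC _ (hφmem _) (hcen _ c.eN)
      obtain ⟨i', hi', u, hu, he⟩ := Subgroup.mem_sup_of_normal_left.1 hR'
      obtain ⟨k, rfl⟩ := Subgroup.mem_zpowers_iff.1 hu
      obtain ⟨j, hj', hj0⟩ := c.exists_j
      have h1 := commutatorElement_eq_one_iff_commute.2 (hcen _ c.d_mem)
      have hced := c.comm _ (c.N.zpow_mem c.eN k) _ c.d_mem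
      rw [← he, comm_mul_of_central_left (c.z_central hced i').symm,
        commutatorElement_eq_one_iff_commute.2 (c.cen _ hi' _ c.d_mem), mul_one,
        comm_zpow_left (c.z_central (c.comm _ c.eN _ c.d_mem) c.e).symm, hj', ← zpow_mul] at h1
      have h3 := cast_eq_of_zpow_eq c.zp c.z1 (j := 0) (by rw [h1, zpow_zero])
      push_cast at h3
      rw [← he, zpow_eq_one_of_cast c.ep ((mul_eq_zero.1 h3).resolve_left hj0), mul_one]
      exact hi'
    have h3 : ∀ v ∈ K₃, a v ∈ K₃ := by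
      intro v hv
      by_contra hav
      have hDN : c.D.map S.subtype ≤ N := by
        rintro _ ⟨g, hg, rfl⟩; exact hmem.1 (c.D_le hg)
      have hDS : c.D.map S.subtype ≤ S := Subgroup.map_subtype_le _
      have hm := autGroup_hom_mem hNS ha
      haveI := finite_of_le hNS
      set Q := imgSub (autHom a) (c.D.map S.subtype) with hQ
      have hQc : Nat.card Q = p ^ 3 := by
        rw [hQ, card_imgSub (F.injective_of_mem hm) hDN,
          Subgroup.card_map_of_injective S.subtype_injective, c.card_D]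
      obtain ⟨g, jj, hg⟩ := c.exists_conj (hφmem (a v)) (fun hh => hav hh)
      have hIQ : ∀ i ∈ c.I, (i : Ω) ∈ Q := by
        intro i hi
        obtain ⟨wi, rfl⟩ := hlift (c.IN hi)
        obtain ⟨wj, hwj⟩ := a.surjective wi
        have hwjI : φ wj ∈ c.I := by
          have := (show ∀ v ∈ K₂, a v ∈ K₂ from h2)
          by_contra hh
          have hsub : (K₂ : Set N).Finite := Set.toFinite _
          have heq : a '' (K₂ : Set N) = K₂ :=
            Set.eq_of_subset_of_ncard_le (by rintro _ ⟨u, hu, rfl⟩; exact h2 u hu)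
              (by rw [Set.ncard_image_of_injective _ a.injective])
          obtain ⟨u, hu, he⟩ := (heq.ge (show wi ∈ (K₂ : Set N) from hi))
          exact hh ((a.injective (he.trans hwj.symm)) ▸ hu)
        refine mem_imgSub.2 ⟨wj, ⟨φ wj, c.I_le_D hwjI, rfl⟩, ?_⟩
        rw [autHom_apply, hwj]
        rfl
      have hgQ : ((g * c.e * g⁻¹ : S) : Ω) ∈ Q := by
        have hv' : ((φ (a v) ^ jj : S) : Ω) ∈ Q := by
          rw [SubgroupClass.coe_zpow]
          refine Subgroup.zpow_mem _ ?_ jj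
          exact mem_imgSub.2 ⟨v, ⟨φ v, hv, rfl⟩, rfl⟩
        have := Q.mul_mem hv' (hIQ _ hg)
        rwa [← Subgroup.coe_mul, mul_inv_cancel_left] at this
      have hRS := hE.1.1
      have hle : R.map (MulAut.conj (g : Ω)).toMonoidHom ≤ Q := by
        rintro _ ⟨r, hr, rfl⟩
        have hr' : (⟨r, hRS hr⟩ : S) ∈ c.I ⊔ Subgroup.zpowers c.e := by rw [hcR]; exact hr
        obtain ⟨i', hi', u, hu, he⟩ := Subgroup.mem_sup_of_normal_left.1 hr'
        obtain ⟨k, rfl⟩ := Subgroup.mem_zpowers_iff.1 hu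
        have e' : (g : Ω) * r * (g : Ω)⁻¹ = ((g * i' * g⁻¹ : S) : Ω) * ((g * c.e * g⁻¹ : S) : Ω) ^ k := by
          rw [← SubgroupClass.coe_zpow, ← Subgroup.coe_mul, conj_zpow, conj_mul, he]
          rfl
        show (g : Ω) * r * (g : Ω)⁻¹ ∈ Q
        rw [e']
        exact Q.mul_mem (hIQ _ (c.In.conj_mem _ hi' g)) (Q.zpow_mem hgQ k)
      haveI : Finite Q := finite_of_le ((imgSub_le_range _).trans (range_le hm))
      have heq : R.map (MulAut.conj (g : Ω)).toMonoidHom = Q := Subgroup.eq_of_le_of_card_ge hle (by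
        rw [hQc, Subgroup.card_map_of_injective (MulAut.conj (g : Ω)).injective, hc])
      have hRQ : F.IsConj R Q := ⟨conjHom R g, F.conj_mem hRS g.2, by
        rw [← heq, conjHom, MonoidHom.range_comp, Subgroup.range_subtype]⟩
      have hfin := hE.2.1.2 _ (isConj_trans hRQ (isConj_symm (isConj_imgSub hm hDN)))
      have hnorm : normalizerIn S (c.D.map S.subtype) = S := by
        refine le_antisymm inf_le_left fun g hg => ⟨hg, Subgroup.mem_normalizer_iff.2 fun u => ?_⟩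
        have key : ∀ g ∈ S, ∀ u ∈ c.D.map S.subtype, g * u * g⁻¹ ∈ c.D.map S.subtype := by
          rintro g hg _ ⟨d, hd, rfl⟩
          exact ⟨⟨g, hg⟩ * d * ⟨g, hg⟩⁻¹, (inferInstance : c.D.Normal).conj_mem d hd _, rfl⟩
        exact ⟨key g hg u, fun hu => by simpa [mul_assoc] using key g⁻¹ (S.inv_mem hg) _ hu⟩
      rw [hnorm] at hfin
      have hN4 : Nat.card N = p ^ 4 := by
        rw [← c.hN, hcN, Nat.card_congr (Subgroup.subgroupOfEquivOfLe hNS).toEquiv]
      rw [h.hcard, ← hNdef, hN4, Nat.pow_le_pow_iff_right hp.out.one_lt] at hfin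
      omega
    rcases hC i with e | e | e | e | e <;> rw [e] at hw ⊢
    · rw [Subgroup.mem_bot] at hw ⊢; rw [hw, map_one]
    · exact h1 w hw
    · exact h2 w hw
    · exact h3 w hw
    · exact Subgroup.mem_top _
  obtain ⟨δ', hδ', hδx⟩ := exists_extend_of_chain h.hS h.hF hfn C hinv hγ
  obtain ⟨δ, hδ, hcast⟩ := aut_cast hNn hδ'
  exact ⟨δ, hδ, fun g hg => (hcast g (hNn.ge g.2) g.2).trans (hδx ⟨g, hg⟩ _)⟩

theorem cube_case {R : Subgroup Ω} (hE : F.IsEssential p R) (hab : ∀ a b : R, a * b = b * a)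
    (hexp : ∀ a : R, a ^ p = 1) (hc : Nat.card R = p ^ 3) : p = 3 ∧ SplitConclusion p F := by
  obtain ⟨c, hcN, hcR, hγ⟩ := exists_cubeData h hE hab hexp hc
  have hmem : ∀ {g : S}, g ∈ c.N ↔ (g : Ω) ∈ normalizerIn S R := fun {g} => by rw [hcN]; rfl
  have tor : ∀ n m : ℤ, ((n * m : ℤ) : ZMod p) = 1 → ∃ δ ∈ F.autGroup S, δ c.z = c.z ^ n ∧
      δ c.e = c.e ^ m ∧ δ c.l = c.l ∧ ∀ g ∈ c.N, δ g ∈ c.N := by
    intro n m hnm
    obtain ⟨γ, hγm, g1, g2, g3⟩ := hγ n m hnm
    obtain ⟨δ, hδ, hδx⟩ := extend_to_S h hE hc c hcN hcR hγm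
    exact ⟨δ, hδ, Subtype.ext ((hδx _ (hmem.1 (c.IN c.zI))).trans (g1 _)),
      Subtype.ext ((hδx _ (hmem.1 c.eN)).trans (g2 _)),
      Subtype.ext ((hδx _ (hmem.1 (c.IN c.lI))).trans (g3 _)),
      fun g hg => hmem.2 (by rw [hδx g (hmem.1 hg)]; exact (γ _).2)⟩
  obtain ⟨δ, hδ, d1, d2, d3, d4⟩ := tor (-1) (-1) (by simp)
  obtain ⟨k, w, hw, hky⟩ := exists_zpow_mul (c.top_eq.ge (Subgroup.mem_top (δ c.y)))
  have hdy := c.comm_dy_mem (β := δ.toMonoidHom) h.hp2 d1 d2 d3 hw hky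
  obtain ⟨c', eN, eI, ez, el, ee, hdy'⟩ := c.exists_normalised hdy
  have hp3 : p = 3 := by
    obtain ⟨n, hn⟩ := exists_intCast (p := p) ((2 : ZMod p)⁻¹)
    have hnm : ((n * 2 : ℤ) : ZMod p) = 1 := by
      push_cast; rw [hn, inv_mul_cancel₀ (two_ne_zero_zmod h.hp2)]
    obtain ⟨α, hα, a1, a2, a3, a4⟩ := tor n 2 hnm
    obtain ⟨k', w', hw', hky'⟩ := exists_zpow_mul (c'.top_eq.ge (Subgroup.mem_top (α c'.y)))
    have h4 := c'.sq_eq_one hdy' (β := α.toMonoidHom) (n := n) (m := 2) (by rw [ez]; exact a1)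
      (by rw [ee]; exact a2) (by rw [el]; exact a3) hw' hky' hnm
    have h3 : ((3 : ℕ) : ZMod p) = 0 := by push_cast at h4 ⊢; linear_combination h4
    rw [ZMod.natCast_eq_zero_iff] at h3
    exact (Nat.prime_dvd_prime_iff_eq hp.out Nat.prime_three).1 h3
  have hfacts := fun (α : MulAut S) => c'.aut_facts hdy' α
  refine ⟨hp3, ?_, fun R' hE' hc' hi' => ?_⟩
  · -- the split
    have hA : commutator S ≤ c'.D := by
      rw [c'.commutator_eq hdy']
      exact sup_le (Subgroup.zpowers_le.2 (c'.I_le_D c'.zI)) (Subgroup.zpowers_le.2 c'.d_mem_D)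
    have hlA : c'.l ∉ commutator S := by
      intro hh
      rw [c'.commutator_eq hdy'] at hh
      obtain ⟨u, hu, v, hv, he⟩ := Subgroup.mem_sup_of_normal_left.1 hh
      obtain ⟨f, rfl⟩ := Subgroup.mem_zpowers_iff.1 hv
      refine c'.l_moves hdy' ?_
      rw [← he]
      exact (c'.z_central hu c'.y).mul_left (hdy'.zpow_left f)
    refine exists_split h.hS h.hF h.hp2 le_rfl ?_ (c'.I_le_D c'.lI) hlA hA
      (fun α _ a ha => (Subgroup.characteristic_iff_le_comap.1
        (inferInstance : (commutator S).Characteristic) α) ha)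
      (fun α _ x hx => (hfacts α).2 hp3 x hx) hδ ?_
    · intro x hx
      obtain ⟨a, b, f, rfl⟩ := c'.D_form hdy' hx
      have hI : c'.z ^ a * c'.l ^ b ∈ c'.I :=
        c'.I.mul_mem (c'.I.zpow_mem c'.zI a) (c'.I.zpow_mem c'.lI b)
      rw [(c'.cen _ hI _ (c'.N.zpow_mem c'.d_mem f)).mul_pow, ((c'.zc _).zpow_left a).mul_pow,
        show (c'.l ^ b) ^ p = 1 by rw [← zpow_natCast, ← zpow_mul, mul_comm, zpow_mul, zpow_natCast,
          c'.lp, one_zpow], mul_one]
      exact mul_mem (pow_mem (zpow_mem (c'.z_mem_commutator hdy') a) p) (pow_mem (zpow_mem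
        (Subgroup.commutator_mem_commutator (Subgroup.mem_top _) (Subgroup.mem_top _)) f) p)
    -- inversion modulo `D`
    haveI : c'.D.Normal := inferInstance
    letI : CommGroup (S ⧸ c'.D) := { (inferInstance : Group (S ⧸ c'.D)) with
      mul_comm := fun u v => QuotientGroup.induction_on u fun a => QuotientGroup.induction_on v fun b =>
        (commute_mk (hA (Subgroup.commutator_mem_commutator (Subgroup.mem_top a) (Subgroup.mem_top b)))).eq }
    let q := QuotientGroup.mk' c'.D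
    let f : S →* S ⧸ c'.D := q.comp δ.toMonoidHom * q
    suffices hker : f.ker = ⊤ from fun g => by
      have : f g = 1 := MonoidHom.mem_ker.1 (hker ▸ Subgroup.mem_top g)
      exact (QuotientGroup.eq_one_iff _).1 (by rw [← this]; rfl)
    have hδD : ∀ x ∈ c'.D, δ x ∈ c'.D := fun x hx => by
      have := c'.D.mul_mem hx (hA ((hfacts δ).2 hp3 x hx))
      rwa [mul_inv_cancel_left] at this
    refine c'.eq_top_of_mem (fun x hx => MonoidHom.mem_ker.2 ?_) (MonoidHom.mem_ker.2 ?_)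
      (MonoidHom.mem_ker.2 ?_)
    · show q (δ x) * q x = 1
      rw [show q x = 1 from (QuotientGroup.eq_one_iff _).2 hx,
        show q (δ x) = 1 from (QuotientGroup.eq_one_iff _).2 (hδD x hx), one_mul]
    · show q (δ c'.e) * q c'.e = 1
      rw [ee, d2, zpow_neg_one, map_inv, inv_mul_cancel]
    · show q (δ c'.y) * q c'.y = 1
      obtain ⟨k', w', hw', hky'⟩ := exists_zpow_mul (c'.top_eq.ge (Subgroup.mem_top (δ c'.y)))
      have hk := c'.weight_z (β := δ.toMonoidHom) (n := -1) (m := -1) (by rw [ez]; exact d1)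
        (by rw [ee]; exact d2) hw' hky'
      obtain ⟨u, hu, v, hv, he⟩ := Subgroup.mem_sup_of_normal_left.1 (hfacts δ).1
      obtain ⟨c₀, rfl⟩ := Subgroup.mem_zpowers_iff.1 hv
      have hyp := c'.pow_y_mem hdy'
      have hsame : c'.y ^ (c₀ - k') ∈ c'.N := by
        have hyk : u * c'.y ^ c₀ = c'.y ^ k' * w' := he.trans hky'
        have : c'.y ^ (c₀ - k') = ((c'.y ^ k')⁻¹ * u⁻¹ * (c'.y ^ k')) * w' := by
          rw [mul_assoc _ (c'.y ^ k') w', ← hyk, mul_assoc, inv_mul_cancel_left, zpow_sub,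
            ← zpow_neg]
          exact ((Commute.refl c'.y).zpow_zpow _ _).eq
        rw [this]
        exact mul_mem (by simpa using c'.Nn.conj_mem _ (inv_mem (c'.D_le hu)) (c'.y ^ k')⁻¹) hw'
      have h0 := cast_eq_zero_of_zpow_mem (c'.D_le hyp) c'.yN hsame
      push_cast at h0 hk
      obtain ⟨s, hs⟩ := (ZMod.intCast_zmod_eq_zero_iff_dvd (c₀ + 1) p).1
        (by push_cast; linear_combination h0 - hk)
      rw [← he, map_mul, show q u = 1 from (QuotientGroup.eq_one_iff _).2 hu, one_mul, ← map_mul,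
        ← zpow_add_one, hs, zpow_mul, zpow_natCast]
      exact (QuotientGroup.eq_one_iff _).2 (c'.D.zpow_mem hyp s)
  · -- displacements lie in the derived subgroup
    have hRS' := hE'.1.1
    haveI := finite_of_le hRS'
    obtain ⟨hΦ, hΦc⟩ := frattini_central h hRS' hc' hi'
    obtain ⟨hAR, -⟩ := normal_of_card_four h hRS' hc'
    have hz : (c'.z : Ω) ∈ (frattini R').map R'.subtype := by
      have hle : (frattini R').map R'.subtype ≤ (Subgroup.zpowers c'.z).map S.subtype := fun v hv =>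
        ⟨⟨v, (hΦ hv).1⟩, c'.center_le hdy' (Subgroup.mem_center_iff.2 fun g => Subtype.ext
          (Subgroup.mem_centralizer_iff.1 (hΦ hv).2 g g.2)), rfl⟩
      haveI := finite_of_le (Subgroup.map_subtype_le (Subgroup.zpowers c'.z))
      have heq := Subgroup.eq_of_le_of_card_ge hle (by
        rw [Subgroup.card_map_of_injective R'.subtype_injective, hΦc,
          Subgroup.card_map_of_injective S.subtype_injective, Nat.card_zpowers,
          orderOf_eq_prime c'.zp c'.z1])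
      rw [heq]
      exact ⟨c'.z, Subgroup.mem_zpowers _, rfl⟩
    have hzmem : ∀ v ∈ Subgroup.zpowers c'.z, ∀ hv : (v : Ω) ∈ R', (⟨v, hv⟩ : R') ∈ frattini R' := by
      intro v hv hvR
      obtain ⟨k, rfl⟩ := Subgroup.mem_zpowers_iff.1 hv
      obtain ⟨u, hu, he⟩ := Subgroup.zpow_mem _ hz k
      rwa [show (⟨((c'.z ^ k : S) : Ω), hvR⟩ : R') = u from Subtype.ext (by simpa using he.symm)]
    have hdA : c'.d ∈ commutator S :=
      Subgroup.commutator_mem_commutator (Subgroup.mem_top _) (Subgroup.mem_top _)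
    have hdR : (c'.d : Ω) ∈ R' := hAR hdA
    intro x hx hn
    refine ⟨((⟨c'.d, hdR⟩ : R') : R' ⧸ frattini R'), ?_, fun v => ?_⟩
    · rw [quotHom_mk, QuotientGroup.eq]
      have hm : ⁅(⟨x, hx⟩ : S), c'.d⁻¹⁆ ∈ Subgroup.zpowers c'.z := by
        rw [← commutatorElement_inv]
        exact inv_mem (c'.D_central hdy' (inv_mem c'.d_mem_D) _)
      have e1 : (((conjAut R' x hn ⟨c'.d, hdR⟩)⁻¹ * ⟨c'.d, hdR⟩ : R') : Ω) =
          ((⁅(⟨x, hx⟩ : S), c'.d⁻¹⁆ : S) : Ω) := by
        rw [Subgroup.coe_mul, Subgroup.coe_inv, conjAut_apply]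
        show (x * (c'.d : Ω) * x⁻¹)⁻¹ * c'.d = x * (c'.d : Ω)⁻¹ * x⁻¹ * ((c'.d : Ω)⁻¹)⁻¹
        group
      have hR : ((⁅(⟨x, hx⟩ : S), c'.d⁻¹⁆ : S) : Ω) ∈ R' := by rw [← e1]; exact SetLike.coe_mem _
      have hh := hzmem _ hm hR
      rwa [show (⟨_, hR⟩ : R') = (conjAut R' x hn ⟨c'.d, hdR⟩)⁻¹ * ⟨c'.d, hdR⟩ from
        Subtype.ext e1.symm] at hh
    obtain ⟨v, rfl⟩ := QuotientGroup.mk_surjective v
    have hv : ⁅(⟨v, hRS' v.2⟩⁻¹ : S), (⟨x, hx⟩ : S)⁆ ∈ commutator S :=
      Subgroup.commutator_mem_commutator (Subgroup.mem_top _) (Subgroup.mem_top _)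
    rw [c'.commutator_eq hdy'] at hv
    obtain ⟨u, hu, w', hw', he⟩ := Subgroup.mem_sup_of_normal_left.1 hv
    obtain ⟨i, rfl⟩ := Subgroup.mem_zpowers_iff.1 hw'
    refine ⟨i, ?_⟩
    have huR : (u : Ω) ∈ R' := hAR (by
      obtain ⟨q, rfl⟩ := Subgroup.mem_zpowers_iff.1 hu
      exact zpow_mem (c'.z_mem_commutator hdy') q)
    rw [quotHom_mk, ← QuotientGroup.mk_zpow, ← QuotientGroup.mk_mul]
    have e : conjAut R' x hn v = v * (⟨u, huR⟩ * (⟨c'.d, hdR⟩ : R') ^ i) := Subtype.ext (by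
      have he' := congrArg Subtype.val he
      simp only [Subgroup.coe_mul, SubgroupClass.coe_zpow] at he'
      rw [conjAut_apply, Subgroup.coe_mul, Subgroup.coe_mul, SubgroupClass.coe_zpow, he']
      show x * (v : Ω) * x⁻¹ = (v : Ω) * ((v : Ω)⁻¹ * x * (v : Ω)⁻¹⁻¹ * x⁻¹)
      group)
    rw [e, QuotientGroup.mk_mul, QuotientGroup.mk_mul,
      (QuotientGroup.eq_one_iff _).2 (hzmem u hu huR), one_mul]
    rfl

end Cfsg.Agent.Lib.FusionOrderFive
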