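import Cfsg.Agent.Lib.FusionOrderFive.Elementary
import Cfsg.Agent.Lib.PGroup.NormalElem

/-!
A system with trivial core on a group of order `p ^ 5` without abelian maximal subgroups: the centre
is moved by an elementary abelian essential subgroup of order `p ^ 2` or `p ^ 3`.
-/

set_option autoImplicit false
set_option linter.unusedSectionVars false

namespace Cfsg.Agent.Lib.FusionOrderFive

open Cfsg Cfsg.FusionSystem Cfsg.Agent.Lib.Fusion Cfsg.Agent.Lib.Fusion87
open scoped commutatorElement

universe u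

/-- A group whose generators commute modulo a normal subgroup has its commutators there. -/
theorem commutator_le_of_generators {G : Type*} [Group G] (K : Subgroup G) [K.Normal] {s : Set G}
    (hs : Subgroup.closure s = ⊤) (h : ∀ x ∈ s, ∀ y ∈ s, ⁅x, y⁆ ∈ K) : commutator G ≤ K := by
  rw [commutator_def, Subgroup.commutator_le]
  intro x _ y _
  rw [← QuotientGroup.ker_mk' K, MonoidHom.mem_ker, map_commutatorElement,
    commutatorElement_eq_one_iff_mul_comm]
  have hq : ∀ u ∈ s, ∀ v, QuotientGroup.mk' K u * QuotientGroup.mk' K v =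
      QuotientGroup.mk' K v * QuotientGroup.mk' K u := by
    intro u hu v
    have hv : v ∈ Subgroup.closure s := hs ▸ Subgroup.mem_top v
    induction hv using Subgroup.closure_induction with
    | mem w hw =>
      rw [← commutatorElement_eq_one_iff_mul_comm, ← map_commutatorElement, ← MonoidHom.mem_ker,
        QuotientGroup.ker_mk']
      exact h u hu w hw
    | one => simp
    | mul a b _ _ ha hb => rw [map_mul]; exact Commute.mul_right ha hb
    | inv a _ ha => rw [map_inv]; exact Commute.inv_right ha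
  have hx : x ∈ Subgroup.closure s := hs ▸ Subgroup.mem_top x
  induction hx using Subgroup.closure_induction with
  | mem w hw => exact hq w hw y
  | one => simp
  | mul a b _ _ ha hb =>
    rw [map_mul]; exact Commute.mul_left (ha (Subgroup.mem_top _)) (hb (Subgroup.mem_top _))
  | inv a _ ha => rw [map_inv]; exact Commute.inv_left (ha (Subgroup.mem_top _))

variable {Ω : Type u} [Group Ω]

theorem comm_closure {s : Set Ω} (h : ∀ a ∈ s, ∀ b ∈ s, a * b = b * a) :
    ∀ a ∈ Subgroup.closure s, ∀ b ∈ Subgroup.closure s, a * b = b * a := by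
  have h1 : s ⊆ (Subgroup.centralizer s : Set Ω) := fun a ha => fun b hb => h b hb a ha
  have h2 : Subgroup.closure s ≤ Subgroup.centralizer s := (Subgroup.closure_le _).2 h1
  have h3 : s ⊆ (Subgroup.centralizer (Subgroup.closure s : Set Ω) : Set Ω) := fun a ha b hb =>
    (Subgroup.mem_centralizer_iff.1 (h2 hb) a ha).symm
  intro a ha b hb
  exact (Subgroup.mem_centralizer_iff.1 ((Subgroup.closure_le _).2 h3 ha) b hb).symm

/-- The hypotheses: no abelian subgroup of index `p` in a group of order `p ^ 5`, trivial core. -/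
structure Setup (p : ℕ) (S : Subgroup Ω) (F : FusionSystem S) : Prop where
  hS : IsPGroup p S
  hF : F.IsSaturated p
  hp2 : p ≠ 2
  hcard : Nat.card S = p ^ 5
  hcore : F.core = ⊥
  hno : ∀ A : Subgroup Ω, A ≤ S → (∀ a ∈ A, ∀ b ∈ A, a * b = b * a) → Nat.card A ≠ p ^ 4

variable {S : Subgroup Ω} [Finite S] {F : FusionSystem S} {p : ℕ} [hp : Fact p.Prime]
  (h : Setup p S F)

include h

theorem exists_card {A : Subgroup Ω} (hA : A ≤ S) : ∃ i, i ≤ 5 ∧ Nat.card A = p ^ i := by
  haveI := finite_of_le hA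
  obtain ⟨i, hi⟩ := IsPGroup.iff_card.1 (h.hS.to_le hA)
  have := Subgroup.card_le_of_le hA
  rw [hi, h.hcard, Nat.pow_le_pow_iff_right hp.out.one_lt] at this
  exact ⟨i, this, hi⟩

theorem card_mul_le {A B : Subgroup Ω} (hB : B ≤ S) (hlt : A < B) : Nat.card A * p ≤ Nat.card B := by
  haveI := finite_of_le hB
  obtain ⟨i, -, hi⟩ := exists_card h (hlt.le.trans hB)
  obtain ⟨j, -, hj⟩ := exists_card h hB
  have : Nat.card A < Nat.card B := lt_of_le_of_ne (Subgroup.card_le_of_le hlt.le) fun e =>
    hlt.ne (Subgroup.eq_of_le_of_card_ge hlt.le e.ge)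
  rw [hi, hj, Nat.pow_lt_pow_iff_right hp.out.one_lt] at this
  rw [hi, hj, ← pow_succ]
  exact Nat.pow_le_pow_right hp.out.pos this

/-- Adding an element to a central subgroup of a subgroup gives an abelian subgroup. -/
theorem comm_sup_zpowers {W : Subgroup Ω} {x : Ω} (hW : ∀ a ∈ W, ∀ b ∈ W, a * b = b * a)
    (hx : ∀ a ∈ W, a * x = x * a) :
    ∀ a ∈ W ⊔ Subgroup.zpowers x, ∀ b ∈ W ⊔ Subgroup.zpowers x, a * b = b * a := by
  have e : W ⊔ Subgroup.zpowers x = Subgroup.closure ((W : Set Ω) ∪ {x}) := by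
    rw [Subgroup.closure_union, Subgroup.closure_eq, Subgroup.zpowers_eq_closure]
  rw [e]
  refine comm_closure ?_
  rintro a (ha | rfl) b (hb | rfl)
  exacts [hW a ha b hb, hx a ha, (hx b hb).symm, rfl]

theorem nonabelian : ¬ ∀ a ∈ S, ∀ b ∈ S, a * b = b * a := by
  intro hab
  obtain ⟨A, hA⟩ := Sylow.exists_subgroup_card_pow_prime p (n := 4) (G := S)
    (by rw [h.hcard]; exact pow_dvd_pow p (by norm_num))
  exact h.hno (A.map S.subtype) (Subgroup.map_subtype_le A)
    (fun a ha b hb => hab a (Subgroup.map_subtype_le A ha) b (Subgroup.map_subtype_le A hb))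
    (by rw [Subgroup.card_map_of_injective S.subtype_injective, hA])

theorem center_comm {W : Subgroup Ω} :
    ∀ a ∈ centralizerIn W W, ∀ b ∈ centralizerIn W W, a * b = b * a :=
  fun _ ha b hb => (Subgroup.mem_centralizer_iff.1 ha.2 b hb.1).symm

/-- The centre of a non-abelian subgroup has index at least `p ^ 2`. -/
theorem card_center_mul {W : Subgroup Ω} (hW : W ≤ S) (hna : ¬ ∀ a ∈ W, ∀ b ∈ W, a * b = b * a) :
    Nat.card (centralizerIn W W) * p * p ≤ Nat.card W := by
  haveI := finite_of_le hW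
  obtain ⟨x, hx, hxZ⟩ : ∃ x ∈ W, x ∉ centralizerIn W W := by
    by_contra hall
    push Not at hall
    exact hna fun a ha b hb => center_comm h a (hall a ha) b (hall b hb)
  set B := centralizerIn W W ⊔ Subgroup.zpowers x
  have hBW : B ≤ W := sup_le inf_le_left (Subgroup.zpowers_le.2 hx)
  have hlt : centralizerIn W W < B := lt_of_le_of_ne le_sup_left fun e =>
    hxZ (e.ge (Subgroup.mem_sup_right (Subgroup.mem_zpowers x)))
  have hlt' : B < W := lt_of_le_of_ne hBW fun e => hna (by
    rw [← e]
    exact comm_sup_zpowers h (center_comm h) fun a ha => (Subgroup.mem_centralizer_iff.1 ha.2 x hx).symm)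
  calc Nat.card (centralizerIn W W) * p * p ≤ Nat.card B * p :=
        Nat.mul_le_mul_right _ (card_mul_le h (hBW.trans hW) hlt)
    _ ≤ Nat.card W := card_mul_le h hW hlt'

theorem center_ne_bot : centralizerIn S S ≠ ⊥ := by
  intro hb
  haveI : Nontrivial S := by
    refine Finite.one_lt_card_iff_nontrivial.1 ?_
    rw [h.hcard]; exact Nat.one_lt_pow (by norm_num) hp.out.one_lt
  haveI := h.hS.center_nontrivial
  obtain ⟨⟨z, hzc⟩, hz⟩ := exists_ne (1 : Subgroup.center S)
  have : (z : Ω) ∈ centralizerIn S S := ⟨z.2, fun y hy =>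
    congrArg Subtype.val (Subgroup.mem_center_iff.1 hzc ⟨y, hy⟩)⟩
  rw [hb, Subgroup.mem_bot] at this
  exact hz (Subtype.ext (Subtype.ext this))

theorem card_center_le : Nat.card (centralizerIn S S) ≤ p ^ 2 := by
  obtain ⟨i, -, hi⟩ := exists_card h (A := centralizerIn S S) inf_le_left
  have h1 := card_center_mul h le_rfl (nonabelian h)
  rw [hi, h.hcard, mul_assoc, ← sq, ← pow_add, Nat.pow_le_pow_iff_right hp.out.one_lt] at h1
  by_contra hlt
  rw [not_le, hi, Nat.pow_lt_pow_iff_right hp.out.one_lt] at hlt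
  -- a central subgroup of order `p ^ 3` and one more element
  obtain ⟨x, hx, hxZ⟩ : ∃ x ∈ S, x ∉ centralizerIn S S := by
    by_contra hall
    push Not at hall
    exact nonabelian h fun a ha b hb => center_comm h a (hall a ha) b (hall b hb)
  set B := centralizerIn S S ⊔ Subgroup.zpowers x
  have hBS : B ≤ S := sup_le inf_le_left (Subgroup.zpowers_le.2 hx)
  have hab := comm_sup_zpowers h (center_comm h (W := S)) fun a ha =>
    (Subgroup.mem_centralizer_iff.1 ha.2 x hx).symm
  have h2 := card_mul_le h hBS (lt_of_le_of_ne le_sup_left fun e =>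
    hxZ (e.ge (Subgroup.mem_sup_right (Subgroup.mem_zpowers x))) : centralizerIn S S < B)
  have hne : B ≠ S := fun e => nonabelian h (by rw [← e]; exact hab)
  have h3 := card_mul_le h le_rfl (lt_of_le_of_ne hBS hne)
  obtain ⟨j, -, hj⟩ := exists_card h hBS
  rw [hi, hj, ← pow_succ, Nat.pow_le_pow_iff_right hp.out.one_lt] at h2
  rw [hj, h.hcard, ← pow_succ, Nat.pow_le_pow_iff_right hp.out.one_lt] at h3
  exact h.hno B hBS hab (by rw [hj, show j = 4 by omega])

/-- A subgroup of order `p` normalised by `S` is central. -/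
theorem central_of_card_prime {A : Subgroup Ω} (hA : A ≤ S) (hn : S ≤ Subgroup.normalizer (A : Set Ω))
    (hc : Nat.card A = p) : A ≤ centralizerIn S S := by
  haveI : (A.subgroupOf S).Normal :=
    (Subgroup.normal_subgroupOf_iff hA).2 fun a g ha hg => (Subgroup.mem_normalizer_iff.1 (hn hg) a).1 ha
  have := Lib.NormalElem.le_center_of_card_prime h.hS (A := A.subgroupOf S)
    (by rw [Nat.card_congr (Subgroup.subgroupOfEquivOfLe hA).toEquiv, hc])
  exact fun a ha => ⟨hA ha, fun y hy => congrArg Subtype.val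
    (Subgroup.mem_center_iff.1 (this (show (⟨a, hA ha⟩ : S) ∈ A.subgroupOf S from ha)) ⟨y, hy⟩)⟩

theorem center_le_of_centric {R : Subgroup Ω} (hR : F.IsCentric R) : centralizerIn S S ≤ R := fun z hz =>
  centralizerIn_le_of_isCentric hR
    ⟨hz.1, fun y hy => Subgroup.mem_centralizer_iff.1 hz.2 y (hR.1 hy)⟩

omit [Finite S] h in
theorem center_invariant {R : Subgroup Ω} (α : MulAut R) {x : R} (hx : (x : Ω) ∈ centralizerIn R R) :
    ((α x : R) : Ω) ∈ centralizerIn R R := by
  refine ⟨(α x).2, fun y hy => ?_⟩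
  obtain ⟨w, hw⟩ := α.surjective ⟨y, hy⟩
  rw [show y = ((α w : R) : Ω) from (congrArg Subtype.val hw).symm, ← Subgroup.coe_mul,
    ← Subgroup.coe_mul, ← map_mul, ← map_mul]
  exact congrArg Subtype.val (congrArg α (Subtype.ext (Subgroup.mem_centralizer_iff.1 hx.2 w w.2)))

/-- Some essential subgroup moves the centre. -/
theorem exists_moving : ∃ R, F.IsEssential p R ∧
    ∃ α ∈ F.autGroup R, ∃ z : R, (z : Ω) ∈ centralizerIn S S ∧ ((α z : R) : Ω) ∉ centralizerIn S S := by
  by_contra hall
  push Not at hall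
  have hN : F.IsNormal (centralizerIn S S) := by
    refine isNormal_of_aut h.hS h.hF fun P hP => ?_
    have hle : centralizerIn S S ≤ P := by
      rcases hP with rfl | hP
      exacts [inf_le_left, center_le_of_centric h hP.1]
    have hPS : P ≤ S := by
      rcases hP with rfl | hP
      exacts [le_rfl, hP.1.1]
    refine ⟨hle, fun α hα => ?_⟩
    haveI := finite_of_le hPS
    refine Subgroup.eq_of_le_of_card_ge ?_ (Subgroup.card_map_of_injective α.injective).ge
    rintro _ ⟨x, hx, rfl⟩
    rw [SetLike.mem_coe, Subgroup.mem_subgroupOf] at hx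
    rw [Subgroup.mem_subgroupOf]
    rcases hP with rfl | hP
    · exact center_invariant α hx
    · exact hall P hP α hα x hx
  have := le_core hN
  rw [h.hcore, le_bot_iff] at this
  exact center_ne_bot h this

omit [Finite S] h in
theorem subgroupOf_commutator_mem {R : Subgroup Ω} (α : MulAut R) {x : R}
    (hx : x ∈ commutator R) : α x ∈ commutator R :=
  (Subgroup.characteristic_iff_le_comap.1 (inferInstance : (commutator R).Characteristic) α) hx

/-- A moving essential subgroup is elementary abelian of order `p ^ 2` or `p ^ 3`. -/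
theorem structure_moving {R : Subgroup Ω} (hE : F.IsEssential p R) {α : MulAut R}
    (hα : α ∈ F.autGroup R) {z : R} (hz : (z : Ω) ∈ centralizerIn S S)
    (hαz : ((α z : R) : Ω) ∉ centralizerIn S S) :
    (∀ a b : R, a * b = b * a) ∧ (∀ a : R, a ^ p = 1) ∧ (Nat.card R = p ^ 2 ∨ Nat.card R = p ^ 3) := by
  have hRS := hE.1.1
  haveI := finite_of_le hRS
  obtain ⟨i, hi5, hi⟩ := exists_card h hRS
  have hZR : centralizerIn S S ≤ centralizerIn R R := fun y hy =>
    ⟨center_le_of_centric h hE.1 hy, fun r hr => Subgroup.mem_centralizer_iff.1 hy.2 r (hRS hr)⟩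
  have hne : centralizerIn S S < centralizerIn R R := lt_of_le_of_ne hZR fun e =>
    hαz (e ▸ center_invariant α (e ▸ hz))
  obtain ⟨c, -, hc⟩ := exists_card h (A := centralizerIn R R) (inf_le_left.trans hRS)
  obtain ⟨k, -, hk⟩ := exists_card h (A := centralizerIn S S) inf_le_left
  have hk0 : k ≠ 0 := fun h0 => center_ne_bot h (Subgroup.card_eq_one.1 (by rw [hk, h0, pow_zero]))
  have hkc : k + 1 ≤ c := by
    have := card_mul_le h (B := centralizerIn R R) (inf_le_left.trans hRS) hne
    rwa [hk, hc, ← pow_succ, Nat.pow_le_pow_iff_right hp.out.one_lt] at this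
  have hi4 : i ≤ 4 := by
    by_contra hlt
    refine AbelianMaximal.ne_of_isEssential h.hS h.hF hE ?_
    exact Subgroup.eq_of_le_of_card_ge hRS (by rw [hi, h.hcard, show i = 5 by omega])
  by_cases hab : ∀ a b : R, a * b = b * a
  · have hab' : ∀ a ∈ R, ∀ b ∈ R, a * b = b * a := fun a ha b hb =>
      congrArg Subtype.val (hab ⟨a, ha⟩ ⟨b, hb⟩)
    have hi3 : i ≤ 3 := by
      by_contra hlt
      exact h.hno R hRS hab' (by rw [hi, show i = 4 by omega])
    have hci : c ≤ i := by
      have := Subgroup.card_le_of_le (H := centralizerIn R R) (K := R) inf_le_left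
      rwa [hc, hi, Nat.pow_le_pow_iff_right hp.out.one_lt] at this
    refine ⟨hab, fun a => pow_eq_one_of_isEssential h.hS h.hp2 hE
      (by rw [hi]; exact Nat.pow_le_pow_right hp.out.pos hi3) a, ?_⟩
    rw [hi]
    rcases (show i = 2 ∨ i = 3 by omega) with rfl | rfl
    exacts [Or.inl rfl, Or.inr rfl]
  exfalso
  have hna : ¬ ∀ a ∈ R, ∀ b ∈ R, a * b = b * a := fun hh =>
    hab fun a b => Subtype.ext (hh a a.2 b b.2)
  have h2 := card_center_mul h hRS hna
  rw [hc, hi, mul_assoc, ← sq, ← pow_add, Nat.pow_le_pow_iff_right hp.out.one_lt] at h2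
  have hi' : i = 4 := by omega
  have hc2 : c = 2 := by omega
  have hk1 : k = 1 := by omega
  -- the derived subgroup is the centre of `S`
  set W := centralizerIn R R with hW
  set W' : Subgroup R := W.subgroupOf R with hW'
  have hW'c : W' ≤ Subgroup.center R := fun w hw => Subgroup.mem_center_iff.2 fun r => Subtype.ext
    (Subgroup.mem_centralizer_iff.1 (Subgroup.mem_subgroupOf.1 hw).2 r r.2)
  haveI hW'n : W'.Normal := ⟨fun w hw g => by
    rwa [Subgroup.mem_center_iff.1 (hW'c hw) g, mul_inv_cancel_right]⟩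
  have hWcard : Nat.card W' = p ^ 2 := by
    rw [hW', Nat.card_congr (Subgroup.subgroupOfEquivOfLe (H := W) (K := R) inf_le_left).toEquiv, hc, hc2]
  have hWidx : W'.index = p ^ 2 := by
    have := W'.card_mul_index
    rw [hWcard, hi, hi', show p ^ 4 = p ^ 2 * p ^ 2 by ring] at this
    exact Nat.eq_of_mul_eq_mul_left (pow_pos hp.out.pos 2) this
  have hQab : ∀ u v : R ⧸ W', u * v = v * u :=
    fun u v => (IsPGroup.commutative_of_card_eq_prime_sq (G := R ⧸ W') (by rw [← hWidx]; rfl)) u v
  have hcW : commutator R ≤ W' := by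
    rw [commutator_def, Subgroup.commutator_le]
    intro a _ b _
    rw [← QuotientGroup.eq_one_iff]
    change QuotientGroup.mk' W' ⁅a, b⁆ = 1
    rw [map_commutatorElement, commutatorElement_eq_one_iff_mul_comm]
    exact hQab _ _
  have hgen : ∀ a b : R, a ∉ W' → b ∉ W' ⊔ Subgroup.zpowers a →
      (W' ⊔ Subgroup.zpowers a ⊔ Subgroup.zpowers b = ⊤ ∧ a ^ p ∈ W') := by
    intro a b ha hb
    have hRp := h.hS.to_le hRS
    have h12 : W' < W' ⊔ Subgroup.zpowers a := lt_of_le_of_ne le_sup_left fun e =>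
      ha (e.ge (Subgroup.mem_sup_right (Subgroup.mem_zpowers a)))
    have h23 : W' ⊔ Subgroup.zpowers a < W' ⊔ Subgroup.zpowers a ⊔ Subgroup.zpowers b :=
      lt_of_le_of_ne le_sup_left fun e => hb (e.ge (Subgroup.mem_sup_right (Subgroup.mem_zpowers b)))
    have hstep : ∀ X Y : Subgroup R, X < Y → Nat.card X * p ≤ Nat.card Y := fun X Y hXY => by
      have := card_mul_le h ((Subgroup.map_subtype_le Y).trans hRS)
        ((Subgroup.map_lt_map_iff_of_injective R.subtype_injective).2 hXY)
      rwa [Subgroup.card_map_of_injective R.subtype_injective,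
        Subgroup.card_map_of_injective R.subtype_injective] at this
    have htop : W' ⊔ Subgroup.zpowers a ⊔ Subgroup.zpowers b = ⊤ := by
      refine Subgroup.eq_top_of_card_eq _ (le_antisymm (Subgroup.card_le_card_group _) ?_)
      calc Nat.card R = p ^ 2 * p * p := by rw [hi, hi']; ring
        _ ≤ _ := by
          rw [← hWcard]
          exact (Nat.mul_le_mul_right _ (hstep _ _ h12)).trans (hstep _ _ h23)
    refine ⟨htop, ?_⟩
    by_contra hap
    -- the quotient is cyclic
    refine hb ?_
    have h12' : W' < W' ⊔ Subgroup.zpowers (a ^ p) := lt_of_le_of_ne le_sup_left fun e =>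
      hap (e.ge (Subgroup.mem_sup_right (Subgroup.mem_zpowers _)))
    have hle' : W' ⊔ Subgroup.zpowers (a ^ p) ≤ W' ⊔ Subgroup.zpowers a :=
      sup_le_sup_left (Subgroup.zpowers_le.2 (Subgroup.pow_mem _ (Subgroup.mem_zpowers a) p)) _
    have hlt' : W' ⊔ Subgroup.zpowers (a ^ p) < W' ⊔ Subgroup.zpowers a := by
      refine lt_of_le_of_ne hle' fun e => ?_
      have hamem : a ∈ W' ⊔ Subgroup.zpowers (a ^ p) := e ▸ Subgroup.mem_sup_right (Subgroup.mem_zpowers a)
      obtain ⟨w, hw, y, hy, hwy⟩ := Subgroup.mem_sup_of_normal_left.1 hamem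
      obtain ⟨l, rfl⟩ := Subgroup.mem_zpowers_iff.1 hy
      obtain ⟨n, hn⟩ := hRp a
      have hco : IsCoprime (1 - (p : ℤ) * l) ((p : ℤ) ^ n) := IsCoprime.pow_right ⟨1, l, by ring⟩
      obtain ⟨u, v, huv⟩ := hco
      refine ha ?_
      have e1 : a ^ (1 - (p : ℤ) * l) = w := by
        rw [zpow_sub, zpow_one, zpow_mul, zpow_natCast]
        exact (eq_mul_inv_of_mul_eq hwy).symm
      rw [← zpow_one a, ← huv, zpow_add, mul_comm u, mul_comm v, zpow_mul, zpow_mul, e1,
        ← Nat.cast_pow, zpow_natCast, hn, one_zpow, mul_one]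
      exact W'.zpow_mem hw u
    have htop' : W' ⊔ Subgroup.zpowers a = ⊤ := by
      refine Subgroup.eq_top_of_card_eq _ (le_antisymm (Subgroup.card_le_card_group _) ?_)
      calc Nat.card R = p ^ 2 * p * p := by rw [hi, hi']; ring
        _ ≤ _ := by
          rw [← hWcard]
          exact (Nat.mul_le_mul_right _ (hstep _ _ h12')).trans (hstep _ _ hlt')
    rw [htop']; exact Subgroup.mem_top _
  obtain ⟨a, ha⟩ : ∃ a : R, a ∉ W' := by
    by_contra hall
    push Not at hall
    exact hab fun a b => (Subgroup.mem_center_iff.1 (hW'c (hall b)) a)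
  obtain ⟨b, hb⟩ : ∃ b : R, b ∉ W' ⊔ Subgroup.zpowers a := by
    by_contra hall
    push Not at hall
    refine hab fun u v => Subtype.ext ?_
    have hh := comm_sup_zpowers h (center_comm h (W := R))
      fun w hw => (Subgroup.mem_centralizer_iff.1 hw.2 a a.2).symm
    have key : ∀ u : R, (u : Ω) ∈ W ⊔ Subgroup.zpowers (a : Ω) := fun u => by
      obtain ⟨w, hw, y, hy, rfl⟩ := Subgroup.mem_sup_of_normal_left.1 (hall u)
      obtain ⟨l, rfl⟩ := Subgroup.mem_zpowers_iff.1 hy
      exact mul_mem (Subgroup.mem_sup_left (Subgroup.mem_subgroupOf.1 hw))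
        (Subgroup.mem_sup_right (by simp [Subgroup.mem_zpowers_iff]))
    exact hh u (key u) v (key v)
  obtain ⟨htop, hap⟩ := hgen a b ha hb
  set c0 := ⁅a, b⁆
  have hc0 : c0 ∈ Subgroup.center R :=
    hW'c (hcW (Subgroup.commutator_mem_commutator (Subgroup.mem_top a) (Subgroup.mem_top b)))
  haveI hK : (Subgroup.zpowers c0).Normal := ⟨fun w hw g => by
    rwa [(Subgroup.mem_center_iff.1 (Subgroup.zpowers_le.2 hc0 hw) g), mul_assoc, mul_inv_cancel,
      mul_one]⟩
  have hle : commutator R ≤ Subgroup.zpowers c0 := by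
    refine commutator_le_of_generators _ (s := (W' : Set R) ∪ {a, b}) ?_ ?_
    · refine eq_top_iff.2 (htop.ge.trans (sup_le (sup_le ?_ ?_) ?_))
      · exact fun w hw => Subgroup.subset_closure (Or.inl hw)
      · exact Subgroup.zpowers_le.2 (Subgroup.subset_closure (Or.inr (Or.inl rfl)))
      · exact Subgroup.zpowers_le.2 (Subgroup.subset_closure (Or.inr (Or.inr rfl)))
    · have hcen : ∀ w ∈ W', ∀ y : R, ⁅w, y⁆ ∈ Subgroup.zpowers c0 ∧ ⁅y, w⁆ ∈ Subgroup.zpowers c0 :=
        fun w hw y => by
          have e := Subgroup.mem_center_iff.1 (hW'c hw) y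
          rw [commutatorElement_eq_one_iff_mul_comm.2 e.symm, commutatorElement_eq_one_iff_mul_comm.2 e]
          exact ⟨one_mem _, one_mem _⟩
      rintro x (hx | rfl | rfl) y (hy | rfl | rfl)
      all_goals first
        | exact (hcen _ hx _).1
        | exact (hcen _ hy _).2
        | (rw [commutatorElement_self]; exact one_mem _)
        | exact Subgroup.mem_zpowers c0
        | (rw [← commutatorElement_inv]; exact inv_mem (Subgroup.mem_zpowers c0))
  have hc0p : c0 ^ p = 1 := by
    have hit : ∀ n : ℕ, a ^ n * b * (a ^ n)⁻¹ = c0 ^ n * b := by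
      intro n
      induction n with
      | zero => simp
      | succ n ih =>
        have e : a * b * a⁻¹ = c0 * b := by simp [c0, commutatorElement_def]
        rw [pow_succ', mul_inv_rev, show a * a ^ n * b * ((a ^ n)⁻¹ * a⁻¹) =
          a * (a ^ n * b * (a ^ n)⁻¹) * a⁻¹ by group, ih,
          show a * (c0 ^ n * b) * a⁻¹ = (a * c0 ^ n * a⁻¹) * (a * b * a⁻¹) by group, e,
          Subgroup.mem_center_iff.1 (Subgroup.pow_mem _ hc0 n) a, mul_inv_cancel_right, ← mul_assoc,
          ← pow_succ]
    have := hit p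
    rwa [← Subgroup.mem_center_iff.1 (hW'c hap) b, mul_inv_cancel_right, eq_comm, mul_eq_right] at this
  set D := (commutator R).map R.subtype with hD
  have hDS : D ≤ S := (Subgroup.map_subtype_le _).trans hRS
  have hDn : S ≤ Subgroup.normalizer (D : Set Ω) := by
    intro s hs
    have hn : S ≤ Subgroup.normalizer (R : Set Ω) := by
      -- maximal subgroups are normal
      have hlt := lt_normalizerIn h.hS (lt_of_le_of_ne hRS (AbelianMaximal.ne_of_isEssential h.hS h.hF hE))
      have h3 := card_mul_le h inf_le_left hlt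
      have heq : normalizerIn S R = S := Subgroup.eq_of_le_of_card_ge inf_le_left (by
        rw [h.hcard, pow_succ, ← hi', ← hi]; exact h3)
      rw [← heq]; exact inf_le_right
    have key : ∀ g ∈ S, ∀ x ∈ D, g * x * g⁻¹ ∈ D := by
      rintro g hg _ ⟨x, hx, rfl⟩
      exact ⟨conjAut R g (hn hg) x, subgroupOf_commutator_mem _ hx, rfl⟩
    refine Subgroup.mem_normalizer_iff.2 fun x => ⟨key s hs x, fun hx => ?_⟩
    simpa [mul_assoc] using key s⁻¹ (S.inv_mem hs) _ hx
  have hDne : D ≠ ⊥ := fun e => hab fun u v => by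
    rw [hD, Subgroup.map_eq_bot_iff_of_injective _ R.subtype_injective] at e
    have hm : ⁅u, v⁆ ∈ commutator R :=
      Subgroup.commutator_mem_commutator (Subgroup.mem_top u) (Subgroup.mem_top v)
    rw [e, Subgroup.mem_bot] at hm
    exact commutatorElement_eq_one_iff_mul_comm.1 hm
  have hDc : Nat.card D = p := by
    obtain ⟨j, -, hj⟩ := exists_card h hDS
    have h1 : Nat.card D ≤ p := by
      rw [hD, Subgroup.card_map_of_injective R.subtype_injective]
      refine (Subgroup.card_le_of_le hle).trans ?_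
      rw [Nat.card_zpowers]
      exact orderOf_le_of_pow_eq_one hp.out.pos hc0p
    have hj0 : j ≠ 0 := fun e => hDne (Subgroup.card_eq_one.1 (by rw [hj, e, pow_zero]))
    exact le_antisymm h1 (by rw [hj]; exact Nat.le_self_pow hj0 p)
  haveI : Finite (centralizerIn S S) := finite_of_le (S := S) inf_le_left
  have hDeq : D = centralizerIn S S := Subgroup.eq_of_le_of_card_ge
    (central_of_card_prime h hDS hDn hDc) (by rw [hDc, hk, hk1, pow_one])
  rw [← hDeq] at hz hαz
  obtain ⟨z', hz', hzz⟩ := hz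
  obtain rfl : z' = z := Subtype.ext hzz
  exact hαz ⟨α z', subgroupOf_commutator_mem α hz', rfl⟩

end Cfsg.Agent.Lib.FusionOrderFive
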