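import Cfsg.Agent.Lib.FusionOrderFive.CubeAlgebra
import Cfsg.Agent.Lib.FusionOrderFive.Setup

/-!
Weights of automorphisms on the group around an elementary abelian essential subgroup of order
`p ^ 3`.
-/

set_option autoImplicit false
set_option linter.unusedSectionVars false

namespace Cfsg.Agent.Lib.FusionOrderFive

open scoped commutatorElement

theorem two_ne_zero_zmod {p : ℕ} [hp : Fact p.Prime] (hp2 : p ≠ 2) : (2 : ZMod p) ≠ 0 := by
  intro h
  have h' : ((2 : ℕ) : ZMod p) = 0 := by simpa using h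
  rw [ZMod.natCast_eq_zero_iff] at h'
  exact hp2 ((Nat.prime_dvd_prime_iff_eq hp.out Nat.prime_two).1 h')

theorem zpow_eq_one_of_cast {p : ℕ} {G : Type*} [Group G] {x : G} (hx : x ^ p = 1) {i : ℤ}
    (hi : (i : ZMod p) = 0) : x ^ i = 1 := by
  obtain ⟨q, rfl⟩ := (ZMod.intCast_zmod_eq_zero_iff_dvd i p).1 hi
  rw [zpow_mul, zpow_natCast, hx, one_zpow]

/-- An element in a normal subgroup times one cyclic group, with the cyclic part in front. -/
theorem exists_zpow_mul {G : Type*} [Group G] {N : Subgroup G} [N.Normal] {x g : G}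
    (hg : g ∈ N ⊔ Subgroup.zpowers x) : ∃ k : ℤ, ∃ w ∈ N, g = x ^ k * w := by
  obtain ⟨w, hw, u, hu, rfl⟩ := Subgroup.mem_sup_of_normal_left.1 hg
  obtain ⟨k, rfl⟩ := Subgroup.mem_zpowers_iff.1 hu
  refine ⟨k, (x ^ k)⁻¹ * w * (x ^ k)⁻¹⁻¹, (inferInstance : N.Normal).conj_mem w hw _, ?_⟩
  rw [inv_inv]
  group

namespace CubeData

variable {p : ℕ} [hp : Fact p.Prime] {G : Type*} [Group G] [Finite G] (c : CubeData p G)
include c

theorem z_central {w : G} (hw : w ∈ Subgroup.zpowers c.z) (g : G) : Commute w g := by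
  obtain ⟨k, rfl⟩ := Subgroup.mem_zpowers_iff.1 hw
  exact (c.zc g).zpow_left k

theorem zpowers_le_I : Subgroup.zpowers c.z ≤ c.I := Subgroup.zpowers_le.2 c.zI

theorem I_eq : Subgroup.zpowers c.z ⊔ Subgroup.zpowers c.l = c.I := by
  refine Subgroup.eq_of_le_of_card_ge (sup_le c.zpowers_le_I (Subgroup.zpowers_le.2 c.lI)) ?_
  have := c.card_le_sup c.lz
  rwa [Nat.card_zpowers, orderOf_eq_prime c.zp c.z1, ← sq, ← c.hI] at this

theorem lr_ne : QuotientGroup.mk' (Subgroup.zpowers c.z) c.l ≠ 1 := fun h =>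
  c.lz ((QuotientGroup.eq_one_iff _).1 h)

theorem lr_p : QuotientGroup.mk' (Subgroup.zpowers c.z) c.l ^ p = 1 := by
  rw [← map_pow, c.lp, map_one]

theorem l_central (g : G) : ⁅c.l, g⁆ ∈ Subgroup.zpowers c.z := by
  refine comm_mem_of_commute_mk ?_
  set r := QuotientGroup.mk' (Subgroup.zpowers c.z)
  have hmap : c.I.map r = Subgroup.zpowers (r c.l) := by
    rw [← c.I_eq, Subgroup.map_sup, MonoidHom.map_zpowers, MonoidHom.map_zpowers,
      show r c.z = 1 from (QuotientGroup.eq_one_iff _).2 (Subgroup.mem_zpowers _),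
      Subgroup.zpowers_one_eq_bot, bot_sup_eq]
  haveI : (Subgroup.zpowers (r c.l)).Normal := hmap ▸ c.In.map r (QuotientGroup.mk'_surjective _)
  have := Lib.NormalElem.le_center_of_card_prime (c.isPGroup.to_quotient _)
    (A := Subgroup.zpowers (r c.l)) (by rw [Nat.card_zpowers, orderOf_eq_prime c.lr_p c.lr_ne])
  exact (Subgroup.mem_center_iff.1 (this (Subgroup.mem_zpowers _)) (r g)).symm

theorem I_central {i : G} (hi : i ∈ c.I) (g : G) : ⁅i, g⁆ ∈ Subgroup.zpowers c.z := by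
  refine comm_mem_of_commute_mk ?_
  rw [← c.I_eq] at hi
  obtain ⟨a, ha, b, hb, rfl⟩ := Subgroup.mem_sup_of_normal_left.1 hi
  obtain ⟨k, rfl⟩ := Subgroup.mem_zpowers_iff.1 hb
  rw [map_mul, map_zpow, show QuotientGroup.mk' (Subgroup.zpowers c.z) a = 1 from
    (QuotientGroup.eq_one_iff _).2 ha, one_mul]
  exact (commute_mk (c.l_central g)).zpow_left k

theorem exists_j : ∃ j : ℤ, ⁅c.e, c.d⁆ = c.z ^ j ∧ (j : ZMod p) ≠ 0 := by
  obtain ⟨j, hj⟩ := Subgroup.mem_zpowers_iff.1 (c.comm c.e c.eN c.d c.d_mem)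
  refine ⟨j, hj.symm, fun h0 => c.d_notMem (c.hC c.d c.d_mem ?_)⟩
  rw [zpow_eq_one_of_cast c.zp h0] at hj
  exact (commutatorElement_eq_one_iff_commute.1 hj.symm).symm

variable {β : G →* G} {n m k : ℤ} {w : G}

theorem map_d (hm : β c.e = c.e ^ m) (hw : w ∈ c.N) (hy : β c.y = c.y ^ k * w) :
    ∃ i ∈ c.I, β c.d = c.d ^ (m * k) * i := by
  let q := QuotientGroup.mk' c.I
  have h1 : q (β c.d) = q (c.d ^ (m * k)) := by
    show q (β ⁅c.e, c.y⁆) = q (⁅c.e, c.y⁆ ^ (m * k))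
    have hd : ∀ g, Commute (q g) ⁅q c.e, q c.y⁆ := fun g => by
      rw [← map_commutatorElement]; exact (commute_mk (c.comm_d_mem g)).symm
    rw [map_commutatorElement, hm, hy, map_zpow, map_commutatorElement, map_commutatorElement,
      map_mul, map_zpow, map_zpow,
      comm_mul_right ((commute_mk (c.zpowers_le_I (c.comm c.e c.eN w hw))).zpow_left m),
      comm_zpow (hd _) (hd _)]
  exact ⟨(c.d ^ (m * k))⁻¹ * β c.d, QuotientGroup.eq.1 h1.symm, (mul_inv_cancel_left _ _).symm⟩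

theorem weight_z (hz : β c.z = c.z ^ n) (hm : β c.e = c.e ^ m) (hw : w ∈ c.N)
    (hy : β c.y = c.y ^ k * w) : (n : ZMod p) = (m : ZMod p) * m * k := by
  obtain ⟨j, hj, hj0⟩ := c.exists_j
  obtain ⟨i, hi, hd⟩ := c.map_d hm hw hy
  have hc : ∀ g, Commute g ⁅c.e, c.d⁆ := fun g =>
    (c.z_central (c.comm c.e c.eN c.d c.d_mem) g).symm
  have h1 := congrArg β hj
  rw [map_commutatorElement, hm, hd, map_zpow, hz,
    comm_mul_right ((c.cen i hi _ (c.N.zpow_mem c.eN m)).symm), comm_zpow (hc _) (hc _), hj,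
    ← zpow_mul, ← zpow_mul] at h1
  have := cast_eq_of_zpow_eq c.zp c.z1 h1
  push_cast at this
  refine mul_right_cancel₀ hj0 ?_
  linear_combination -this

/-- An automorphism inverting `e` and `z` and fixing `l` puts `[d, y]` into the centre. -/
theorem comm_dy_mem (hp2 : p ≠ 2) (hz : β c.z = c.z ^ (-1 : ℤ)) (hm : β c.e = c.e ^ (-1 : ℤ))
    (hl : β c.l = c.l) (hw : w ∈ c.N) (hy : β c.y = c.y ^ k * w) :
    ⁅c.d, c.y⁆ ∈ Subgroup.zpowers c.z := by
  have hk := c.weight_z hz hm hw hy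
  push_cast at hk
  have hI := c.comm_d_mem c.y
  rw [← c.I_eq] at hI
  obtain ⟨a, ha, u, hu, he⟩ := Subgroup.mem_sup_of_normal_left.1 hI
  obtain ⟨b, rfl⟩ := Subgroup.mem_zpowers_iff.1 hu
  obtain ⟨i, hi, hd⟩ := c.map_d hm hw hy
  set r := QuotientGroup.mk' (Subgroup.zpowers c.z)
  have hra : r a = 1 := (QuotientGroup.eq_one_iff _).2 ha
  have hrb : r (β a) = 1 := by
    obtain ⟨s, rfl⟩ := Subgroup.mem_zpowers_iff.1 ha
    rw [map_zpow, hz, ← zpow_mul]
    exact (QuotientGroup.eq_one_iff _).2 (Subgroup.zpow_mem _ (Subgroup.mem_zpowers _) _)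
  have hu : ⁅r c.d, r c.y⁆ = r c.l ^ b := by
    rw [← map_commutatorElement, ← he, map_mul, map_zpow, hra, one_mul]
  have hcl : ∀ g, Commute (r g) ⁅r c.d, r c.y⁆ := fun g => by
    rw [hu]; exact ((commute_mk (c.l_central g)).symm).zpow_right b
  have h1 := congrArg (fun g => r (β g)) he
  simp only [map_mul, hrb, one_mul, map_zpow, hl] at h1
  rw [map_commutatorElement, hd, hy, map_commutatorElement, map_mul, map_mul, map_zpow, map_zpow,
    comm_mul_left (show Commute (r i) (r c.y ^ k * r w) from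
      ((commute_mk (c.I_central hi c.y)).zpow_right k).mul_right (commute_mk (c.I_central hi w))),
    comm_mul_right ((commute_mk (c.comm c.d c.d_mem w hw)).zpow_left _),
    comm_zpow (hcl _) (hcl _), hu, ← zpow_mul] at h1
  have h2 := cast_eq_of_zpow_eq c.lr_p c.lr_ne h1
  push_cast at h2
  have hb : (b : ZMod p) = 0 := by
    have h3 : (2 : ZMod p) * b = 0 := by
      linear_combination h2 + ((b : ZMod p) * (k - 1)) * hk
    exact (mul_eq_zero.1 h3).resolve_left (two_ne_zero_zmod hp2)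
  rw [← he, zpow_eq_one_of_cast c.lp hb, mul_one]
  exact ha

/-- Replace `y` so that it commutes with `d`. -/
theorem exists_normalised (hdy : ⁅c.d, c.y⁆ ∈ Subgroup.zpowers c.z) :
    ∃ c' : CubeData p G, c'.N = c.N ∧ c'.I = c.I ∧ c'.z = c.z ∧ c'.l = c.l ∧ c'.e = c.e ∧
      Commute c'.d c'.y := by
  obtain ⟨a, ha⟩ := Subgroup.mem_zpowers_iff.1 hdy
  obtain ⟨j, hj, hj0⟩ := c.exists_j
  obtain ⟨s, hs⟩ := exists_intCast (p := p) ((a : ZMod p) / j)
  refine ⟨{ c with
    y := c.y * c.e ^ s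
    yN := fun h => c.yN (by simpa [mul_assoc] using c.N.mul_mem h (c.N.zpow_mem c.eN (-s)))
    hy := by
      have e1 : c.y * c.e ^ s * c.e * (c.y * c.e ^ s)⁻¹ = c.y * c.e * c.y⁻¹ := by group
      rw [e1]; exact c.hy }, rfl, rfl, rfl, rfl, rfl, ?_⟩
  show Commute ⁅c.e, c.y * c.e ^ s⁆ (c.y * c.e ^ s)
  rw [comm_mul_right ((Commute.refl c.e).zpow_right s), show ⁅c.e, c.y⁆ = c.d from rfl,
    ← commutatorElement_eq_one_iff_commute]
  have hde : ⁅c.d, c.e⁆ ∈ Subgroup.zpowers c.z := c.comm c.d c.d_mem c.e c.eN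
  have hpow : ⁅c.d, c.e ^ s⁆ = ⁅c.d, c.e⁆ ^ s := by
    have := comm_zpow (x := c.d) (y := c.e) (c.z_central hde c.d).symm (c.z_central hde c.e).symm 1 s
    rwa [zpow_one, one_mul] at this
  rw [comm_mul_of_central (c.z_central (hpow ▸ Subgroup.zpow_mem _ hde s) c.y).symm, hpow,
    show ⁅c.d, c.e⁆ = c.z ^ (-j) by rw [← commutatorElement_inv, hj, zpow_neg], ← ha, ← zpow_mul,
    ← zpow_add]
  refine zpow_eq_one_of_cast c.zp ?_
  push_cast
  rw [hs]
  field_simp
  ring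

variable (hdy : Commute c.d c.y)
include hdy

theorem d_central_mod (g : G) : ⁅c.d, g⁆ ∈ Subgroup.zpowers c.z := by
  refine comm_mem_of_commute_mk ?_
  set r := QuotientGroup.mk' (Subgroup.zpowers c.z)
  obtain ⟨k, w, hw, rfl⟩ := exists_zpow_mul (c.top_eq.ge (Subgroup.mem_top g))
  rw [map_mul, map_zpow]
  exact ((hdy.map r).zpow_right k).mul_right (commute_mk (c.comm c.d c.d_mem w hw))

theorem D_form {h : G} (hh : h ∈ c.D) : ∃ a b f : ℤ, h = c.z ^ a * c.l ^ b * c.d ^ f := by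
  obtain ⟨i, hi, u, hu, rfl⟩ := Subgroup.mem_sup_of_normal_left.1 hh
  obtain ⟨f, rfl⟩ := Subgroup.mem_zpowers_iff.1 hu
  rw [← c.I_eq] at hi
  obtain ⟨u, hu, v, hv, rfl⟩ := Subgroup.mem_sup_of_normal_left.1 hi
  obtain ⟨a, rfl⟩ := Subgroup.mem_zpowers_iff.1 hu
  obtain ⟨b, rfl⟩ := Subgroup.mem_zpowers_iff.1 hv
  exact ⟨a, b, f, rfl⟩

theorem D_central {h : G} (hh : h ∈ c.D) (g : G) : ⁅h, g⁆ ∈ Subgroup.zpowers c.z := by
  refine comm_mem_of_commute_mk ?_
  obtain ⟨i, hi, u, hu, rfl⟩ := Subgroup.mem_sup_of_normal_left.1 hh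
  obtain ⟨f, rfl⟩ := Subgroup.mem_zpowers_iff.1 hu
  rw [map_mul, map_zpow]
  exact (commute_mk (c.I_central hi g)).mul_left ((commute_mk (c.d_central_mod hdy g)).zpow_left f)

theorem commute_d {h : G} (hh : h ∈ c.D) : Commute h c.d := by
  obtain ⟨i, hi, u, hu, rfl⟩ := Subgroup.mem_sup_of_normal_left.1 hh
  obtain ⟨f, rfl⟩ := Subgroup.mem_zpowers_iff.1 hu
  exact (c.cen i hi c.d c.d_mem).mul_left ((Commute.refl c.d).zpow_left f)

theorem l_moves : ¬ Commute c.l c.y := fun hly => by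
  set A := Subgroup.closure ({c.z, c.l, c.d, c.y} : Set G) with hA
  have hab : ∀ a ∈ A, ∀ b ∈ A, a * b = b * a := by
    refine comm_closure ?_
    have h1 := c.cen c.l c.lI c.d c.d_mem
    rintro a (rfl | rfl | rfl | rfl) b (rfl | rfl | rfl | rfl)
    exacts [rfl, c.zc _, c.zc _, c.zc _, (c.zc _).symm, rfl, h1, hly, (c.zc _).symm, h1.symm, rfl, hdy,
      (c.zc _).symm, hly.symm, hdy.symm, rfl]
  have hDA : c.D ≤ A := fun h hh => by
    obtain ⟨a, b, f, rfl⟩ := c.D_form hdy hh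
    exact mul_mem (mul_mem (zpow_mem (Subgroup.subset_closure (by simp)) _)
      (zpow_mem (Subgroup.subset_closure (by simp)) _)) (zpow_mem (Subgroup.subset_closure (by simp)) _)
  have hy : c.y ∈ A := Subgroup.subset_closure (by simp)
  have hlt : c.D < A := lt_of_le_of_ne hDA fun e => c.yN (c.D_le (e.ge hy))
  have h4 := c.card_le_mul hlt
  rw [c.card_D, ← pow_succ] at h4
  have hne : A < ⊤ := lt_top_iff_ne_top.2 fun htop => by
    refine c.eI (c.I_le_D.trans hDA |> fun _ => ?_)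
    exfalso
    refine c.hy ?_
    have : c.y * c.e = c.e * c.y := hab _ hy _ (htop ▸ Subgroup.mem_top _)
    rw [this, mul_inv_cancel_right]
    exact Subgroup.mem_sup_right (Subgroup.mem_zpowers _)
  have h5 := c.card_le_mul hne
  rw [Subgroup.card_top, c.hG, pow_succ] at h5
  exact c.hno A hab (le_antisymm (Nat.le_of_mul_le_mul_right h5 hp.out.pos) h4)

theorem exists_k : ∃ k : ℤ, ⁅c.l, c.y⁆ = c.z ^ k ∧ (k : ZMod p) ≠ 0 := by
  obtain ⟨k, hk⟩ := Subgroup.mem_zpowers_iff.1 (c.l_central c.y)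
  refine ⟨k, hk.symm, fun h0 => c.l_moves hdy ?_⟩
  rw [zpow_eq_one_of_cast c.zp h0] at hk
  exact commutatorElement_eq_one_iff_commute.1 hk.symm

/-- The two weights on the centre force `m ^ 2 = 1`. -/
theorem sq_eq_one (hz : β c.z = c.z ^ n) (hm : β c.e = c.e ^ m) (hl : β c.l = c.l) (hw : w ∈ c.N)
    (hy : β c.y = c.y ^ k * w) (hnm : ((n * m : ℤ) : ZMod p) = 1) : (m : ZMod p) ^ 2 = 1 := by
  have h1 := c.weight_z hz hm hw hy
  obtain ⟨a, ha, ha0⟩ := c.exists_k hdy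
  have hc : ∀ g, Commute g ⁅c.l, c.y⁆ := fun g => (c.z_central (c.l_central c.y) g).symm
  have hpow := comm_zpow (x := c.l) (y := c.y) (hc _) (hc _) 1 k
  rw [zpow_one, one_mul] at hpow
  have h2 := congrArg β ha
  rw [map_commutatorElement, hl, hy, comm_mul_right (c.cen c.l c.lI w hw), hpow, map_zpow, hz, ha,
    ← zpow_mul, ← zpow_mul] at h2
  have h3 := cast_eq_of_zpow_eq c.zp c.z1 h2
  push_cast at h3 hnm
  have hk : (k : ZMod p) = n := mul_left_cancel₀ ha0 (by linear_combination h3)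
  have hn : (n : ZMod p) ≠ 0 := fun h0 => by rw [h0, zero_mul] at hnm; exact zero_ne_one hnm
  refine mul_right_cancel₀ hn ?_
  rw [hk] at h1
  linear_combination -h1

omit hdy in
theorem form (g : G) : ∃ (a b : ℤ) (h : G), h ∈ c.D ∧ g = h * c.e ^ a * c.y ^ b := by
  obtain ⟨w, hw, u, hu, rfl⟩ := Subgroup.mem_sup_of_normal_left.1 (c.top_eq.ge (Subgroup.mem_top g))
  obtain ⟨b, rfl⟩ := Subgroup.mem_zpowers_iff.1 hu
  rw [← c.N_eq] at hw
  obtain ⟨h, hh, v, hv, rfl⟩ := Subgroup.mem_sup_of_normal_left.1 hw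
  obtain ⟨a, rfl⟩ := Subgroup.mem_zpowers_iff.1 hv
  exact ⟨a, b, h, hh, rfl⟩

omit hdy in
theorem comm_zpow_right_z {x g : G} (h : ⁅x, g⁆ ∈ Subgroup.zpowers c.z) (i : ℤ) :
    ⁅x, g ^ i⁆ = ⁅x, g⁆ ^ i := by
  have := comm_zpow (c.z_central h x).symm (c.z_central h g).symm 1 i
  rwa [zpow_one, one_mul] at this

omit hdy in
theorem comm_zpow_left_z {x g : G} (h : ⁅x, g⁆ ∈ Subgroup.zpowers c.z) (i : ℤ) :
    ⁅x ^ i, g⁆ = ⁅x, g⁆ ^ i := comm_zpow_left (c.z_central h x).symm i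

omit hdy in
theorem hd_central (x : G) : Commute (QuotientGroup.mk' c.I x)
    ⁅QuotientGroup.mk' c.I c.e, QuotientGroup.mk' c.I c.y⁆ := by
  rw [← map_commutatorElement]; exact (commute_mk (c.comm_d_mem x)).symm

omit hdy in
theorem cast_zero_of_comm {t : ℤ}
    (h : ⁅QuotientGroup.mk' c.I c.e, QuotientGroup.mk' c.I c.y⁆ ^ t = 1) : (t : ZMod p) = 0 := by
  rw [← map_commutatorElement, ← map_zpow] at h
  exact cast_eq_zero_of_zpow_mem (c.pow_mem_I c.d_mem) c.d_notMem_I ((QuotientGroup.eq_one_iff _).1 h)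

theorem e_coord {h : G} (hh : h ∈ c.D) {a b : ℤ}
    (hy : Commute (QuotientGroup.mk' c.I (h * c.e ^ a * c.y ^ b)) (QuotientGroup.mk' c.I c.y)) :
    (a : ZMod p) = 0 := by
  refine c.cast_zero_of_comm ?_
  have hh' : Commute (QuotientGroup.mk' c.I h) (QuotientGroup.mk' c.I c.y) :=
    commute_mk (c.zpowers_le_I (c.D_central hdy hh c.y))
  have h1 := hy
  rw [map_mul, map_mul, map_zpow, map_zpow] at h1
  have h2 : Commute (QuotientGroup.mk' c.I c.e ^ a) (QuotientGroup.mk' c.I c.y) := by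
    have := (hh'.inv_left.mul_left h1).mul_left ((Commute.refl _).zpow_left b).inv_left
    simpa [mul_assoc] using this
  have h3 := comm_zpow (c.hd_central c.e) (c.hd_central c.y) a 1
  rw [zpow_one, mul_one, commutatorElement_eq_one_iff_commute.2 h2] at h3
  exact h3.symm

theorem pow_y_mem : c.y ^ p ∈ c.D := by
  have hidx : c.N.index = p := by
    have h1 := c.N.card_mul_index
    rw [c.hN, c.hG, pow_succ p 4] at h1
    exact Nat.eq_of_mul_eq_mul_left (pow_pos hp.out.pos 4) h1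
  have hN' := Subgroup.pow_index_mem c.N c.y
  rw [hidx, ← c.N_eq] at hN'
  obtain ⟨h, hh, u, hu, he⟩ := Subgroup.mem_sup_of_normal_left.1 hN'
  obtain ⟨a, rfl⟩ := Subgroup.mem_zpowers_iff.1 hu
  have ha := c.e_coord hdy hh (a := a) (b := 0) (by
    rw [zpow_zero, mul_one, he]
    exact ((Commute.refl c.y).pow_left p).map _)
  rw [← he, zpow_eq_one_of_cast c.ep ha, mul_one]
  exact hh

theorem mem_D_of_central {g : G} (hg : ∀ h, ⁅g, h⁆ ∈ Subgroup.zpowers c.z) : g ∈ c.D := by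
  obtain ⟨a, b, h, hh, rfl⟩ := c.form g
  have key : ∀ x, Commute (QuotientGroup.mk' c.I (h * c.e ^ a * c.y ^ b)) (QuotientGroup.mk' c.I x) :=
    fun x => commute_mk (c.zpowers_le_I (hg x))
  have ha := zpow_eq_one_of_cast c.ep (c.e_coord hdy hh (key c.y))
  rw [ha, mul_one] at key ⊢
  have h1 := key c.e
  rw [map_mul, map_zpow] at h1
  have hh' : Commute (QuotientGroup.mk' c.I h) (QuotientGroup.mk' c.I c.e) :=
    commute_mk (c.zpowers_le_I (c.D_central hdy hh c.e))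
  have h2 : Commute (QuotientGroup.mk' c.I c.y ^ b) (QuotientGroup.mk' c.I c.e) := by
    have := hh'.inv_left.mul_left h1
    rwa [inv_mul_cancel_left] at this
  have h3 := comm_zpow (c.hd_central c.e) (c.hd_central c.y) 1 b
  rw [zpow_one, one_mul, commutatorElement_eq_one_iff_commute.2 h2.symm] at h3
  obtain ⟨s, rfl⟩ := (ZMod.intCast_zmod_eq_zero_iff_dvd b p).1 (c.cast_zero_of_comm h3.symm)
  rw [zpow_mul, zpow_natCast]
  exact c.D.mul_mem hh (c.D.zpow_mem (c.pow_y_mem hdy) s)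

theorem comm_coord_y (a b f : ℤ) : ⁅c.z ^ a * c.l ^ b * c.d ^ f, c.y⁆ = ⁅c.l, c.y⁆ ^ b := by
  rw [comm_mul_left (hdy.zpow_left f), ((c.zc (c.l ^ b)).zpow_left a).eq,
    comm_mul_left ((c.zc c.y).zpow_left a), c.comm_zpow_left_z (c.l_central c.y) b]

omit hdy in
theorem comm_coord_e (a b f : ℤ) : ⁅c.z ^ a * c.l ^ b * c.d ^ f, c.e⁆ = ⁅c.d, c.e⁆ ^ f := by
  have hI : c.z ^ a * c.l ^ b ∈ c.I := c.I.mul_mem (c.I.zpow_mem c.zI a) (c.I.zpow_mem c.lI b)
  rw [(c.cen _ hI _ (c.N.zpow_mem c.d_mem f)).eq, comm_mul_left (c.cen _ hI _ c.eN),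
    c.comm_zpow_left_z (c.comm _ c.d_mem _ c.eN) f]

theorem center_le : Subgroup.center G ≤ Subgroup.zpowers c.z := by
  intro g hg
  have hcomm : ∀ h : G, ⁅g, h⁆ = 1 := fun h =>
    commutatorElement_eq_one_iff_mul_comm.2 (Subgroup.mem_center_iff.1 hg h).symm
  have hD := c.mem_D_of_central hdy (g := g) fun h => by rw [hcomm h]; exact one_mem _
  obtain ⟨a, b, f, rfl⟩ := c.D_form hdy hD
  obtain ⟨j, hj, hj0⟩ := c.exists_j
  obtain ⟨k, hk, hk0⟩ := c.exists_k hdy
  have hf : (f : ZMod p) = 0 := by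
    have h1 := hcomm c.e
    rw [c.comm_coord_e, ← commutatorElement_inv, hj, ← zpow_neg, ← zpow_mul] at h1
    have h3 := cast_eq_of_zpow_eq c.zp c.z1 (j := 0) (by rw [h1, zpow_zero])
    push_cast at h3
    exact (mul_eq_zero.1 h3).resolve_left (neg_ne_zero.2 hj0)
  have hb : (b : ZMod p) = 0 := by
    have h1 := hcomm c.y
    rw [c.comm_coord_y hdy, hk, ← zpow_mul] at h1
    have h3 := cast_eq_of_zpow_eq c.zp c.z1 (j := 0) (by rw [h1, zpow_zero])
    push_cast at h3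
    exact (mul_eq_zero.1 h3).resolve_left hk0
  obtain ⟨q, rfl⟩ := (ZMod.intCast_zmod_eq_zero_iff_dvd f p).1 hf
  rw [zpow_eq_one_of_cast c.lp hb, mul_one, zpow_mul, zpow_natCast]
  refine mul_mem (Subgroup.zpow_mem _ (Subgroup.mem_zpowers _) a) (Subgroup.zpow_mem _ ?_ q)
  have hp' : c.d ^ p ∈ c.I := c.pow_mem_I c.d_mem
  rw [← c.I_eq] at hp'
  obtain ⟨u, hu, v, hv, he⟩ := Subgroup.mem_sup_of_normal_left.1 hp'
  obtain ⟨b', rfl⟩ := Subgroup.mem_zpowers_iff.1 hv
  have h1 := congrArg (fun x => ⁅x, c.y⁆) he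
  simp only [commutatorElement_eq_one_iff_commute.2 (hdy.pow_left p),
    (c.z_central hu (c.l ^ b')).eq, comm_mul_left (c.z_central hu c.y),
    c.comm_zpow_left_z (c.l_central c.y) b', hk, ← zpow_mul] at h1
  have h3 := cast_eq_of_zpow_eq c.zp c.z1 (j := 0) (by rw [h1, zpow_zero])
  push_cast at h3
  rw [← he, zpow_eq_one_of_cast c.lp ((mul_eq_zero.1 h3).resolve_left hk0), mul_one]
  exact hu

theorem commutator_le : commutator G ≤ Subgroup.zpowers c.z ⊔ Subgroup.zpowers c.d := by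
  have hn : (Subgroup.zpowers c.z ⊔ Subgroup.zpowers c.d).Normal := by
    refine ⟨fun n hn g => ?_⟩
    obtain ⟨u, hu, v, hv, rfl⟩ := Subgroup.mem_sup_of_normal_left.1 hn
    obtain ⟨f, rfl⟩ := Subgroup.mem_zpowers_iff.1 hv
    rw [← conj_mul, ← conj_zpow, show g * c.d * g⁻¹ = (g * ⁅c.d, g⁻¹⁆ * g⁻¹) * c.d by
      rw [commutatorElement_def]; group]
    refine mul_mem (Subgroup.mem_sup_left ?_) (zpow_mem (mul_mem (Subgroup.mem_sup_left ?_)
      (Subgroup.mem_sup_right (Subgroup.mem_zpowers _))) f)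
    · rwa [← (c.z_central hu g).eq, mul_inv_cancel_right]
    · rw [← (c.z_central (c.d_central_mod hdy g⁻¹) g).eq, mul_inv_cancel_right]
      exact c.d_central_mod hdy g⁻¹
  haveI := hn
  refine commutator_le_of_generators _ (s := (c.D : Set G) ∪ {c.e, c.y}) ?_ ?_
  · exact c.eq_top_of_mem (fun x hx => Subgroup.subset_closure (Or.inl hx))
      (Subgroup.subset_closure (Or.inr (Or.inl rfl))) (Subgroup.subset_closure (Or.inr (Or.inr rfl)))
  have hz : ∀ x ∈ c.D, ∀ g, ⁅x, g⁆ ∈ Subgroup.zpowers c.z ⊔ Subgroup.zpowers c.d := fun x hx g =>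
    Subgroup.mem_sup_left (c.D_central hdy hx g)
  have hdd : ⁅c.e, c.y⁆ ∈ Subgroup.zpowers c.z ⊔ Subgroup.zpowers c.d :=
    Subgroup.mem_sup_right (Subgroup.mem_zpowers _)
  rintro a (ha | rfl | rfl) b (hb | rfl | rfl)
  all_goals first
    | exact hz _ ha _
    | (rw [← commutatorElement_inv]; exact inv_mem (hz _ hb _))
    | (rw [commutatorElement_self]; exact one_mem _)
    | exact hdd
    | (rw [← commutatorElement_inv]; exact inv_mem hdd)

theorem z_mem_commutator : c.z ∈ commutator G := by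
  obtain ⟨j, hj, hj0⟩ := c.exists_j
  by_contra hz
  refine hj0 (cast_eq_zero_of_zpow_mem (H := commutator G) (x := c.z) (by rw [c.zp]; exact one_mem _) hz ?_)
  rw [← hj]
  exact Subgroup.commutator_mem_commutator (Subgroup.mem_top _) (Subgroup.mem_top _)

theorem commutator_eq : commutator G = Subgroup.zpowers c.z ⊔ Subgroup.zpowers c.d :=
  le_antisymm (c.commutator_le hdy) (sup_le (Subgroup.zpowers_le.2 (c.z_mem_commutator hdy))
    (Subgroup.zpowers_le.2 (Subgroup.commutator_mem_commutator (Subgroup.mem_top _) (Subgroup.mem_top _))))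

/-- Every automorphism preserves the line of `y` modulo `D` and, for `p = 3`, fixes `D` modulo the
commutators. -/
theorem aut_facts (δ : MulAut G) :
    δ c.y ∈ c.D ⊔ Subgroup.zpowers c.y ∧ (p = 3 → ∀ x ∈ c.D, x⁻¹ * δ x ∈ commutator G) := by
  obtain ⟨j, hj, hj0⟩ := c.exists_j
  obtain ⟨k, hk, hk0⟩ := c.exists_k hdy
  obtain ⟨ν, hν⟩ : ∃ ν : ℤ, δ c.z = c.z ^ ν := by
    obtain ⟨ν, hν⟩ := Subgroup.mem_zpowers_iff.1 (c.center_le hdy (show δ c.z ∈ Subgroup.center G from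
      Subgroup.mem_center_iff.2 fun g => by
        rw [← δ.apply_symm_apply g, ← map_mul, ← map_mul, (c.zc (δ.symm g)).eq]))
    exact ⟨ν, hν.symm⟩
  have hν0 : (ν : ZMod p) ≠ 0 := fun h0 => c.z1 (δ.injective (by
    rw [hν, zpow_eq_one_of_cast c.zp h0, map_one]))
  have hA : ∀ x ∈ commutator G, δ x ∈ commutator G := fun x hx =>
    (Subgroup.characteristic_iff_le_comap.1 (inferInstance : (commutator G).Characteristic) δ) hx
  have hD : ∀ x ∈ c.D, δ x ∈ c.D := fun x hx => c.mem_D_of_central hdy fun g => by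
    obtain ⟨t, ht⟩ := Subgroup.mem_zpowers_iff.1 (c.D_central hdy hx (δ.symm g))
    rw [← δ.apply_symm_apply g, ← map_commutatorElement, ← ht, map_zpow, hν, ← zpow_mul]
    exact Subgroup.zpow_mem _ (Subgroup.mem_zpowers _) _
  obtain ⟨t, u, hu, hdt⟩ : ∃ t : ℤ, ∃ u ∈ Subgroup.zpowers c.z, δ c.d = u * c.d ^ t := by
    have h1 := hA c.d (Subgroup.commutator_mem_commutator (Subgroup.mem_top _) (Subgroup.mem_top _))
    rw [c.commutator_eq hdy] at h1
    obtain ⟨u, hu, v, hv, he⟩ := Subgroup.mem_sup_of_normal_left.1 h1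
    obtain ⟨t, rfl⟩ := Subgroup.mem_zpowers_iff.1 hv
    exact ⟨t, u, hu, he.symm⟩
  have pair : ∀ (g h : G) (a b : ℤ), h ∈ c.D → g = h * c.e ^ a * c.y ^ b →
      ⁅g, δ c.d⁆ = c.z ^ (j * (a * t)) := by
    intro g h a b hh hg
    have hed := c.comm c.e c.eN c.d c.d_mem
    rw [hdt, (c.z_central hu (c.d ^ t)).eq, comm_mul_right (c.z_central hu g).symm, hg,
      comm_mul_left (((hdy.symm).zpow_left b).zpow_right t),
      comm_mul_of_central_left (c.z_central (c.comm _ (c.N.zpow_mem c.eN a) _ (c.N.zpow_mem c.d_mem t)) h).symm,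
      commutatorElement_eq_one_iff_commute.2 ((c.commute_d hdy hh).zpow_right t), mul_one,
      comm_zpow (c.z_central hed c.e).symm (c.z_central hed c.d).symm, hj, ← zpow_mul]
  obtain ⟨a, cc, he, hhe, hea⟩ := c.form (δ c.e)
  obtain ⟨a', c', hy, hhy, hya⟩ := c.form (δ c.y)
  have h1 : ((ν * j : ℤ) : ZMod p) = ((j * (a * t) : ℤ) : ZMod p) := by
    refine cast_eq_of_zpow_eq c.zp c.z1 ?_
    rw [← pair _ _ _ _ hhe hea, ← map_commutatorElement, hj, map_zpow, hν, ← zpow_mul]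
  have h2 : ((j * (a' * t) : ℤ) : ZMod p) = ((0 : ℤ) : ZMod p) := by
    refine cast_eq_of_zpow_eq c.zp c.z1 ?_
    rw [← pair _ _ _ _ hhy hya, ← map_commutatorElement,
      commutatorElement_eq_one_iff_commute.2 hdy.symm, map_one, zpow_zero]
  push_cast at h1 h2
  have hν' : (ν : ZMod p) = a * t := mul_right_cancel₀ hj0 (by linear_combination h1)
  have hat : (a : ZMod p) ≠ 0 ∧ (t : ZMod p) ≠ 0 := mul_ne_zero_iff.1 (hν' ▸ hν0)
  have ha' : (a' : ZMod p) = 0 :=
    (mul_eq_zero.1 ((mul_eq_zero.1 h2).resolve_left hj0)).resolve_right hat.2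
  rw [zpow_eq_one_of_cast c.ep ha', mul_one] at hya
  refine ⟨hya ▸ Subgroup.mul_mem_sup hhy (Subgroup.zpow_mem _ (Subgroup.mem_zpowers _) _), ?_⟩
  intro hp3
  -- the exponent on the second layer
  let r := QuotientGroup.mk' (Subgroup.zpowers c.z)
  have hrD : ∀ h ∈ c.D, ∀ g, Commute (r h) (r g) := fun h hh g => commute_mk (c.D_central hdy hh g)
  have ht : (t : ZMod p) = a * c' := by
    have hde : ∀ g, Commute (r g) ⁅r c.e, r c.y⁆ := fun g => by
      rw [← map_commutatorElement]; exact (hrD c.d c.d_mem_D g).symm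
    have h3 : r (δ c.d) = r (c.d ^ (a * c')) := by
      show r (δ ⁅c.e, c.y⁆) = r (⁅c.e, c.y⁆ ^ (a * c'))
      rw [map_commutatorElement, hea, hya, map_commutatorElement, map_zpow, map_commutatorElement,
        map_mul, map_mul, map_mul, map_zpow, map_zpow, map_zpow, mul_assoc (r he),
        (show Commute (r he) (r c.e ^ a * r c.y ^ cc) from
          ((hrD he hhe c.e).zpow_right a).mul_right ((hrD he hhe c.y).zpow_right cc)).eq,
        comm_mul_left (show Commute (r he) (r hy * r c.y ^ c') from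
          (hrD he hhe hy).mul_right ((hrD he hhe c.y).zpow_right c')),
        (show Commute (r hy) (r c.y ^ c') from (hrD hy hhy c.y).zpow_right c').eq,
        comm_mul_right (show Commute (r c.e ^ a * r c.y ^ cc) (r hy) from
          ((hrD hy hhy c.e).zpow_right a).symm.mul_left ((hrD hy hhy c.y).zpow_right cc).symm),
        comm_mul_left ((Commute.refl (r c.y)).zpow_zpow cc c'), comm_zpow (hde _) (hde _)]
    rw [hdt, map_mul, show r u = 1 from (QuotientGroup.eq_one_iff _).2 hu, one_mul, ← div_eq_one,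
      ← map_div, div_eq_mul_inv, ← zpow_sub] at h3
    have hdI : c.d ^ p ∈ c.I := c.pow_mem_I c.d_mem
    have := cast_eq_zero_of_zpow_mem hdI c.d_notMem_I (c.zpowers_le_I ((QuotientGroup.eq_one_iff _).1 h3))
    push_cast at this
    exact sub_eq_zero.1 this
  obtain ⟨g', b, f, hl⟩ := c.D_form hdy (hD c.l (c.I_le_D c.lI))
  have h4 : ((ν * k : ℤ) : ZMod p) = ((k * b * c' : ℤ) : ZMod p) := by
    refine cast_eq_of_zpow_eq c.zp c.z1 ?_
    have hly : ⁅δ c.l, c.y⁆ = ⁅c.l, c.y⁆ ^ b := by rw [hl, c.comm_coord_y hdy]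
    have hmem : ⁅δ c.l, c.y⁆ ∈ Subgroup.zpowers c.z := c.D_central hdy (hD c.l (c.I_le_D c.lI)) _
    calc c.z ^ (ν * k) = δ ⁅c.l, c.y⁆ := by rw [hk, map_zpow, hν, ← zpow_mul]
      _ = ⁅δ c.l, hy * c.y ^ c'⁆ := by rw [map_commutatorElement, hya]
      _ = c.z ^ (k * b * c') := by
        have hll : Commute (δ c.l) hy := by
          have hDab : ∀ x ∈ c.D, ∀ x' ∈ c.D, Commute x x' := fun x hx x' hx' => by
            obtain ⟨i, hi, w, hw, rfl⟩ := Subgroup.mem_sup_of_normal_left.1 hx'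
            obtain ⟨q, rfl⟩ := Subgroup.mem_zpowers_iff.1 hw
            exact ((c.cen i hi x (c.D_le hx)).symm).mul_right ((c.commute_d hdy hx).zpow_right q)
          exact hDab _ (hD c.l (c.I_le_D c.lI)) _ hhy
        rw [comm_mul_of_central (c.z_central (c.comm_zpow_right_z hmem c' ▸
            Subgroup.zpow_mem _ hmem c') hy).symm,
          commutatorElement_eq_one_iff_commute.2 hll, one_mul, c.comm_zpow_right_z hmem c', hly, hk,
          ← zpow_mul, ← zpow_mul, mul_assoc]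
  push_cast at h4
  have hb : (b : ZMod p) = 1 := by
    have hc0 : (c' : ZMod p) ≠ 0 := fun h0 => by rw [h0, mul_zero] at ht; exact hat.2 ht
    have h5 : (a : ZMod p) ^ 2 = 1 := by
      have := ZMod.pow_card_sub_one_eq_one hat.1
      subst hp3
      simpa using this
    refine mul_right_cancel₀ (mul_ne_zero hk0 hc0) ?_
    linear_combination -h4 + (k : ZMod p) * hν' + ((k : ZMod p) * a) * ht + ((k : ZMod p) * c') * h5
  intro x hx
  have hlA : c.l⁻¹ * δ c.l ∈ commutator G := by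
    rw [hl, ((c.zc c.l).zpow_left g').zpow_right b |>.eq, mul_assoc, ← mul_assoc c.l⁻¹,
      ← zpow_neg_one, ← zpow_add, zpow_eq_one_of_cast c.lp (by push_cast; rw [hb]; ring), one_mul]
    exact mul_mem (Subgroup.zpow_mem _ (c.z_mem_commutator hdy) _) (Subgroup.zpow_mem _
      (Subgroup.commutator_mem_commutator (Subgroup.mem_top _) (Subgroup.mem_top _)) _)
  let π := QuotientGroup.mk' (commutator G)
  have hfix : ∀ x ∈ commutator G, π (δ x) = π x := fun x hx => by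
    rw [show π (δ x) = 1 from (QuotientGroup.eq_one_iff _).2 (hA x hx),
      show π x = 1 from (QuotientGroup.eq_one_iff _).2 hx]
  refine QuotientGroup.eq.1 (show π x = π (δ x) from ?_)
  obtain ⟨a₁, b₁, f₁, rfl⟩ := c.D_form hdy hx
  simp only [map_mul, map_zpow, hfix _ (c.z_mem_commutator hdy),
    show π (δ c.l) = π c.l from (QuotientGroup.eq.2 hlA).symm,
    hfix c.d (Subgroup.commutator_mem_commutator (Subgroup.mem_top _) (Subgroup.mem_top _))]

end CubeData

end Cfsg.Agent.Lib.FusionOrderFive
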