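import Cfsg.Agent.Lib.FusionOrderFive.Torus

/-!
Elementary abelian essential subgroups of order `p ^ 2` or `p ^ 3`.
-/

set_option autoImplicit false
set_option linter.unusedSectionVars false

namespace Cfsg.Agent.Lib.FusionOrderFive

open Cfsg Cfsg.FusionSystem Cfsg.Agent.Lib.Fusion Cfsg.Agent.Lib.Fusion87

universe u

theorem frattini_eq_bot {D : Type*} [Group D] [Finite D] {p : ℕ} [Fact p.Prime]
    (hab : ∀ a b : D, a * b = b * a) (hexp : ∀ a : D, a ^ p = 1) : frattini D = ⊥ :=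
  le_bot_iff.1 (Lib.PFrattini.frattini_le (p := p)
    (by
      rw [commutator_def, Subgroup.commutator_le]
      intro a _ b _
      rw [Subgroup.mem_bot, commutatorElement_eq_one_iff_mul_comm]
      exact hab a b)
    fun x => Subgroup.mem_bot.2 (hexp x))

variable {Ω : Type u} [Group Ω] {S : Subgroup Ω} [Finite S] {F : FusionSystem S} {p : ℕ}
  [hp : Fact p.Prime] (hS : IsPGroup p S) (hF : F.IsSaturated p) {R : Subgroup Ω}
  (hE : F.IsEssential p R) (hp2 : p ≠ 2) (hab : ∀ a b : R, a * b = b * a)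
  (hexp : ∀ a : R, a ^ p = 1) (hcard : Nat.card R = p ^ 2 ∨ Nat.card R = p ^ 3)

include hS hF hE hp2 hab hexp hcard

theorem index_frattini : (frattini R).index = p ^ 2 ∨ (frattini R).index = p ^ 3 := by
  haveI := finite_of_le hE.1.1
  rwa [frattini_eq_bot (p := p) hab hexp, Subgroup.index_bot]

theorem mk_inj {a b : R} (h : (a : R ⧸ frattini R) = b) : a = b := by
  haveI := finite_of_le hE.1.1
  rwa [QuotientGroup.eq, frattini_eq_bot (p := p) hab hexp, Subgroup.mem_bot, inv_mul_eq_one] at h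

/-- An element inducing the identity on `R` lies in `R`. -/
theorem mem_of_quot_trivial {x : Ω} (hxS : x ∈ S) (hxn : x ∈ Subgroup.normalizer (R : Set Ω))
    (h : quotHom R (conjAut R x hxn) = 1) : x ∈ R := by
  refine mem_of_conjAut_mem_inn hE.1 hxS (hgN := hxn) ?_
  exact mem_inn_of_quot_trivial hS hF hE
    (autInducedBy_le_autGroup hE.1.1 (mem_autInducedBy_normalizer.2 ⟨x, hxn, hxS, rfl⟩)) h

/-- The normaliser is `p` times bigger. -/
theorem card_normalizer : Nat.card (normalizerIn S R) = Nat.card R * p := by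
  haveI := finite_of_le hE.1.1
  haveI := finite_normalizerIn (S := S) R
  let f : normalizerIn S R →* MulAut (R ⧸ frattini R) :=
    (quotHom R).comp ((Subgroup.normalizerMonoidHom R).comp
      (Subgroup.inclusion (inf_le_right : normalizerIn S R ≤ Subgroup.normalizer (R : Set Ω))))
  have hf : ∀ g : normalizerIn S R, f g = quotHom R (conjAut R g g.2.2) := fun g => rfl
  have hker : f.ker = R.subgroupOf (normalizerIn S R) := by
    ext g
    rw [MonoidHom.mem_ker, Subgroup.mem_subgroupOf, hf]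
    refine ⟨mem_of_quot_trivial hS hF hE hp2 hab hexp hcard g.2.1 g.2.2, fun hg => ?_⟩
    rw [show conjAut R (g : Ω) g.2.2 = MulAut.conj (⟨g, hg⟩ : R) from MulEquiv.ext fun y => Subtype.ext rfl]
    exact quotHom_inn (hS.to_le hE.1.1) _
  have hRN : R ≤ normalizerIn S R := le_normalizerIn hE.1.1
  have hle : f.range ≤ (F.autGroup R).map (quotHom R) := by
    rintro _ ⟨g, rfl⟩
    rw [hf]
    exact Subgroup.mem_map_of_mem _
      (autInducedBy_le_autGroup hE.1.1 (mem_autInducedBy_normalizer.2 ⟨g, g.2.2, g.2.1, rfl⟩))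
  have hNp : IsPGroup p (normalizerIn S R) := hS.to_le inf_le_left
  have hrp : IsPGroup p f.range := hNp.of_surjective f.rangeRestrict f.rangeRestrict_surjective
  have hc := card_le_prime_quot hS hF hE hp2 (index_frattini hS hF hE hp2 hab hexp hcard) hle hrp
  obtain ⟨j, hj⟩ := IsPGroup.iff_card.1 hrp
  have hlt : R < normalizerIn S R := lt_normalizerIn hS
    (lt_of_le_of_ne hE.1.1 fun e => not_isEssential_self hS hF (e ▸ hE))
  have hmul := Subgroup.card_mul_index f.ker
  rw [Subgroup.index_ker, hker, Nat.card_congr (Subgroup.subgroupOfEquivOfLe hRN).toEquiv] at hmul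
  have hj1 : j ≠ 0 := fun h0 => hlt.ne (Subgroup.eq_of_le_of_card_ge hlt.le
    (by rw [← hmul, hj, h0, pow_zero, mul_one]))
  rw [← hmul, le_antisymm hc (by rw [hj]; exact Nat.le_self_pow hj1 p)]

/-- The torus of an elementary abelian essential subgroup on which some element of the normaliser
acts as a transvection with centre `z`. -/
theorem exists_torus_elem {x : Ω} (hxS : x ∈ S) (hxn : x ∈ Subgroup.normalizer (R : Set Ω))
    (hxR : x ∉ R) {z : R} (hz : x * (z : Ω) * x⁻¹ = z)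
    (hmove : ∀ v : R, ∃ i : ℤ, x * (v : Ω) * x⁻¹ = v * (z : Ω) ^ i) :
    ∃ (e : R) (t' : MulAut R), x * (e : Ω) * x⁻¹ ≠ e ∧ e ∉ Subgroup.zpowers z ∧
      (∀ v : R, ∃ (i j : ℤ) (l : R), v = z ^ i * e ^ j * l ∧ x * (l : Ω) * x⁻¹ = l ∧ t' l = l) ∧
      ∀ n m : ℤ, ((n * m : ℤ) : ZMod p) = 1 → ∃ β ∈ F.autGroup R, β z = z ^ n ∧ β e = e ^ m ∧
        (∀ l : R, x * (l : Ω) * x⁻¹ = l → t' l = l → β l = l) ∧
        ∀ b ∈ autInducedBy S R, β * b * β⁻¹ ∈ autInducedBy S R := by
  haveI := finite_of_le hE.1.1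
  have hr := index_frattini hS hF hE hp2 hab hexp hcard
  have inj : ∀ {a b : R}, (a : R ⧸ frattini R) = b → a = b := fun h => mk_inj hS hF hE hp2 hab hexp hcard h
  set a := conjAut R x hxn with ha'
  have ha : a ∈ autInducedBy S R := mem_autInducedBy_normalizer.2 ⟨x, hxn, hxS, rfl⟩
  have ha1 : quotHom R a ≠ 1 := fun h => hxR (mem_of_quot_trivial hS hF hE hp2 hab hexp hcard hxS hxn h)
  have hz' : quotHom R a (z : R ⧸ frattini R) = z := by
    rw [quotHom_mk]; exact congrArg _ (Subtype.ext hz)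
  have hmove' : ∀ v, ∃ i : ℤ, quotHom R a v = v * (z : R ⧸ frattini R) ^ i := fun v =>
    QuotientGroup.induction_on v fun w => by
      obtain ⟨i, hi⟩ := hmove w
      refine ⟨i, ?_⟩
      rw [quotHom_mk, ← QuotientGroup.mk_zpow, ← QuotientGroup.mk_mul]
      exact congrArg _ (Subtype.ext (by rw [ha', conjAut_apply, hi]; simp))
  obtain ⟨g, hg, hgz⟩ := exists_moved hS hF hE hp2 hr ha ha1 hz' hmove'
  have key := fun n m h => exists_torus_aut hS hF hE hp2 hr ha ha1 hz' hmove' hg hgz (n := n) (m := m) h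
  obtain ⟨hne, -, -, -, -, -, hdec, -⟩ := key 1 1 (by simp)
  refine ⟨g z, g * a * g⁻¹, fun h => hne ?_, fun h => hgz ?_, fun v => ?_, fun n m h => ?_⟩
  · rw [quotHom_mk, quotHom_mk]; exact congrArg _ (Subtype.ext h)
  · rw [quotHom_mk]
    obtain ⟨i, hi⟩ := Subgroup.mem_zpowers_iff.1 h
    exact Subgroup.mem_zpowers_iff.2 ⟨i, by rw [← QuotientGroup.mk_zpow, hi]⟩
  · obtain ⟨i, j, l, h1, h2, h3⟩ := hdec v
    obtain ⟨l, rfl⟩ := QuotientGroup.mk_surjective l
    rw [quotHom_mk] at h1 h2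
    refine ⟨i, j, l, inj ?_, congrArg Subtype.val (inj h1), inj h2⟩
    rw [h3, quotHom_mk]; simp
  · obtain ⟨-, β, hβ, b1, b2, b3, -, b5⟩ := key n m h
    refine ⟨β, hβ, inj ?_, inj ?_, fun l hl hl' => inj ?_, b5⟩
    · simpa [quotHom_mk] using b1
    · simpa [quotHom_mk] using b2
    · rw [← quotHom_mk]
      exact b3 _ (by rw [quotHom_mk]; exact congrArg _ (Subtype.ext hl)) (by rw [quotHom_mk, hl'])

end Cfsg.Agent.Lib.FusionOrderFive
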