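import Mathlib

/-!
Weights of automorphisms of a group of maximal class of order `p ^ 5` fixing a pearl.
-/

set_option autoImplicit false

namespace Cfsg.Agent.Lib.FusionOrderFive

open scoped commutatorElement

section General

variable {G : Type*} [Group G] {p : ℕ} [hp : Fact p.Prime]

theorem cast_eq_zero_of_zpow_mem {H : Subgroup G} {x : G} (hx : x ^ p ∈ H) (hxH : x ∉ H) {i : ℤ}
    (hi : x ^ i ∈ H) : (i : ZMod p) = 0 := by
  by_contra h0
  rw [ZMod.intCast_zmod_eq_zero_iff_dvd] at h0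
  obtain ⟨u, v, huv⟩ := (Nat.prime_iff_prime_int.1 hp.out).coprime_iff_not_dvd.2 h0
  refine hxH ?_
  rw [← zpow_one x, ← huv, zpow_add, mul_comm u, mul_comm v, zpow_mul, zpow_mul, zpow_natCast]
  exact H.mul_mem (H.zpow_mem hx u) (H.zpow_mem hi v)

theorem cast_eq_of_zpow_eq {x : G} (hx : x ^ p = 1) (hx1 : x ≠ 1) {i j : ℤ} (h : x ^ i = x ^ j) :
    (i : ZMod p) = j := by
  rw [← sub_eq_zero, ← Int.cast_sub]
  refine cast_eq_zero_of_zpow_mem (H := ⊥) (x := x) ?_ ?_ ?_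
  · rw [hx]; exact one_mem _
  · rwa [Subgroup.mem_bot]
  · rw [zpow_sub, h, mul_inv_cancel]; exact one_mem _

omit hp in
/-- Bilinearity of a commutator commuting with both entries. -/
theorem comm_zpow_left {x y : G} (hx : Commute x ⁅x, y⁆) (i : ℤ) : ⁅x ^ i, y⁆ = ⁅x, y⁆ ^ i := by
  have e : y * x⁻¹ * y⁻¹ = x⁻¹ * ⁅x, y⁆ := by rw [commutatorElement_def]; group
  have e2 : y * x ^ (-i) * y⁻¹ = x ^ (-i) * ⁅x, y⁆ ^ i := by
    rw [show x ^ (-i) = (x⁻¹) ^ i by rw [inv_zpow, zpow_neg], ← conj_zpow, e,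
      hx.inv_left.mul_zpow]
  calc ⁅x ^ i, y⁆ = x ^ i * (y * x ^ (-i) * y⁻¹) := by rw [commutatorElement_def, zpow_neg]; group
    _ = ⁅x, y⁆ ^ i := by rw [e2, ← mul_assoc, ← zpow_add, add_neg_cancel, zpow_zero, one_mul]

omit hp in
theorem comm_zpow {x y : G} (hx : Commute x ⁅x, y⁆) (hy : Commute y ⁅x, y⁆) (i j : ℤ) :
    ⁅x ^ i, y ^ j⁆ = ⁅x, y⁆ ^ (i * j) := by
  have h1 : ⁅y ^ j, x⁆ = ⁅y, x⁆ ^ j :=
    comm_zpow_left (by rw [← commutatorElement_inv]; exact hy.inv_right) j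
  have h2 : ⁅x, y ^ j⁆ = ⁅x, y⁆ ^ j := by
    rw [← commutatorElement_inv, h1, ← inv_zpow, commutatorElement_inv]
  rw [comm_zpow_left (by rw [h2]; exact hx.zpow_right j), h2, ← zpow_mul, mul_comm]

omit hp in
theorem comm_mul_left {a b y : G} (hb : Commute b y) : ⁅a * b, y⁆ = ⁅a, y⁆ := by
  rw [commutatorElement_def, commutatorElement_def, mul_inv_rev]
  calc a * b * y * (b⁻¹ * a⁻¹) * y⁻¹ = a * (b * y * b⁻¹) * a⁻¹ * y⁻¹ := by group
    _ = a * y * a⁻¹ * y⁻¹ := by rw [hb.eq, mul_inv_cancel_right]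

omit hp in
theorem comm_mul_right {a b y : G} (hb : Commute y b) : ⁅y, a * b⁆ = ⁅y, a⁆ := by
  rw [← commutatorElement_inv, comm_mul_left hb.symm, commutatorElement_inv]

end General

/-- The chief series data of the group, `A` abelian of index `p ^ 2`. -/
structure PearlData (p : ℕ) (G : Type*) [Group G] where
  A : Subgroup G
  A3 : Subgroup G
  e : G
  s : G
  z : G
  comm : ∀ a ∈ A, ∀ b ∈ A, a * b = b * a
  le : A3 ≤ A
  zmem : z ∈ A3
  zc : ∀ g : G, Commute z g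
  zp : z ^ p = 1
  z1 : z ≠ 1
  comm_A : ∀ a ∈ A, ∀ g : G, ⁅a, g⁆ ∈ A3
  comm_A3 : ∀ a ∈ A3, ∀ g : G, ⁅a, g⁆ ∈ Subgroup.zpowers z
  sA3 : ∀ a ∈ A3, Commute s a
  se : ⁅s, e⁆ ∈ A
  hz : ⁅⁅⁅s, e⁆, e⁆, e⁆ = z
  gen3 : ∀ a ∈ A3, ∃ i j : ℤ, a = ⁅⁅s, e⁆, e⁆ ^ i * z ^ j
  gen2 : ∀ a ∈ A, ∃ i : ℤ, (⁅s, e⁆ ^ i)⁻¹ * a ∈ A3
  pow3 : ⁅⁅s, e⁆, e⁆ ^ p ∈ Subgroup.zpowers z
  pow2 : ⁅s, e⁆ ^ p ∈ A3

namespace PearlData

variable {p : ℕ} [hp : Fact p.Prime] {G : Type*} [Group G] (d : PearlData p G)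

/-- The generator of the second layer. -/
def a2 : G := ⁅d.s, d.e⁆

/-- The generator of the third layer. -/
def a3 : G := ⁅⁅d.s, d.e⁆, d.e⁆

/-- The commutator deciding commutativity. -/
def v : G := ⁅d.s, d.a2⁆

instance zNormal : (Subgroup.zpowers d.z).Normal := ⟨fun n hn g => by
  obtain ⟨i, rfl⟩ := Subgroup.mem_zpowers_iff.1 hn
  rwa [← ((d.zc g).zpow_left i).eq, mul_inv_cancel_right]⟩

instance a3Normal : d.A3.Normal := ⟨fun n hn g => by
  obtain ⟨i, hi⟩ := Subgroup.mem_zpowers_iff.1 (d.comm_A3 n hn g⁻¹)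
  have e : g * n * g⁻¹ = (g * ⁅n, g⁻¹⁆ * g⁻¹) * n := by rw [commutatorElement_def]; group
  rw [e, ← hi, ← ((d.zc g).zpow_left i).eq, mul_inv_cancel_right]
  exact d.A3.mul_mem (d.A3.zpow_mem d.zmem i) hn⟩

theorem a3_mem : d.a3 ∈ d.A3 := d.comm_A _ d.se _

theorem a3_notMem : d.a3 ∉ Subgroup.zpowers d.z := by
  intro h
  obtain ⟨i, hi⟩ := Subgroup.mem_zpowers_iff.1 h
  refine d.z1 ?_
  rw [← d.hz, show ⁅⁅d.s, d.e⁆, d.e⁆ = d.z ^ i from hi.symm, commutatorElement_eq_one_iff_commute]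
  exact (d.zc _).zpow_left i

theorem a2_notMem : d.a2 ∉ d.A3 := fun h => d.a3_notMem (d.comm_A3 _ h _)

theorem commute_A3_A {a b : G} (ha : a ∈ d.A3) (hb : b ∈ d.A) : Commute a b := d.comm a (d.le ha) b hb

theorem v_mem : d.v ∈ d.A3 := by
  have := d.A3.inv_mem (d.comm_A _ d.se d.s)
  rwa [commutatorElement_inv] at this

/-- If the deciding commutator is trivial, `s` centralises `A`. -/
theorem commute_of_v (h : d.v = 1) : ∀ a ∈ d.A, Commute d.s a := by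
  intro a ha
  obtain ⟨i, hi⟩ := d.gen2 a ha
  have := (commutatorElement_eq_one_iff_commute.1 h).zpow_right i |>.mul_right (d.sA3 _ hi)
  rwa [show d.a2 = ⁅d.s, d.e⁆ from rfl, mul_inv_cancel_left] at this

variable {β : G →* G} {i j c : ℤ} {a a' : G}

/-- The weights of an endomorphism sending `s` into `s ^ c * A` and `e` to `e ^ i * s ^ j * A`. -/
theorem weights (ha : a ∈ d.A) (ha' : a' ∈ d.A) (hs : β d.s = d.s ^ c * a)
    (he : β d.e = d.e ^ i * d.s ^ j * a') :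
    (∃ x ∈ d.A3, β d.a2 = d.a2 ^ (c * i) * x) ∧
      (∀ k : ℤ, d.v = d.z ^ k →
        (∃ y ∈ Subgroup.zpowers d.z, β d.a3 = d.a3 ^ (c * i * i) * y) ∧ β d.z = d.z ^ (c * i * i * i)) := by
  -- modulo the third layer
  let q := QuotientGroup.mk' d.A3
  have hcA : ∀ b ∈ d.A, ∀ g : G, Commute (q b) (q g) := fun b hb g => by
    rw [← commutatorElement_eq_one_iff_commute, ← map_commutatorElement, ← MonoidHom.mem_ker,
      QuotientGroup.ker_mk']
    exact d.comm_A b hb g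
  have hq2 : q (β d.a2) = q (d.a2 ^ (c * i)) := by
    show q (β ⁅d.s, d.e⁆) = q (⁅d.s, d.e⁆ ^ (c * i))
    have h2 : Commute (q d.s) ⁅q d.s, q d.e⁆ ∧ Commute (q d.e) ⁅q d.s, q d.e⁆ := by
      rw [← map_commutatorElement]
      exact ⟨(hcA _ d.se _).symm, (hcA _ d.se _).symm⟩
    rw [map_commutatorElement, hs, he, map_zpow, map_commutatorElement, map_commutatorElement,
      map_mul, map_mul, map_mul, map_zpow, map_zpow, map_zpow,
      comm_mul_left (show Commute (q a) (q d.e ^ i * q d.s ^ j * q a') by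
        rw [← map_zpow, ← map_zpow, ← map_mul, ← map_mul]; exact hcA a ha _),
      comm_mul_right ((hcA a' ha' d.s).symm.zpow_left c),
      comm_mul_right ((Commute.refl (q d.s)).zpow_zpow c j), comm_zpow h2.1 h2.2]
  obtain ⟨x, hx, hx2⟩ : ∃ x ∈ d.A3, β d.a2 = d.a2 ^ (c * i) * x :=
    ⟨(d.a2 ^ (c * i))⁻¹ * β d.a2, QuotientGroup.eq.1 hq2.symm, (mul_inv_cancel_left _ _).symm⟩
  refine ⟨⟨x, hx, hx2⟩, fun k hk => ?_⟩
  -- modulo the centre
  let r := QuotientGroup.mk' (Subgroup.zpowers d.z)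
  have hc3 : ∀ b ∈ d.A3, ∀ g : G, Commute (r b) (r g) := fun b hb g => by
    rw [← commutatorElement_eq_one_iff_commute, ← map_commutatorElement, ← MonoidHom.mem_ker,
      QuotientGroup.ker_mk']
    exact d.comm_A3 b hb g
  have hs2 : Commute (r d.s) (r d.a2) := by
    rw [← commutatorElement_eq_one_iff_commute, ← map_commutatorElement, ← MonoidHom.mem_ker,
      QuotientGroup.ker_mk']
    exact Subgroup.mem_zpowers_iff.2 ⟨k, hk.symm⟩
  have hq3 : r (β d.a3) = r (d.a3 ^ (c * i * i)) := by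
    show r (β ⁅d.a2, d.e⁆) = r (⁅d.a2, d.e⁆ ^ (c * i * i))
    have h2 : Commute (r d.a2) ⁅r d.a2, r d.e⁆ ∧ Commute (r d.e) ⁅r d.a2, r d.e⁆ := by
      rw [← map_commutatorElement]
      exact ⟨(hc3 _ (d.comm_A _ d.se _) _).symm, (hc3 _ (d.comm_A _ d.se _) _).symm⟩
    have hxe : Commute (r x) (r d.e ^ i * r d.s ^ j * r a') := by
      rw [← map_zpow, ← map_zpow, ← map_mul, ← map_mul]
      exact hc3 x hx _
    have h2a : Commute (r d.a2) (r a') := (show Commute d.a2 a' from d.comm _ d.se _ ha').map r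
    rw [map_commutatorElement, hx2, he, map_zpow, map_commutatorElement, map_commutatorElement,
      map_mul, map_mul, map_mul, map_zpow, map_zpow, map_zpow, comm_mul_left hxe,
      comm_mul_right (h2a.zpow_left _), comm_mul_right (hs2.symm.zpow_zpow _ _), comm_zpow h2.1 h2.2]
  obtain ⟨y, hy, hy3⟩ : ∃ y ∈ Subgroup.zpowers d.z, β d.a3 = d.a3 ^ (c * i * i) * y :=
    ⟨(d.a3 ^ (c * i * i))⁻¹ * β d.a3, QuotientGroup.eq.1 hq3.symm, (mul_inv_cancel_left _ _).symm⟩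
  refine ⟨⟨y, hy, hy3⟩, ?_⟩
  obtain ⟨l, rfl⟩ := Subgroup.mem_zpowers_iff.1 hy
  have h3 : Commute d.a3 ⁅d.a3, d.e⁆ ∧ Commute d.e ⁅d.a3, d.e⁆ := by
    rw [show ⁅d.a3, d.e⁆ = d.z from d.hz]
    exact ⟨(d.zc _).symm, (d.zc _).symm⟩
  have h3a : Commute d.a3 a' := d.commute_A3_A d.a3_mem ha'
  rw [← d.hz]
  show β ⁅d.a3, d.e⁆ = ⁅d.a3, d.e⁆ ^ (c * i * i * i)
  rw [map_commutatorElement, hy3, he, comm_mul_left ((d.zc _).zpow_left l),
    comm_mul_right (h3a.zpow_left _), comm_mul_right ((d.sA3 _ d.a3_mem).symm.zpow_zpow _ _),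
    comm_zpow h3.1 h3.2]

/-- The weight of the deciding commutator. -/
theorem weight_v (ha : a ∈ d.A) (ha' : a' ∈ d.A) (hs : β d.s = d.s ^ c * a)
    (he : β d.e = d.e ^ i * d.s ^ j * a') : β d.v = d.v ^ (c * (c * i)) := by
  obtain ⟨⟨x, hx, hx2⟩, -⟩ := d.weights ha ha' hs he
  have hv : Commute d.s ⁅d.s, d.a2⁆ ∧ Commute d.a2 ⁅d.s, d.a2⁆ :=
    ⟨d.sA3 _ d.v_mem, (d.commute_A3_A d.v_mem d.se).symm⟩
  have hax : Commute a (d.a2 ^ (c * i) * x) :=
    d.comm _ ha _ (d.A.mul_mem (d.A.zpow_mem d.se _) (d.le hx))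
  show β ⁅d.s, d.a2⁆ = ⁅d.s, d.a2⁆ ^ (c * (c * i))
  rw [map_commutatorElement, hs, hx2, comm_mul_left hax, comm_mul_right ((d.sA3 x hx).zpow_left c),
    comm_zpow hv.1 hv.2]

/-- An endomorphism inverting `e` and the centre forces the deciding commutator into the centre. -/
theorem v_mem_center (hp2 : p ≠ 2) (ha : a ∈ d.A) (hs : β d.s = d.s ^ c * a)
    (he : β d.e = d.e ^ (-1 : ℤ)) (hz : β d.z = d.z ^ (-1 : ℤ)) : d.v ∈ Subgroup.zpowers d.z := by
  obtain ⟨k, l, hv⟩ := d.gen3 _ d.v_mem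
  change d.v = d.a3 ^ k * d.z ^ l at hv
  have he' : β d.e = d.e ^ (-1 : ℤ) * d.s ^ (0 : ℤ) * 1 := by rw [he, zpow_zero, mul_one, mul_one]
  obtain ⟨⟨x, hx, hx2⟩, -⟩ := d.weights ha d.A.one_mem hs he'
  -- the exponent of `β` on the third layer, and then on `z`
  let r := QuotientGroup.mk' (Subgroup.zpowers d.z)
  have hc3 : ∀ b ∈ d.A3, ∀ g : G, Commute (r b) (r g) := fun b hb g => by
    rw [← commutatorElement_eq_one_iff_commute, ← map_commutatorElement, ← MonoidHom.mem_ker,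
      QuotientGroup.ker_mk']
    exact d.comm_A3 b hb g
  have h2 : Commute (r d.a2) ⁅r d.a2, r d.e⁆ ∧ Commute (r d.e) ⁅r d.a2, r d.e⁆ := by
    rw [← map_commutatorElement]
    exact ⟨(hc3 _ (d.comm_A _ d.se _) _).symm, (hc3 _ (d.comm_A _ d.se _) _).symm⟩
  have hxe : Commute (r x) (r d.e ^ (-1 : ℤ)) := by rw [← map_zpow]; exact hc3 x hx _
  have hq3 : r (β d.a3) = r (d.a3 ^ (c * -1 * -1)) := by
    show r (β ⁅d.a2, d.e⁆) = r (⁅d.a2, d.e⁆ ^ (c * -1 * -1))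
    rw [map_commutatorElement, hx2, he, map_zpow, map_commutatorElement, map_commutatorElement,
      map_mul, map_zpow, map_zpow, comm_mul_left hxe, comm_zpow h2.1 h2.2]
  obtain ⟨y, hy, hy3⟩ : ∃ y ∈ Subgroup.zpowers d.z, β d.a3 = d.a3 ^ c * y := by
    refine ⟨(d.a3 ^ c)⁻¹ * β d.a3, QuotientGroup.eq.1 ?_, (mul_inv_cancel_left _ _).symm⟩
    rw [show c * -1 * -1 = c by ring] at hq3
    exact hq3.symm
  obtain ⟨m, rfl⟩ := Subgroup.mem_zpowers_iff.1 hy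
  have h3 : Commute d.a3 ⁅d.a3, d.e⁆ ∧ Commute d.e ⁅d.a3, d.e⁆ := by
    rw [show ⁅d.a3, d.e⁆ = d.z from d.hz]
    exact ⟨(d.zc _).symm, (d.zc _).symm⟩
  have hzw : d.z ^ (-1 : ℤ) = d.z ^ (c * -1) := by
    rw [← hz]
    conv_lhs => rw [← d.hz]
    show β ⁅d.a3, d.e⁆ = _
    rw [map_commutatorElement, hy3, he, comm_mul_left ((d.zc _).zpow_left m), comm_zpow h3.1 h3.2,
      show ⁅d.a3, d.e⁆ = d.z from d.hz]
  have hc : (c : ZMod p) = 1 := by
    have := cast_eq_of_zpow_eq d.zp d.z1 hzw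
    push_cast at this
    linear_combination this
  -- now compare on the deciding commutator
  have hw := d.weight_v ha d.A.one_mem hs he'
  rw [hv, map_mul, map_zpow, map_zpow, hy3, hz] at hw
  have hmod : d.a3 ^ (c * k + k * (c * c)) ∈ Subgroup.zpowers d.z := by
    rw [← QuotientGroup.ker_mk' (Subgroup.zpowers d.z), MonoidHom.mem_ker]
    have hz0 : r d.z = 1 := (QuotientGroup.eq_one_iff _).2 (Subgroup.mem_zpowers _)
    have := congrArg r hw
    simp only [map_mul, map_zpow, hz0, one_zpow, mul_one, ← zpow_mul] at this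
    show r (d.a3 ^ (c * k + k * (c * c))) = 1
    rw [map_zpow, zpow_add, this, ← zpow_add,
      show k * (c * (c * -1)) + k * (c * c) = 0 by ring, zpow_zero]
  have := cast_eq_zero_of_zpow_mem d.pow3 d.a3_notMem hmod
  push_cast at this
  rw [hc] at this
  have h2 : (2 : ZMod p) ≠ 0 := by
    intro h
    have h' : ((2 : ℕ) : ZMod p) = 0 := by simpa using h
    rw [ZMod.natCast_eq_zero_iff] at h'
    exact hp2 ((Nat.prime_dvd_prime_iff_eq hp.out Nat.prime_two).1 h')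
  have hk : (k : ZMod p) = 0 := by
    have : (2 : ZMod p) * k = 0 := by linear_combination this
    exact (mul_eq_zero.1 this).resolve_left h2
  obtain ⟨q', hq'⟩ := (ZMod.intCast_zmod_eq_zero_iff_dvd k p).1 hk
  rw [hv, hq', zpow_mul, zpow_natCast]
  exact mul_mem (zpow_mem d.pow3 q') (zpow_mem (Subgroup.mem_zpowers _) l)

/-- An endomorphism with parameters `(m, n)` on `e` and `z` gives `n ^ 6 = 1` unless the deciding
commutator is trivial. -/
theorem six_of_v (hv : d.v ∈ Subgroup.zpowers d.z) (hv1 : d.v ≠ 1) {n m : ℤ}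
    (hnm : ((n * m : ℤ) : ZMod p) = 1) (ha : a ∈ d.A) (hs : β d.s = d.s ^ c * a)
    (he : β d.e = d.e ^ m) (hz : β d.z = d.z ^ n) : (n : ZMod p) ^ 6 = 1 := by
  obtain ⟨k, hk⟩ := Subgroup.mem_zpowers_iff.1 hv
  have he' : β d.e = d.e ^ m * d.s ^ (0 : ℤ) * 1 := by rw [he, zpow_zero, mul_one, mul_one]
  obtain ⟨-, hrest⟩ := d.weights ha d.A.one_mem hs he'
  obtain ⟨-, hzw⟩ := hrest k hk.symm
  rw [hz] at hzw
  have h1 := cast_eq_of_zpow_eq d.zp d.z1 hzw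
  have hw := d.weight_v ha d.A.one_mem hs he'
  rw [← hk, map_zpow, hz, ← zpow_mul, ← zpow_mul] at hw
  have h2 := cast_eq_of_zpow_eq d.zp d.z1 hw
  have hk0 : (k : ZMod p) ≠ 0 := fun h0 => hv1 (by
    obtain ⟨q', hq'⟩ := (ZMod.intCast_zmod_eq_zero_iff_dvd k p).1 h0
    rw [← hk, hq', zpow_mul, zpow_natCast, d.zp, one_zpow])
  push_cast at h1 h2 hnm
  have hm0 : (m : ZMod p) ≠ 0 := fun h0 => by rw [h0, mul_zero] at hnm; exact zero_ne_one hnm
  have hc : (c : ZMod p) = (n : ZMod p) ^ 4 := by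
    linear_combination (-(n : ZMod p) ^ 3) * h1 + (-(c : ZMod p)) *
      ((n : ZMod p) ^ 2 * m ^ 2 + n * m + 1) * hnm
  have h3 : (n : ZMod p) = c * (c * m) := by
    have : (k : ZMod p) * (n - c * (c * m)) = 0 := by linear_combination h2
    rcases mul_eq_zero.1 this with h | h
    · exact absurd h hk0
    · exact sub_eq_zero.1 h
  have h4 : (n : ZMod p) = (n : ZMod p) ^ 7 * (n * m) := by
    linear_combination h3 + ((c : ZMod p) * m + (n : ZMod p) ^ 4 * m) * hc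
  rw [hnm, mul_one] at h4
  have hn0 : (n : ZMod p) ≠ 0 := fun h0 => by rw [h0, zero_mul] at hnm; exact zero_ne_one hnm
  exact mul_right_cancel₀ hn0 (by linear_combination -h4)

/-- With a nontrivial central deciding commutator the weight on the line of `s` is a square. -/
theorem line_weight (hv : d.v ∈ Subgroup.zpowers d.z) (hv1 : d.v ≠ 1) (ha : a ∈ d.A) (ha' : a' ∈ d.A)
    (hs : β d.s = d.s ^ c * a) (he : β d.e = d.e ^ i * d.s ^ j * a') (hinj : Function.Injective β) :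
    (c : ZMod p) = (i : ZMod p) ^ 2 := by
  obtain ⟨k, hk⟩ := Subgroup.mem_zpowers_iff.1 hv
  obtain ⟨-, hrest⟩ := d.weights ha ha' hs he
  obtain ⟨-, hzw⟩ := hrest k hk.symm
  have hw := d.weight_v ha ha' hs he
  rw [← hk, map_zpow, hzw, ← zpow_mul, ← zpow_mul] at hw
  have h2 := cast_eq_of_zpow_eq d.zp d.z1 hw
  have hk0 : (k : ZMod p) ≠ 0 := fun h0 => hv1 (by
    obtain ⟨q', hq'⟩ := (ZMod.intCast_zmod_eq_zero_iff_dvd k p).1 h0
    rw [← hk, hq', zpow_mul, zpow_natCast, d.zp, one_zpow])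
  have h0 : ((c * i * i * i : ℤ) : ZMod p) ≠ 0 := fun h0 => d.z1 (by
    obtain ⟨q', hq'⟩ := (ZMod.intCast_zmod_eq_zero_iff_dvd _ p).1 h0
    refine hinj ?_
    rw [hzw, hq', zpow_mul, zpow_natCast, d.zp, one_zpow, map_one])
  push_cast at h0 h2
  obtain ⟨hci, hi⟩ := mul_ne_zero_iff.1 h0
  obtain ⟨hci', -⟩ := mul_ne_zero_iff.1 hci
  have : (k : ZMod p) * (c * i) * ((c : ZMod p) - i ^ 2) = 0 := by linear_combination -h2
  rcases mul_eq_zero.1 this with h | h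
  · exact absurd h (mul_ne_zero hk0 hci')
  · exact sub_eq_zero.1 h

end PearlData

end Cfsg.Agent.Lib.FusionOrderFive
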