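import Cfsg.Agent.Lib.FusionOrderFive.Transvection
import Cfsg.Agent.Lib.FusionOrderFive.PearlAlgebra

/-!
A group of automorphisms of a space of dimension three with an invariant line cannot contain a
single Jordan block and move the plane of that block, when its elements of order `p` generate
cyclic groups in commuting pairs.
-/

set_option autoImplicit false
set_option linter.unusedSectionVars false

namespace Cfsg.Agent.Lib.FusionOrderFive

open Subgroup

variable {V : Type*} [CommGroup V] {p : ℕ} [hp : Fact p.Prime]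

theorem preserve_of_jordan (hp2 : p ≠ 2) (hexp : ∀ v : V, v ^ p = 1) {A : Subgroup (MulAut V)}
    (hA : ∀ a ∈ A, ∀ b ∈ A, a ^ p = 1 → b ^ p = 1 → Commute a b → a ≠ 1 → b ∈ zpowers a)
    {a : MulAut V} (ha : a ∈ A) (hap : a ^ p = 1) {x1 x2 x3 : V} (h1 : a x1 = x1 * x2)
    (h2 : a x2 = x2 * x3) (h3 : a x3 = x3) (h23 : x2 ∉ zpowers x3) (h30 : x3 ≠ 1)
    (hgen : ∀ v : V, ∃ i j k : ℤ, v = x1 ^ i * x2 ^ j * x3 ^ k)
    (hL : ∀ g ∈ A, g x3 ∈ zpowers x3) {g : MulAut V} (hg : g ∈ A) :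
    ∃ j k : ℤ, g x2 = x2 ^ j * x3 ^ k := by
  by_contra hcon
  set L := zpowers x3
  have hw : ∀ {m : ℤ}, x3 ^ m = 1 → (m : ZMod p) = 0 := fun {m} hm => by
    have := cast_eq_of_zpow_eq (hexp x3) h30 (j := 0) (by rw [hm, zpow_zero])
    simpa using this
  have hLfix : ∀ b : MulAut V, b x3 = x3 → ∀ m : ℤ, b (x3 ^ m) = x3 ^ m := fun b hb m => by
    rw [map_zpow, hb]
  let H : Subgroup (MulAut V) :=
    { carrier := {b | b ∈ A ∧ b x3 = x3}
      one_mem' := ⟨A.one_mem, rfl⟩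
      mul_mem' := fun {b c} hb hc => ⟨A.mul_mem hb.1 hc.1, by rw [MulAut.mul_apply, hc.2, hb.2]⟩
      inv_mem' := fun {b} hb => ⟨A.inv_mem hb.1, by
        conv_lhs => rw [← hb.2]
        exact b.symm_apply_apply _⟩ }
  let ρ : H →* MulAut (V ⧸ L) :=
    { toFun := fun b => QuotientGroup.congr L L (b : MulAut V) (by
        show L.map (b : MulAut V).toMonoidHom = L
        rw [MonoidHom.map_zpowers]
        exact congrArg zpowers b.2.2)
      map_one' := MulEquiv.ext fun v => QuotientGroup.induction_on v fun w => rfl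
      map_mul' := fun b c => MulEquiv.ext fun v => QuotientGroup.induction_on v fun w => rfl }
  have hρ : ∀ (b : H) (v : V), ρ b (v : V ⧸ L) = (((b : MulAut V) v : V) : V ⧸ L) := fun b v => rfl
  have hexpW : ∀ v : V ⧸ L, v ^ p = 1 := fun v => QuotientGroup.induction_on v fun w => by
    rw [← QuotientGroup.mk_pow, hexp]; rfl
  have hL1 : ∀ m : ℤ, ((x3 ^ m : V) : V ⧸ L) = 1 := fun m =>
    (QuotientGroup.eq_one_iff _).2 (zpow_mem (mem_zpowers x3) m)
  have hz1 : ((x2 : V) : V ⧸ L) ≠ 1 := fun e => h23 ((QuotientGroup.eq_one_iff _).1 e)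
  -- the action of `a`
  have hat : ∀ i j k : ℤ, a (x1 ^ i * x2 ^ j * x3 ^ k) = x1 ^ i * x2 ^ j * x3 ^ k * x2 ^ i * x3 ^ j := by
    intro i j k
    rw [map_mul, map_mul, map_zpow, map_zpow, hLfix a h3, h1, h2, mul_zpow, mul_zpow]
    simp only [mul_assoc, mul_comm, mul_left_comm]
  have haH : a ∈ H := ⟨ha, h3⟩
  have ht'H : g * a * g⁻¹ ∈ H := by
    refine ⟨A.mul_mem (A.mul_mem hg ha) (A.inv_mem hg), ?_⟩
    obtain ⟨e, he⟩ := mem_zpowers_iff.1 (hL g⁻¹ (A.inv_mem hg))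
    rw [MulAut.mul_apply, MulAut.mul_apply, ← he, hLfix a h3, he]
    exact MulAut.apply_inv_self V g x3
  set z : V ⧸ L := QuotientGroup.mk x2 with hzdef
  set z' : V ⧸ L := QuotientGroup.mk (g x2) with hz'def
  have hgL : ∀ m : ℤ, ((g (x3 ^ m) : V) : V ⧸ L) = 1 := fun m => by
    obtain ⟨e, he⟩ := mem_zpowers_iff.1 (hL g hg)
    rw [map_zpow, ← he, ← zpow_mul]; exact hL1 _
  have hgat : ∀ i j k : ℤ, ∀ v : V, g⁻¹ v = x1 ^ i * x2 ^ j * x3 ^ k →
      ρ ⟨_, ht'H⟩ (v : V ⧸ L) = (v : V ⧸ L) * z' ^ i := by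
    intro i j k v hv
    rw [hρ]
    show (((g * a * g⁻¹) v : V) : V ⧸ L) = _
    rw [MulAut.mul_apply, MulAut.mul_apply, hv, hat, map_mul g, map_mul g, ← hv,
      MulAut.apply_inv_self, map_zpow g x2, QuotientGroup.mk_mul, QuotientGroup.mk_mul, hgL, mul_one,
      QuotientGroup.mk_zpow]
  have ht : IsMove (ρ ⟨a, haH⟩) z := fun v => QuotientGroup.induction_on v fun w => by
    obtain ⟨i, j, k, rfl⟩ := hgen w
    refine ⟨i, ?_⟩
    rw [hρ, hat, QuotientGroup.mk_mul, QuotientGroup.mk_mul, hL1, mul_one, QuotientGroup.mk_zpow]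
  have htz : ρ ⟨a, haH⟩ z = z := by
    rw [hρ, h2, QuotientGroup.mk_mul, show ((x3 : V) : V ⧸ L) = 1 by simpa using hL1 1, mul_one]
  have ht' : IsMove (ρ ⟨_, ht'H⟩) z' := fun v => QuotientGroup.induction_on v fun w => by
    obtain ⟨i, j, k, hv⟩ := hgen (g⁻¹ w)
    exact ⟨i, hgat i j k w hv⟩
  have ht'z : ρ ⟨_, ht'H⟩ z' = z' := by
    rw [hgat 0 1 0 (g x2) (by rw [MulAut.inv_apply_self]; simp), zpow_zero, mul_one]
  have hz'1 : z' ≠ 1 := fun e => by
    obtain ⟨k, hk⟩ := mem_zpowers_iff.1 ((QuotientGroup.eq_one_iff _).1 e)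
    exact hcon ⟨0, k, by rw [zpow_zero, one_mul, hk]⟩
  have h : ρ ⟨a, haH⟩ z' ≠ z' := by
    intro e
    obtain ⟨i, j, k, hv⟩ := hgen (g x2)
    rw [hρ] at e
    change ((a (g x2) : V) : V ⧸ L) = z' at e
    rw [hv, hat, ← hv, QuotientGroup.mk_mul, QuotientGroup.mk_mul, hL1, mul_one, mul_eq_left,
      QuotientGroup.mk_zpow] at e
    have hi : (i : ZMod p) = ((0 : ℤ) : ZMod p) :=
      cast_eq_of_zpow_eq (hexpW z) hz1 (by rw [e, zpow_zero])
    exact hcon ⟨j, k, by rw [hv, zpow_congr hexp x1 hi, zpow_zero, one_mul]⟩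
  have h' : ρ ⟨_, ht'H⟩ z ≠ z := by
    intro e
    obtain ⟨i, j, k, hv⟩ := hgen (g⁻¹ x2)
    rw [hgat i j k x2 hv, mul_eq_left] at e
    have hi : (i : ZMod p) = ((0 : ℤ) : ZMod p) :=
      cast_eq_of_zpow_eq (hexpW z') hz'1 (by rw [e, zpow_zero])
    rw [zpow_congr hexp x1 hi, zpow_zero, one_mul] at hv
    have hx : x2 = (g x2) ^ j * (g x3) ^ k := by
      rw [← map_zpow, ← map_zpow, ← map_mul, ← hv, MulAut.apply_inv_self]
    obtain ⟨ε, hε⟩ := mem_zpowers_iff.1 (hL g hg)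
    have hj : (j : ZMod p) ≠ 0 := fun hj => h23 (by
      rw [hx, zpow_congr hexp (g x2) (n := 0) (by rw [hj, Int.cast_zero]), zpow_zero, one_mul, ← hε,
        ← zpow_mul]
      exact zpow_mem (mem_zpowers x3) _)
    obtain ⟨j', hj'⟩ := exists_intCast ((j : ZMod p)⁻¹)
    refine hcon ⟨j', -(ε * k * j'), ?_⟩
    have hgj : (g x2) ^ j = x2 * x3 ^ (-(ε * k)) := by
      rw [zpow_neg, zpow_mul, hε]
      exact eq_mul_inv_of_mul_eq hx.symm
    calc g x2 = ((g x2) ^ j) ^ j' := by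
          rw [← zpow_mul, zpow_congr hexp (g x2) (m := j * j') (n := 1) (by
            push_cast; rw [hj', mul_inv_cancel₀ hj]), zpow_one]
      _ = x2 ^ j' * x3 ^ (-(ε * k * j')) := by rw [hgj, mul_zpow, ← zpow_mul, neg_mul]
  obtain ⟨β', hβ', b1, b2, b3, -, b5⟩ :=
    exists_torus hexpW ht htz ht' ht'z h h' (n := -1) (m := -1) (by simp)
  obtain ⟨β, rfl⟩ : ∃ β : H, ρ β = β' := by
    have : closure ({ρ ⟨a, haH⟩, ρ ⟨_, ht'H⟩} : Set (MulAut (V ⧸ L))) ≤ ρ.range := by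
      rw [closure_le]
      rintro x (rfl | rfl)
      exacts [⟨_, rfl⟩, ⟨_, rfl⟩]
    exact this hβ'
  have hneg : ∀ v, ρ β v = v⁻¹ := by
    intro v
    obtain ⟨i, j, l, hl, hl', hv⟩ := b5 v
    obtain ⟨l₀, rfl⟩ := QuotientGroup.mk_surjective l
    obtain ⟨i', j', k', rfl⟩ := hgen l₀
    have hl1 := hl
    rw [hρ, hat, QuotientGroup.mk_mul, QuotientGroup.mk_mul, hL1, mul_one, mul_eq_left,
      QuotientGroup.mk_zpow] at hl1
    have hi : (i' : ZMod p) = ((0 : ℤ) : ZMod p) :=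
      cast_eq_of_zpow_eq (hexpW z) hz1 (by rw [hl1, zpow_zero])
    have hlz : ((x1 ^ i' * x2 ^ j' * x3 ^ k' : V) : V ⧸ L) = z ^ j' := by
      rw [QuotientGroup.mk_mul, QuotientGroup.mk_mul, hL1, mul_one, zpow_congr hexp x1 hi, zpow_zero,
        QuotientGroup.mk_one, one_mul, QuotientGroup.mk_zpow]
    have hfix := b3 _ hl hl'
    rw [hlz, map_zpow, b1, ← zpow_mul] at hfix
    have hj : (((-1) * j' : ℤ) : ZMod p) = (j' : ZMod p) := cast_eq_of_zpow_eq (hexpW z) hz1 hfix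
    have hj0 : (j' : ZMod p) = ((0 : ℤ) : ZMod p) := by
      push_cast at hj ⊢
      have h2 : (2 : ZMod p) * j' = 0 := by linear_combination -hj
      refine (mul_eq_zero.1 h2).resolve_left fun h0 => ?_
      have h' : ((2 : ℕ) : ZMod p) = 0 := by simpa using h0
      rw [ZMod.natCast_eq_zero_iff] at h'
      exact hp2 ((Nat.prime_dvd_prime_iff_eq hp.out Nat.prime_two).1 h')
    rw [hlz, zpow_congr hexpW z hj0, zpow_zero, mul_one] at hv
    rw [hv, map_mul, map_zpow, map_zpow, b1, b2, zpow_neg_one, zpow_neg_one, inv_zpow, inv_zpow, mul_inv]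
  -- elements trivial on the quotient are trivial
  have small : ∀ t : H, ρ t = 1 → (t : MulAut V) = 1 := by
    intro t ht1
    have hmove : IsMove (t : MulAut V) x3 := fun v => by
      have := DFunLike.congr_fun ht1 (v : V ⧸ L)
      rw [hρ, MulAut.one_apply] at this
      obtain ⟨m, hm⟩ := mem_zpowers_iff.1 (QuotientGroup.eq.1 this.symm)
      exact ⟨m, by rw [hm, mul_inv_cancel_left]⟩
    by_contra hne
    have hf : (t : MulAut V) x3 = x3 := t.2.2
    have htp := move_pow_prime hexp hmove hf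
    have hax : a⁻¹ x3 = x3 := (H.inv_mem haH).2
    have hmove' : IsMove (a * (t : MulAut V) * a⁻¹) x3 := by
      have := isMove_conj a hmove
      rwa [h3] at this
    have hf' : (a * (t : MulAut V) * a⁻¹) x3 = x3 := by
      rw [MulAut.mul_apply, MulAut.mul_apply, hax, hf, h3]
    have hmem : a * (t : MulAut V) * a⁻¹ ∈ A := A.mul_mem (A.mul_mem ha t.2.1) (A.inv_mem ha)
    obtain ⟨c, hc⟩ := mem_zpowers_iff.1 (hA _ t.2.1 _ hmem htp (move_pow_prime hexp hmove' hf') (by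
      refine commute_of_fix hmove hmove' ?_ ?_
      · exact hf
      · exact hf') hne)
    obtain ⟨l1, hl1⟩ := hmove x1
    obtain ⟨l2, hl2⟩ := hmove x2
    have hpow : ∀ v (l : ℤ), (t : MulAut V) v = v * x3 ^ l → ((t : MulAut V) ^ c) v = v * x3 ^ (c * l) := by
      intro v l hl
      rw [move_zpow hexp hf hl c]
    have heq : ∀ v, a ((t : MulAut V) v) = ((t : MulAut V) ^ c) (a v) := fun v => by
      rw [hc, MulAut.mul_apply, MulAut.mul_apply, MulAut.inv_apply_self]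
    have ht3 : ∀ m : ℤ, ((t : MulAut V) ^ c) (x3 ^ m) = x3 ^ m := fun m => by
      rw [map_zpow, hpow x3 0 (by simpa using hf), mul_zero, zpow_zero, mul_one]
    have e2 := heq x2
    rw [hl2, map_mul, hLfix a h3, h2, map_mul, hpow x2 l2 hl2,
      show ((t : MulAut V) ^ c) x3 = x3 by simpa using ht3 1] at e2
    rw [mul_right_comm _ (x3 ^ (c * l2)), mul_left_cancel_iff] at e2
    have c2 := cast_eq_of_zpow_eq (hexp x3) h30 e2
    have e1 := heq x1
    rw [hl1, map_mul, hLfix a h3, h1, map_mul, hpow x1 l1 hl1, hpow x2 l2 hl2] at e1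
    rw [show x1 * x3 ^ (c * l1) * (x2 * x3 ^ (c * l2)) = x1 * x2 * x3 ^ (c * l1 + c * l2) by
      rw [zpow_add]; simp only [mul_assoc, mul_left_comm], mul_left_cancel_iff] at e1
    have c1 := cast_eq_of_zpow_eq (hexp x3) h30 e1
    push_cast at c1 c2
    have hl20 : (l2 : ZMod p) = 0 := by
      by_cases hc1 : (c : ZMod p) = 1
      · rw [hc1] at c1; linear_combination -c1
      · have : ((c : ZMod p) - 1) * l2 = 0 := by linear_combination -c2
        exact (mul_eq_zero.1 this).resolve_left (sub_ne_zero.2 hc1)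
    have ht2 : (t : MulAut V) x2 = x2 := by
      rw [hl2, zpow_congr hexp x3 (n := 0) (by rw [hl20, Int.cast_zero]), zpow_zero, mul_one]
    have hcomm : Commute (t : MulAut V) a := by
      refine MulEquiv.ext fun v => ?_
      obtain ⟨i, j, k, rfl⟩ := hgen v
      simp only [MulAut.mul_apply, map_mul, map_zpow, hl1, ht2, h1, h2, h3, hf, mul_assoc,
        mul_comm, mul_left_comm]
    obtain ⟨k, hk⟩ := mem_zpowers_iff.1 (hA _ t.2.1 _ ha htp hap hcomm hne)
    refine h23 ?_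
    have e : x1 * x2 = x1 * x3 ^ (k * l1) := by
      rw [← h1, ← hk, move_zpow hexp hf hl1 k]
    rw [mul_left_cancel e]
    exact zpow_mem (mem_zpowers x3) _
  have hcomm : a * (β : MulAut V) = (β : MulAut V) * a := by
    have hγ : ρ (⟨a, haH⟩ * β * (β * ⟨a, haH⟩)⁻¹) = 1 := by
      refine MulEquiv.ext fun v => ?_
      rw [map_mul, map_mul, map_inv, map_mul, mul_inv_eq_one.2]
      refine MulEquiv.ext fun w => ?_
      rw [MulAut.mul_apply, MulAut.mul_apply, hneg, hneg, map_inv]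
    exact mul_inv_eq_one.1 (small _ hγ)
  have hφ : ∀ v, ∃ m : ℤ, (β : MulAut V) v * v = x3 ^ m := fun v => by
    have := hneg (v : V ⧸ L)
    rw [hρ, eq_inv_iff_mul_eq_one, ← QuotientGroup.mk_mul, QuotientGroup.eq_one_iff] at this
    obtain ⟨m, hm⟩ := mem_zpowers_iff.1 this
    exact ⟨m, hm.symm⟩
  have key : ∀ v w, a v = v * w → (β : MulAut V) w * w = 1 := by
    intro v w hvw
    obtain ⟨m, hm⟩ := hφ v
    have e1 : (β : MulAut V) (a v) * a v = (β : MulAut V) v * v := by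
      rw [← MulAut.mul_apply, ← hcomm, MulAut.mul_apply, ← map_mul, hm, hLfix a h3]
    rw [hvw, map_mul, mul_mul_mul_comm, mul_eq_left] at e1
    exact e1
  have e3 := key x2 x3 h2
  rw [β.2.2] at e3
  have := cast_eq_of_zpow_eq (hexp x3) h30 (i := 2) (j := 0) (by rw [zpow_zero, zpow_two]; exact e3)
  push_cast at this
  have h' : ((2 : ℕ) : ZMod p) = 0 := by simpa using this
  rw [ZMod.natCast_eq_zero_iff] at h'
  exact hp2 ((Nat.prime_dvd_prime_iff_eq hp.out Nat.prime_two).1 h')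

end Cfsg.Agent.Lib.FusionOrderFive
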