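import Cfsg.Agent.Lib.FusionOrderFive.PearlExtend
import Cfsg.Agent.Lib.FusionOrderFive.Focal
import Cfsg.Agent.Lib.FusionOrderFive.Jordan

/-!
The case of an elementary abelian essential subgroup of order `p ^ 2`.
-/

set_option autoImplicit false
set_option linter.unusedSectionVars false

namespace Cfsg.Agent.Lib.FusionOrderFive

open Cfsg Cfsg.FusionSystem Cfsg.Agent.Lib.Fusion Cfsg.Agent.Lib.Fusion87
open scoped commutatorElement

universe u

namespace PearlGroup

variable {p : ℕ} [hp : Fact p.Prime] {G : Type*} [Group G] [Finite G] (d : PearlGroup p G)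
include d

theorem comm_e_notMem_z {u : G} (hu : u ∈ commutator G) (hu3 : u ∉ third G) :
    ⁅u, d.e⁆ ∉ Subgroup.zpowers d.z := fun h => by
  obtain ⟨b, hb, he⟩ := d.exists_comm_z h
  have h1 := d.mem_z_of_commutator (mul_mem (inv_mem (third_le hb)) hu) (d.mem_R_of_comm he)
  have h2 := mul_mem hb (Subgroup.zpowers_le.2 d.z_mem_third h1)
  rw [mul_inv_cancel_left] at h2
  exact hu3 h2

theorem aut_z (δ : MulAut G) {w : G} (hw : w ∈ Subgroup.zpowers d.z) : δ w ∈ Subgroup.zpowers d.z :=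
  d.center_le (Subgroup.mem_center_iff.2 fun g => by
    rw [← δ.apply_symm_apply g, ← map_mul, ← map_mul, (d.z_central hw _).eq])

theorem aut_third (δ : MulAut G) {a : G} (ha : a ∈ third G) : δ a ∈ third G := by
  obtain ⟨b, hb, rfl⟩ := d.exists_comm_third ha
  rw [map_commutatorElement]
  exact comm_mem_third
    (Subgroup.characteristic_iff_le_comap.1 (inferInstance : (commutator G).Characteristic) δ hb) _

variable {s : G} (hs : s ∉ d.N2) (hsa : ∀ a ∈ third G, Commute s a)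
include hs hsa

theorem aut_topC (δ : MulAut G) {w : G} (hw : w ∈ topC s) : δ w ∈ topC s := by
  rw [d.mem_C_iff hs hsa] at hw ⊢
  intro a ha
  have := (hw _ (d.aut_third δ.symm ha)).map δ.toMonoidHom
  simpa using this

theorem params (δ : G →* G) (h : ∀ w ∈ topC s, δ w ∈ topC s) :
    (∃ (c : ℤ), ∃ a ∈ commutator G, δ s = s ^ c * a) ∧
      ∃ (i j : ℤ), ∃ a ∈ commutator G, δ d.e = d.e ^ i * s ^ j * a := by
  haveI := topC_normal s
  refine ⟨?_, ?_⟩
  · obtain ⟨c, a, ha, he⟩ := exists_zpow_mul (h s (Subgroup.mem_sup_right (Subgroup.mem_zpowers s)))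
    exact ⟨c, a, ha, he⟩
  · obtain ⟨i, w, hw, he⟩ := exists_zpow_mul ((d.C_sup hs hsa).ge (Subgroup.mem_top (δ d.e)))
    obtain ⟨j, a, ha, rfl⟩ := exists_zpow_mul hw
    exact ⟨i, j, a, ha, by rw [he, mul_assoc]⟩

theorem v_central (hp2 : p ≠ 2) (δ : MulAut G) (hz : δ d.z = d.z ^ (-1 : ℤ))
    (he : δ d.e = d.e ^ (-1 : ℤ)) : (d.data hs hsa).v ∈ Subgroup.zpowers (d.data hs hsa).z := by
  obtain ⟨⟨c, a, ha, hc⟩, -⟩ := d.params hs hsa δ.toMonoidHom fun w hw => d.aut_topC hs hsa δ hw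
  refine (d.data hs hsa).v_mem_center (β := δ.toMonoidHom) hp2 ha hc he ?_
  obtain ⟨k, hk⟩ := Subgroup.mem_zpowers_iff.1
    ((d.zpowers_z' hs hsa).le (Subgroup.mem_zpowers _) : (d.data hs hsa).z ∈ Subgroup.zpowers d.z)
  show δ (d.data hs hsa).z = _
  rw [← hk, map_zpow, hz, ← zpow_mul, ← zpow_mul, mul_comm]

theorem eq_three (hp7 : p ≠ 7) (hv : (d.data hs hsa).v ∈ Subgroup.zpowers (d.data hs hsa).z)
    {m : ℤ} (hm : ((2 * m : ℤ) : ZMod p) = 1) (δ : MulAut G) (hz : δ d.z = d.z ^ (2 : ℤ))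
    (he : δ d.e = d.e ^ m) : p = 3 := by
  obtain ⟨⟨c, a, ha, hc⟩, -⟩ := d.params hs hsa δ.toMonoidHom fun w hw => d.aut_topC hs hsa δ hw
  obtain ⟨k, hk⟩ := Subgroup.mem_zpowers_iff.1
    ((d.zpowers_z' hs hsa).le (Subgroup.mem_zpowers _) : (d.data hs hsa).z ∈ Subgroup.zpowers d.z)
  have h6 := (d.data hs hsa).six_of_v (β := δ.toMonoidHom) hv (d.not_commute_v hs hsa) (n := 2) (m := m)
    hm ha hc he (by
      show δ (d.data hs hsa).z = _
      rw [← hk, map_zpow, hz, ← zpow_mul, ← zpow_mul, mul_comm])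
  have h63 : ((63 : ℕ) : ZMod p) = 0 := by push_cast at h6 ⊢; linear_combination h6
  rw [ZMod.natCast_eq_zero_iff, show 63 = 3 * 3 * 7 by norm_num, hp.out.dvd_mul, hp.out.dvd_mul] at h63
  rcases h63 with (h3 | h3) | h3
  · exact (Nat.prime_dvd_prime_iff_eq hp.out Nat.prime_three).1 h3
  · exact (Nat.prime_dvd_prime_iff_eq hp.out Nat.prime_three).1 h3
  · exact absurd ((Nat.prime_dvd_prime_iff_eq hp.out (by norm_num)).1 h3) hp7

theorem pow_topC {w : G} (hw : w ∈ topC s) : w ^ p ∈ commutator G :=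
  pow_mem_of_card (p := p) (A := topC s) (le_sup_left : commutator G ≤ topC s) (by rw [d.card_C hs hsa, d.card_commutator, pow_succ]) hw

theorem fix_topC (hp3 : p = 3) (hv : (d.data hs hsa).v ∈ Subgroup.zpowers (d.data hs hsa).z)
    (δ : MulAut G) {w : G} (hw : w ∈ topC s) : w⁻¹ * δ w ∈ commutator G := by
  obtain ⟨⟨c, a, ha, hc⟩, i, j, a', ha', he⟩ :=
    d.params hs hsa δ.toMonoidHom fun w hw => d.aut_topC hs hsa δ hw
  change δ s = s ^ c * a at hc
  have hci := (d.data hs hsa).line_weight (β := δ.toMonoidHom) hv (d.not_commute_v hs hsa) ha ha' hc he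
    δ.injective
  have hsp := d.pow_topC hs hsa (Subgroup.mem_sup_right (Subgroup.mem_zpowers s) : s ∈ topC s)
  have hcA : ∀ x ∈ commutator G, δ x ∈ commutator G := fun x hx =>
    Subgroup.characteristic_iff_le_comap.1 (inferInstance : (commutator G).Characteristic) δ hx
  have hi0 : (i : ZMod p) ≠ 0 := fun h0 => by
    have hc0 : (c : ZMod p) = 0 := by rw [hci, h0]; ring
    obtain ⟨q, hq⟩ := (ZMod.intCast_zmod_eq_zero_iff_dvd c p).1 hc0
    have h1 : δ s ∈ commutator G := by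
      rw [hc, hq, zpow_mul, zpow_natCast]; exact mul_mem (zpow_mem hsp q) ha
    have h2 : s ∈ commutator G := by
      rw [← δ.symm_apply_apply s]
      exact Subgroup.characteristic_iff_le_comap.1 (inferInstance : (commutator G).Characteristic) δ.symm h1
    exact d.s_notMem hs hsa h2
  have hc1 : (c : ZMod p) = 1 := by
    have := ZMod.pow_card_sub_one_eq_one hi0
    rw [hci]
    subst hp3
    simpa using this
  obtain ⟨q, hq⟩ := (ZMod.intCast_zmod_eq_zero_iff_dvd (c - 1) p).1 (by push_cast; rw [hc1, sub_self])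
  have hsfix : s⁻¹ * δ s ∈ commutator G := by
    rw [hc, ← mul_assoc, ← zpow_neg_one, ← zpow_add, neg_add_eq_sub, hq, zpow_mul, zpow_natCast]
    exact mul_mem (zpow_mem hsp q) ha
  let π := QuotientGroup.mk' (commutator G)
  refine QuotientGroup.eq.1 (show π w = π (δ w) from ?_)
  obtain ⟨k, u, hu, rfl⟩ := exists_zpow_mul hw
  rw [map_mul δ, map_mul π, map_mul π, map_zpow δ, map_zpow π, map_zpow π,
    show π (δ s) = π s from (QuotientGroup.eq.2 hsfix).symm,
    show π (δ u) = 1 from (QuotientGroup.eq_one_iff _).2 (hcA u hu),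
    show π u = 1 from (QuotientGroup.eq_one_iff _).2 hu]

/-- The centre of the maximal subgroup on `s`. -/
theorem center_topC {w : G} (hw : w ∈ topC s) (hall : ∀ x ∈ topC s, Commute w x) : w ∈ third G := by
  set D := d.data hs hsa
  obtain ⟨k, u, hu, rfl⟩ := exists_zpow_mul hw
  have ha2 : D.a2 ∈ commutator G := D.se
  have hv : D.v ≠ 1 := d.not_commute_v hs hsa
  have hvp : D.v ^ p = 1 := by
    have hc : Commute D.a2 ⁅D.a2, s⁆ := (D.commute_A3_A (D.comm_A _ D.se s) ha2).symm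
    have h1 := comm_zpow_left hc (p : ℤ)
    rw [zpow_natCast, zpow_natCast,
      commutatorElement_eq_one_iff_commute.2 (show Commute (D.a2 ^ p) s from (D.sA3 _ D.pow2).symm)] at h1
    rw [← inv_inj, inv_one, ← inv_pow, show D.v⁻¹ = ⁅D.a2, s⁆ from commutatorElement_inv _ _]
    exact h1.symm
  have hk : (k : ZMod p) = 0 := by
    have h1 : Commute (s ^ k) D.a2 := by
      have h2 := (hall D.a2 (Subgroup.mem_sup_left ha2)).mul_left
        (show Commute u D.a2 from d.comm_commutator hu ha2).inv_left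
      rwa [mul_inv_cancel_right] at h2
    have hc : Commute s ⁅s, D.a2⁆ := D.sA3 _ D.v_mem
    have h3 := comm_zpow_left hc k
    rw [commutatorElement_eq_one_iff_commute.2 h1] at h3
    have := cast_eq_of_zpow_eq hvp hv (i := k) (j := 0) (by rw [zpow_zero]; exact h3.symm)
    simpa using this
  have hwA : s ^ k * u ∈ commutator G := by
    obtain ⟨q, rfl⟩ := (ZMod.intCast_zmod_eq_zero_iff_dvd k p).1 hk
    rw [zpow_mul, zpow_natCast]
    exact mul_mem (zpow_mem (d.pow_topC hs hsa (Subgroup.mem_sup_right (Subgroup.mem_zpowers s))) q) hu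
  obtain ⟨f, hf⟩ := D.gen2 _ hwA
  set b := (⁅s, d.e⁆ ^ f)⁻¹ * (s ^ k * u)
  have hb : b ∈ third G := hf
  have h1 : Commute (D.a2 ^ f) s := by
    have h2 := (hall s (Subgroup.mem_sup_right (Subgroup.mem_zpowers s))).mul_left
      (hsa b hb).symm.inv_left
    have e : s ^ k * u * b⁻¹ = D.a2 ^ f := by
      show s ^ k * u * b⁻¹ = ⁅s, d.e⁆ ^ f
      simp only [b]; group
    rwa [e] at h2
  have hc : Commute D.a2 ⁅D.a2, s⁆ := (D.commute_A3_A (D.comm_A _ D.se s) ha2).symm
  have h3 := comm_zpow_left hc f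
  rw [commutatorElement_eq_one_iff_commute.2 h1, show ⁅D.a2, s⁆ = D.v⁻¹ from
    (commutatorElement_inv _ _).symm, inv_zpow, eq_comm, inv_eq_one] at h3
  have hf0 : (f : ZMod p) = 0 := by
    have := cast_eq_of_zpow_eq hvp hv (i := f) (j := 0) (by rw [zpow_zero]; exact h3)
    simpa using this
  obtain ⟨q, rfl⟩ := (ZMod.intCast_zmod_eq_zero_iff_dvd f p).1 hf0
  have := mul_mem (zpow_mem D.pow2 q) hf
  rw [show ⁅D.s, D.e⁆ ^ ((p : ℤ) * q) = (⁅D.s, D.e⁆ ^ p) ^ q by rw [zpow_mul, zpow_natCast],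
    mul_inv_cancel_left] at this
  exact this

end PearlGroup

variable {Ω : Type u} [Group Ω] {S : Subgroup Ω} [Finite S] {F : FusionSystem S} {p : ℕ}
  [hp : Fact p.Prime] (h : Setup p S F)

include h

/-- No essential subgroup of order `p ^ 4` has three generators. -/
theorem not_essential_four (d : PearlGroup p S) {s : S} (hs : s ∉ d.N2)
    (hsa : ∀ a ∈ third S, Commute s a)
    (hv : (d.data hs hsa).v ∈ Subgroup.zpowers (d.data hs hsa).z) {P : Subgroup Ω}
    (hE : F.IsEssential p P) (hc : Nat.card P = p ^ 4) (hi : (frattini P).index = p ^ 3) : False := by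
  have hPS := hE.1.1
  haveI := finite_of_le hPS
  haveI := topC_normal (G := S) s
  obtain ⟨hAP, hPn⟩ := normal_of_card_four h hPS hc
  obtain ⟨hΦ, hΦc⟩ := frattini_central h hPS hc hi
  let φ : P →* S := Subgroup.inclusion hPS
  have hφ : Function.Injective φ := Subgroup.inclusion_injective hPS
  have hΦz : ∀ w : P, w ∈ frattini P ↔ φ w ∈ Subgroup.zpowers d.z := by
    have hle : (frattini P).map φ ≤ Subgroup.zpowers d.z := by
      rintro _ ⟨w, hw, rfl⟩
      exact d.center_le (Subgroup.mem_center_iff.2 fun g => Subtype.ext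
        (Subgroup.mem_centralizer_iff.1 (hΦ ⟨w, hw, rfl⟩).2 g g.2))
    have heq := Subgroup.eq_of_le_of_card_ge hle
      (by rw [Subgroup.card_map_of_injective hφ, hΦc, d.card_z])
    intro w
    rw [← heq, Subgroup.mem_map_iff_mem hφ]
  have hrange : ∀ g : S, g ∈ P.subgroupOf S → ∃ w : P, φ w = g := fun g hg => ⟨⟨g, hg⟩, rfl⟩
  have ha2m : ⁅s, d.e⁆ ∈ commutator S :=
    Subgroup.commutator_mem_commutator (Subgroup.mem_top _) (Subgroup.mem_top _)
  -- the subgroup centralises the third term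
  have hPC : P.subgroupOf S = topC s := by
    refine Subgroup.eq_of_le_of_card_ge (fun g hg => ?_) (by
      rw [d.card_C hs hsa, Nat.card_congr (Subgroup.subgroupOfEquivOfLe hPS).toEquiv, hc])
    obtain ⟨i, w, hw, rfl⟩ := exists_zpow_mul ((d.C_sup hs hsa).ge (Subgroup.mem_top g))
    by_cases hi0 : (i : ZMod p) = 0
    · rw [zpow_eq_one_of_cast d.ep hi0, one_mul]; exact hw
    exfalso
    obtain ⟨wg, hwg⟩ := hrange _ hg
    obtain ⟨wa, hwa⟩ := hrange _ (hAP ha2m)
    have h1 : ⁅⁅s, d.e⁆, d.e ^ i * w⁆ ∈ Subgroup.zpowers d.z := by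
      rw [← hwg, ← hwa, ← map_commutatorElement]
      exact (hΦz _).1 (Lib.PFrattini.commutator_le_frattini (h.hS.to_le hPS)
        (Subgroup.commutator_mem_commutator (Subgroup.mem_top _) (Subgroup.mem_top _)))
    let r := QuotientGroup.mk' (Subgroup.zpowers d.z)
    have h3 : ∀ g, Commute (r g) (r ⁅⁅s, d.e⁆, d.e⁆) := fun g =>
      (commute_mk (d.comm_third (comm_mem_third ha2m d.e) g)).symm
    obtain ⟨j, a', ha', rfl⟩ := exists_zpow_mul hw
    have hav : Commute (r ⁅s, d.e⁆) (r s) := by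
      refine commute_mk ?_
      rw [← commutatorElement_inv]
      exact inv_mem ((d.zpowers_z' hs hsa).le hv)
    have haw : Commute (r ⁅s, d.e⁆) (r (s ^ j * a')) := by
      rw [map_mul, map_zpow]
      exact (hav.zpow_right j).mul_right
        ((show Commute ⁅s, d.e⁆ a' from d.comm_commutator ha2m ha').map r)
    have h2 : r ⁅⁅s, d.e⁆, d.e ^ i * (s ^ j * a')⁆ = 1 := (QuotientGroup.eq_one_iff _).2 h1
    have h4 := comm_zpow (x := r ⁅s, d.e⁆) (y := r d.e) (by rw [← map_commutatorElement]; exact h3 _)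
      (by rw [← map_commutatorElement]; exact h3 _) 1 i
    rw [zpow_one, one_mul] at h4
    rw [map_commutatorElement, map_mul r (d.e ^ i), map_zpow, comm_mul_right haw, h4,
      ← map_commutatorElement, ← map_zpow] at h2
    exact hi0 (cast_eq_zero_of_zpow_mem ((d.zpowers_z' hs hsa).le (d.data hs hsa).pow3)
      (d.a3_notMem hs hsa) ((QuotientGroup.eq_one_iff _).1 h2))
  -- a single block
  set b := ⁅s⁻¹, d.e⁆ with hbdef
  set c := ⁅b⁻¹, d.e⁆ with hcdef
  have hbA : b ∈ commutator S := Subgroup.commutator_mem_commutator (Subgroup.mem_top _) (Subgroup.mem_top _)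
  have hb3 : b ∉ third S := fun hb => by
    refine d.a2_notMem hs hsa ?_
    have := inv_mem ((inferInstance : (third S).Normal).conj_mem b hb s)
    rwa [show (s * b * s⁻¹)⁻¹ = ⁅s, d.e⁆ by rw [hbdef, commutatorElement_def, commutatorElement_def]; group] at this
  have hc3 : c ∈ third S := comm_mem_third (inv_mem hbA) _
  have hcz : c ∉ Subgroup.zpowers d.z :=
    d.comm_e_notMem_z (inv_mem hbA) fun hh => hb3 (inv_inv b ▸ inv_mem hh)
  have hsP : s ∈ P.subgroupOf S := hPC.ge (Subgroup.mem_sup_right (Subgroup.mem_zpowers s))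
  obtain ⟨ws, hws⟩ := hrange _ hsP
  obtain ⟨wb, hwb⟩ := hrange _ (hAP hbA)
  obtain ⟨wc, hwc⟩ := hrange _ (hAP (third_le hc3))
  have heS : (d.e : Ω) ∈ S := d.e.2
  set ae := conjAut P (d.e : Ω) (hPn heS)
  have hae : ae ∈ autInducedBy S P := mem_autInducedBy_normalizer.2 ⟨d.e, hPn heS, heS, rfl⟩
  have hφa : ∀ w : P, φ (ae w) = d.e * φ w * d.e⁻¹ := fun w => Subtype.ext rfl
  have es : ae ws = ws * wb := hφ (by
    rw [hφa, map_mul, hws, hwb, hbdef, commutatorElement_def]; group)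
  have eb : ae wb = wb * wc := hφ (by
    rw [hφa, map_mul, hwb, hwc, hcdef, commutatorElement_def]; group)
  have ec : wc⁻¹ * ae wc ∈ frattini P := by
    rw [hΦz, map_mul, map_inv, hφa, hwc]
    have := d.comm_third (inv_mem hc3) d.e
    rwa [show c⁻¹ * (d.e * c * d.e⁻¹) = ⁅c⁻¹, d.e⁆ by rw [commutatorElement_def]; group]
  have hAeq : third S ⊔ Subgroup.zpowers b = commutator S := by
    refine Subgroup.eq_of_le_of_card_ge (sup_le third_le (Subgroup.zpowers_le.2 hbA)) ?_
    have := d.card_le_sup hb3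
    rwa [d.card_third, ← pow_succ, ← d.card_commutator] at this
  have h3eq : Subgroup.zpowers d.z ⊔ Subgroup.zpowers c = third S := d.third_eq hc3 hcz
  -- the coordinates
  have gen3 : ∀ w : P, φ w ∈ third S → ∃ k : ℤ, (w : P ⧸ frattini P) = (wc : P ⧸ frattini P) ^ k := by
    intro w hw
    rw [← h3eq] at hw
    obtain ⟨u, hu, v, hv', he⟩ := Subgroup.mem_sup_of_normal_left.1 hw
    obtain ⟨k, rfl⟩ := Subgroup.mem_zpowers_iff.1 hv'
    refine ⟨k, ?_⟩
    rw [← QuotientGroup.mk_zpow, QuotientGroup.eq, hΦz, map_mul, map_inv, map_zpow, hwc, ← he,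
      mul_inv_rev, (d.z_central (inv_mem hu) ((c ^ k)⁻¹)).eq, inv_mul_cancel_right]
    exact inv_mem hu
  have hinvz : ∀ (α : MulAut P) (w : P), φ w ∈ Subgroup.zpowers d.z → φ (α w) ∈ Subgroup.zpowers d.z :=
    fun α w hw => (hΦz _).1 (Subgroup.characteristic_iff_le_comap.1 frattini_characteristic α ((hΦz w).2 hw))
  have hinv3 : ∀ (α : MulAut P) (w : P), φ w ∈ third S → φ (α w) ∈ third S := by
    intro α w hw
    refine d.center_topC hs hsa (hPC.le (α w).2) fun x hx => ?_
    obtain ⟨wx, rfl⟩ := hrange _ (hPC.ge hx)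
    obtain ⟨wy, rfl⟩ := α.surjective wx
    have e : w * wy = wy * w := hφ (by
      rw [map_mul, map_mul]
      exact (d.C_commute hs hsa (hPC.le wy.2) hw).symm.eq)
    show φ (α w) * φ (α wy) = φ (α wy) * φ (α w)
    rw [← map_mul, ← map_mul, ← map_mul, ← map_mul, e]
  letI := quotCommGroup (h.hS.to_le hPS)
  have key : ∀ α ∈ F.autGroup P, ∃ j k : ℤ, quotHom P α (wb : P ⧸ frattini P) =
      (wb : P ⧸ frattini P) ^ j * (wc : P ⧸ frattini P) ^ k := by
    intro α hα
    have hhom := autInducedBy_le_autGroup (F := F) (P := P) hPS hae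
    refine preserve_of_jordan (p := p) h.hp2 (pow_quot (h.hS.to_le hPS))
      (A := (F.autGroup P).map (quotHom P))
      (fun x hx y hy => mem_zpowers_of_commute h.hS h.hF hE h.hp2 (Or.inr hi) hx hy)
      (a := quotHom P ae) (Subgroup.mem_map_of_mem _ hhom) ?_ (x1 := (ws : P ⧸ frattini P)) ?_ ?_ ?_
      ?_ ?_ ?_ ?_ (Subgroup.mem_map_of_mem _ hα)
    · rw [← map_pow]
      have : ae ^ p = 1 := by
        have h1 : conjAut P ((d.e : Ω) ^ p) (pow_mem (hPn heS) p) = ae ^ p := by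
          simp only [ae, conjAut]
          rw [← map_pow]
          exact congrArg _ (Subtype.ext rfl)
        rw [← h1]
        refine MulEquiv.ext fun w => Subtype.ext ?_
        rw [conjAut_apply, ← SubgroupClass.coe_pow, d.ep]
        simp
      rw [this, map_one]
    · rw [quotHom_mk, es, QuotientGroup.mk_mul]
    · rw [quotHom_mk, eb, QuotientGroup.mk_mul]
    · rw [quotHom_mk]
      exact (QuotientGroup.eq.2 ec).symm
    · intro hh
      obtain ⟨k, hk⟩ := Subgroup.mem_zpowers_iff.1 hh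
      rw [← QuotientGroup.mk_zpow, QuotientGroup.eq, hΦz, map_mul, map_inv, map_zpow, hwc, hwb] at hk
      refine hb3 ?_
      have := mul_mem (zpow_mem hc3 k) (Subgroup.zpowers_le.2 d.z_mem_third hk)
      rwa [mul_inv_cancel_left] at this
    · intro hh
      rw [QuotientGroup.eq_one_iff, hΦz, hwc] at hh
      exact hcz hh
    · intro v
      obtain ⟨w, rfl⟩ := QuotientGroup.mk_surjective v
      obtain ⟨i, u, hu, he⟩ := exists_zpow_mul (hPC.le w.2 : φ w ∈ commutator S ⊔ Subgroup.zpowers s)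
      rw [← hAeq] at hu
      obtain ⟨j, t, ht, rfl⟩ := exists_zpow_mul hu
      obtain ⟨wt, rfl⟩ := hrange t (hAP (third_le ht))
      obtain ⟨k, hk⟩ := gen3 wt ht
      refine ⟨i, j, k, ?_⟩
      rw [← hk, show w = ws ^ i * (wb ^ j * wt) from hφ (by
        rw [he, map_mul, map_mul, map_zpow, map_zpow, hws, hwb])]
      rw [QuotientGroup.mk_mul, QuotientGroup.mk_mul, QuotientGroup.mk_zpow, QuotientGroup.mk_zpow, mul_assoc]
    · rintro _ ⟨β, -, rfl⟩
      rw [quotHom_mk]
      obtain ⟨k, hk⟩ := gen3 (β wc) (hinv3 β wc (hwc.symm ▸ hc3))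
      exact Subgroup.mem_zpowers_iff.2 ⟨k, hk.symm⟩
  have hinvA : ∀ α ∈ F.autGroup P, ∀ w : P, φ w ∈ commutator S → φ (α w) ∈ commutator S := by
    intro α hα w hw
    have hb' : φ (α wb) ∈ commutator S := by
      obtain ⟨j, k, hjk⟩ := key α hα
      rw [quotHom_mk, ← QuotientGroup.mk_zpow, ← QuotientGroup.mk_zpow, ← QuotientGroup.mk_mul, eq_comm,
        QuotientGroup.eq, hΦz, map_mul, map_inv, map_mul, map_zpow, map_zpow, hwb, hwc] at hjk
      have := mul_mem (mul_mem (zpow_mem hbA j) (zpow_mem (third_le hc3) k))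
        (Subgroup.zpowers_le.2 d.z_mem hjk)
      rwa [mul_inv_cancel_left] at this
    rw [← hAeq] at hw
    obtain ⟨j, t, ht, he⟩ := exists_zpow_mul hw
    obtain ⟨wt, rfl⟩ := hrange t (hAP (third_le ht))
    rw [show w = wb ^ j * wt from hφ (by rw [he, map_mul, map_zpow, hwb]), map_mul, map_mul, map_zpow,
      map_zpow]
    exact mul_mem (zpow_mem hb' j) (third_le (hinv3 α wt ht))
  -- the invariant series
  have hrP : φ.range = P.subgroupOf S := le_antisymm (by rintro _ ⟨w, rfl⟩; exact w.2)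
    fun g hg => hrange g hg
  have hcm : ∀ K : Subgroup S, K ≤ P.subgroupOf S → (K.comap φ).map φ = K := fun K hK => by
    rw [Subgroup.map_comap_eq, hrP, inf_eq_right.2 hK]
  have lz : Subgroup.zpowers d.z ≤ P.subgroupOf S :=
    (Subgroup.zpowers_le.2 d.z_mem).trans hAP
  obtain ⟨wz, hwz⟩ := hrange d.z (lz (Subgroup.mem_zpowers _))
  have hj := Subgroup.map_injective hφ
  obtain ⟨C, hC⟩ := exists_chain ((Subgroup.zpowers d.z).comap φ) ((third S).comap φ)
    ((commutator S).comap φ) wz wc wb ws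
    (hj (by rw [MonoidHom.map_zpowers, hwz, hcm _ lz]))
    (hj (by rw [Subgroup.map_sup, MonoidHom.map_zpowers, hwc, hcm _ lz, hcm _ (third_le.trans hAP), h3eq]))
    (hj (by rw [Subgroup.map_sup, MonoidHom.map_zpowers, hwb, hcm _ (third_le.trans hAP), hcm _ hAP, hAeq]))
    (hj (by rw [Subgroup.map_sup, MonoidHom.map_zpowers, hws, hcm _ hAP, ← MonoidHom.range_eq_map, hrP,
      hPC]; rfl))
  refine false_of_chain h.hS hE C fun α hα i w hw => ?_
  rcases hC i with e | e | e | e | e <;> rw [e] at hw ⊢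
  · rw [Subgroup.mem_bot] at hw ⊢; rw [hw, map_one]
  · exact hinvz α w hw
  · exact hinv3 α w hw
  · exact hinvA α hα w hw
  · exact Subgroup.mem_top _

theorem pearl_case (hp7 : p ≠ 7) {R : Subgroup Ω} (hE : F.IsEssential p R)
    (hab : ∀ a b : R, a * b = b * a) (hexp : ∀ a : R, a ^ p = 1) (hc : Nat.card R = p ^ 2)
    {α : MulAut R} {w : R} (hw : (w : Ω) ∈ centralizerIn S S)
    (hαw : ((α w : R) : Ω) ∉ centralizerIn S S) : SplitConclusion p F := by
  obtain ⟨d, hR, hγ⟩ := exists_pearlGroup h hE hab hexp hc hw hαw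
  have tor : ∀ n m : ℤ, ((n * m : ℤ) : ZMod p) = 1 → ∃ δ ∈ F.autGroup S, δ d.z = d.z ^ n ∧
      δ d.e = d.e ^ m := by
    intro n m hnm
    obtain ⟨γ, hγm, g1, g2⟩ := hγ n m hnm
    obtain ⟨δ, hδ, hδx⟩ := pearl_torus h hE d hR hab hexp hγm
    have hmem : ∀ g ∈ d.R, (g : Ω) ∈ normalizerIn S R := fun g hg =>
      le_normalizerIn hE.1.1 (hR.ge (mem_up.2 hg))
    exact ⟨δ, hδ,
      Subtype.ext ((hδx _ (hmem _ (Subgroup.mem_sup_left (Subgroup.mem_zpowers _)))).trans (g1 _)),
      Subtype.ext ((hδx _ (hmem _ (Subgroup.mem_sup_right (Subgroup.mem_zpowers _)))).trans (g2 _))⟩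
  obtain ⟨s, hs, hsa⟩ := d.exists_s
  obtain ⟨β, hβ, b1, b2⟩ := tor (-1) (-1) (by simp)
  have hv := d.v_central hs hsa h.hp2 β b1 b2
  have hp3 : p = 3 := by
    obtain ⟨m, hm⟩ := exists_intCast (p := p) ((2 : ZMod p)⁻¹)
    have hnm : ((2 * m : ℤ) : ZMod p) = 1 := by
      push_cast; rw [hm, mul_inv_cancel₀ (two_ne_zero_zmod h.hp2)]
    obtain ⟨δ, hδ, d1, d2⟩ := tor 2 m hnm
    exact d.eq_three hs hsa hp7 hv hnm δ d1 d2
  refine ⟨?_, fun P hP hc4 hi3 => (not_essential_four h d hs hsa hv hP hc4 hi3).elim⟩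
  haveI := topC_normal (G := S) s
  refine exists_split h.hS h.hF h.hp2 le_rfl (fun x hx => d.pow_topC hs hsa hx)
    (Subgroup.mem_sup_right (Subgroup.mem_zpowers s) : s ∈ topC s) (d.s_notMem hs hsa) le_sup_left
    (fun α _ a ha => Subgroup.characteristic_iff_le_comap.1
      (inferInstance : (commutator S).Characteristic) α ha)
    (fun α _ x hx => d.fix_topC hs hsa hp3 hv α hx) hβ ?_
  letI : CommGroup (S ⧸ topC s) := { (inferInstance : Group (S ⧸ topC s)) with
    mul_comm := fun u v => QuotientGroup.induction_on u fun a => QuotientGroup.induction_on v fun b =>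
      (commute_mk (K := topC s) (show ⁅a, b⁆ ∈ topC s from Subgroup.mem_sup_left (Subgroup.commutator_mem_commutator (Subgroup.mem_top a)
        (Subgroup.mem_top b)))).eq }
  let q := QuotientGroup.mk' (topC s)
  let f : S →* S ⧸ topC s := q.comp β.toMonoidHom * q
  suffices hker : f.ker = ⊤ from fun g => by
    have : f g = 1 := MonoidHom.mem_ker.1 (hker ▸ Subgroup.mem_top g)
    exact (QuotientGroup.eq_one_iff _).1 (by rw [← this]; rfl)
  rw [eq_top_iff, ← d.C_sup hs hsa]
  refine sup_le (fun x hx => MonoidHom.mem_ker.2 ?_) (Subgroup.zpowers_le.2 (MonoidHom.mem_ker.2 ?_))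
  · show q (β x) * q x = 1
    rw [show q x = 1 from (QuotientGroup.eq_one_iff _).2 hx,
      show q (β x) = 1 from (QuotientGroup.eq_one_iff _).2 (d.aut_topC hs hsa β hx), one_mul]
  · show q (β d.e) * q d.e = 1
    rw [b2, zpow_neg_one, map_inv, inv_mul_cancel]

end Cfsg.Agent.Lib.FusionOrderFive
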