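import Cfsg.Agent.Lib.FusionOrderFive.PearlGroup
import Cfsg.Agent.Lib.FusionOrderFive.Lift

/-!
The torus of an essential subgroup of order `p ^ 2` extends to the whole group.
-/

set_option autoImplicit false
set_option linter.unusedSectionVars false

namespace Cfsg.Agent.Lib.FusionOrderFive

open Cfsg Cfsg.FusionSystem Cfsg.Agent.Lib.Fusion Cfsg.Agent.Lib.Fusion87
open scoped commutatorElement

universe u

variable {Ω : Type u} [Group Ω] {S : Subgroup Ω}

/-- The image of a subgroup of the group `S` in the ambient group. -/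
abbrev up (X : Subgroup S) : Subgroup Ω := X.map S.subtype

theorem up_le (X : Subgroup S) : up X ≤ S := Subgroup.map_subtype_le X

theorem mem_up {X : Subgroup S} {g : S} : (g : Ω) ∈ up X ↔ g ∈ X :=
  Subgroup.mem_map_iff_mem S.subtype_injective

theorem card_up (X : Subgroup S) : Nat.card (up X) = Nat.card X :=
  Subgroup.card_map_of_injective S.subtype_injective

theorem normalizerIn_up_of_normal (X : Subgroup S) [hn : X.Normal] : normalizerIn S (up X) = S := by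
  refine le_antisymm inf_le_left fun g hg => ⟨hg, Subgroup.mem_normalizer_iff.2 fun u => ?_⟩
  have key : ∀ g ∈ S, ∀ u ∈ up X, g * u * g⁻¹ ∈ up X := by
    rintro g hg _ ⟨d, hd, rfl⟩
    exact ⟨⟨g, hg⟩ * d * ⟨g, hg⟩⁻¹, hn.conj_mem d hd _, rfl⟩
  exact ⟨key g hg u, fun hu => by simpa [mul_assoc] using key g⁻¹ (S.inv_mem hg) _ hu⟩

variable [Finite S] {F : FusionSystem S} {p : ℕ} [hp : Fact p.Prime] (h : Setup p S F)

include h

theorem exists_pearlGroup {R : Subgroup Ω} (hE : F.IsEssential p R) (hab : ∀ a b : R, a * b = b * a)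
    (hexp : ∀ a : R, a ^ p = 1) (hc : Nat.card R = p ^ 2) {α : MulAut R} {w : R}
    (hw : (w : Ω) ∈ centralizerIn S S) (hαw : ((α w : R) : Ω) ∉ centralizerIn S S) :
    ∃ d : PearlGroup p S, R = up d.R ∧
      ∀ n m : ℤ, ((n * m : ℤ) : ZMod p) = 1 → ∃ γ ∈ F.autGroup (normalizerIn S R),
        (∀ hx, (γ ⟨d.z, hx⟩ : Ω) = ((d.z ^ n : S) : Ω)) ∧
          ∀ hx, (γ ⟨d.e, hx⟩ : Ω) = ((d.e ^ m : S) : Ω) := by
  have hRS := hE.1.1
  haveI := finite_of_le hRS
  haveI := finite_normalizerIn (S := S) R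
  have hab' : ∀ a ∈ R, ∀ b ∈ R, Commute a b := fun a ha b hb =>
    congrArg Subtype.val (hab ⟨a, ha⟩ ⟨b, hb⟩)
  have hexp' : ∀ a ∈ R, a ^ p = 1 := fun a ha => congrArg Subtype.val (hexp ⟨a, ha⟩)
  haveI : Finite (centralizerIn S S) := finite_of_le (S := S) inf_le_left
  have hZR : centralizerIn S S < R := lt_of_le_of_ne (center_le_of_centric h hE.1) fun e =>
    hαw (e.ge (α w).2)
  have hZc : Nat.card (centralizerIn S S) = p := by
    obtain ⟨k, -, hk⟩ := exists_card h (A := centralizerIn S S) inf_le_left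
    have h1 := card_mul_le h hRS hZR
    rw [hc, hk, ← pow_succ, Nat.pow_le_pow_iff_right hp.out.one_lt] at h1
    have hk0 : k ≠ 0 := fun h0 => center_ne_bot h (Subgroup.card_eq_one.1 (by rw [hk, h0, pow_zero]))
    rw [hk, show k = 1 by omega, pow_one]
  obtain ⟨z, hzZ, hz1⟩ := (centralizerIn S S).bot_or_exists_ne_one.resolve_left (center_ne_bot h)
  have hzR : z ∈ R := hZR.le hzZ
  have hzc : ∀ g ∈ S, Commute z g := fun g hg => (Subgroup.mem_centralizer_iff.1 hzZ.2 g hg).symm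
  obtain ⟨x, hxN, hxR⟩ := SetLike.exists_of_lt (lt_normalizerIn h.hS
    (lt_of_le_of_ne hRS (AbelianMaximal.ne_of_isEssential h.hS h.hF hE)))
  have hxz : x * z * x⁻¹ = z := by rw [← (hzc x hxN.1).eq, mul_inv_cancel_right]
  have hmove : ∀ v : R, ∃ i : ℤ, x * (v : Ω) * x⁻¹ = v * z ^ i := by
    intro v
    set N := normalizerIn S R
    have hRN : R ≤ N := le_normalizerIn hRS
    have hzN : Subgroup.zpowers z ≤ N := Subgroup.zpowers_le.2 (hRN hzR)
    haveI : (R.subgroupOf N).Normal := ⟨fun a ha g => (Subgroup.mem_normalizer_iff.1 g.2.2 a).1 ha⟩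
    haveI : ((Subgroup.zpowers z).subgroupOf N).Normal := ⟨fun a ha g => by
      obtain ⟨k, hk⟩ := Subgroup.mem_zpowers_iff.1 (Subgroup.mem_subgroupOf.1 ha)
      have e : g * a = a * g := Subtype.ext (by
        show (g : Ω) * a = a * g
        rw [← hk]; exact ((hzc g g.2.1).zpow_left k).eq.symm)
      rwa [e, mul_inv_cancel_right]⟩
    have h1 := Lib.NormalElem.commutator_mem_of_index_le (G := N) (p := p) (h.hS.to_le inf_le_left)
      (K := (Subgroup.zpowers z).subgroupOf N) (A := R.subgroupOf N)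
      (by rw [Nat.card_congr (Subgroup.subgroupOfEquivOfLe hRN).toEquiv,
        Nat.card_congr (Subgroup.subgroupOfEquivOfLe hzN).toEquiv, hc, Nat.card_zpowers,
        orderOf_eq_prime (hexp' z hzR) hz1, sq])
      (fun a ha => (Subgroup.zpowers_le.2 hzR) (Subgroup.mem_subgroupOf.1 ha)) ⟨x, hxN⟩
      (a := ⟨v, hRN v.2⟩) v.2
    obtain ⟨i, hi⟩ := Subgroup.mem_zpowers_iff.1 (Subgroup.mem_subgroupOf.1 h1)
    refine ⟨i, ?_⟩
    have hi' : z ^ i = x * v * x⁻¹ * (v : Ω)⁻¹ := hi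
    rw [((hzc v (hRS v.2)).zpow_left i).symm.eq, hi', inv_mul_cancel_right]
  obtain ⟨e, t', -, hez, -, htor⟩ := exists_torus_elem h.hS h.hF hE h.hp2 hab hexp (Or.inl hc)
    hxN.1 hxN.2 hxR (z := ⟨z, hzR⟩) hxz hmove
  have hez' : (e : Ω) ∉ Subgroup.zpowers z := fun he => hez (by
    obtain ⟨k, hk⟩ := Subgroup.mem_zpowers_iff.1 he
    exact Subgroup.mem_zpowers_iff.2 ⟨k, Subtype.ext hk⟩)
  have heR : R = Subgroup.zpowers z ⊔ Subgroup.zpowers (e : Ω) := by
    refine (Subgroup.eq_of_le_of_card_ge (sup_le (Subgroup.zpowers_le.2 hzR)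
      (Subgroup.zpowers_le.2 e.2)) ?_).symm
    have := card_mul_le h ((sup_le (Subgroup.zpowers_le.2 hzR) (Subgroup.zpowers_le.2 e.2)).trans hRS)
      (lt_of_le_of_ne le_sup_left fun e' => hez' (e'.ge (Subgroup.mem_sup_right (Subgroup.mem_zpowers _)))
        : Subgroup.zpowers z < Subgroup.zpowers z ⊔ Subgroup.zpowers (e : Ω))
    rwa [Nat.card_zpowers, orderOf_eq_prime (hexp' z hzR) hz1, ← sq, ← hc] at this
  have hRup : R = up (Subgroup.zpowers (⟨z, hRS hzR⟩ : S) ⊔ Subgroup.zpowers (⟨e, hRS e.2⟩ : S)) := by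
    rw [up, Subgroup.map_sup, MonoidHom.map_zpowers, MonoidHom.map_zpowers]
    exact heR
  refine ⟨{
    hG := h.hcard
    hno := fun A hA hcA => h.hno (A.map S.subtype) (Subgroup.map_subtype_le A)
      (by rintro _ ⟨a, ha, rfl⟩ _ ⟨b, hb, rfl⟩; rw [← map_mul, ← map_mul, hA a ha b hb])
      (by rw [Subgroup.card_map_of_injective S.subtype_injective, hcA])
    z := ⟨z, hRS hzR⟩
    e := ⟨e, hRS e.2⟩
    zc := fun g => Subtype.ext (hzc g g.2).eq
    zp := Subtype.ext (hexp' z hzR)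
    z1 := fun e => hz1 (congrArg Subtype.val e)
    ep := Subtype.ext (hexp' e e.2)
    ez := fun hh => hez' (by
      obtain ⟨k, hk⟩ := Subgroup.mem_zpowers_iff.1 hh
      exact Subgroup.mem_zpowers_iff.2 ⟨k, congrArg Subtype.val hk⟩)
    hC := fun y hy => by
      refine mem_up.1 (hRup.le (centralizerIn_le_of_isCentric hE.1 ⟨y.2, ?_⟩))
      have hle : R ≤ Subgroup.centralizer ({(y : Ω)} : Set Ω) := by
        rw [heR]
        refine sup_le (Subgroup.zpowers_le.2 ?_) (Subgroup.zpowers_le.2 ?_)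
        · rw [Subgroup.mem_centralizer_singleton_iff]; exact (hzc y y.2).eq
        · rw [Subgroup.mem_centralizer_singleton_iff]; exact (congrArg Subtype.val hy.eq).symm
      exact fun v hv => Subgroup.mem_centralizer_singleton_iff.1 (hle hv) }, hRup, ?_⟩
  intro n m hnm
  obtain ⟨β, hβ, b1, b2, -, b4⟩ := htor n m hnm
  obtain ⟨γ, hγ, hγx⟩ := exists_extend h.hS h.hF hE.2.1 hβ b4
  refine ⟨γ, hγ, fun hx => ?_, fun hx => ?_⟩
  · exact (hγx ⟨z, hzR⟩ hx).trans (by rw [b1]; rfl)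
  · exact (hγx e hx).trans (by rw [b2]; rfl)

/-- Extension along a series of subgroups of the group `S`. -/
theorem extend_of_series {X Y : Subgroup S} (hfn : F.IsFullyNormalized (up X))
    (hY : normalizerIn S (up X) = up Y) (K₁ K₂ K₃ : Subgroup S) [K₁.Normal] [K₂.Normal] [K₃.Normal]
    {y₁ y₂ y₃ y₄ : S} (h1 : Subgroup.zpowers y₁ = K₁) (h2 : K₁ ⊔ Subgroup.zpowers y₂ = K₂)
    (h3 : K₂ ⊔ Subgroup.zpowers y₃ = K₃) (h4 : K₃ ⊔ Subgroup.zpowers y₄ = X)
    (hinv : ∀ a ∈ F.autGroup (up X), ∀ K ∈ [K₁, K₂, K₃], ∀ (v : S) (hv : (v : Ω) ∈ up X), v ∈ K →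
      ∃ w ∈ K, ((a ⟨v, hv⟩ : up X) : Ω) = w)
    {γ : MulAut (up X)} (hγ : γ ∈ F.autGroup (up X)) :
    ∃ δ ∈ F.autGroup (up Y), ∀ (x : Ω) (hx : x ∈ up X) (hx' : x ∈ up Y),
      (δ ⟨x, hx'⟩ : Ω) = γ ⟨x, hx⟩ := by
  have hXS := up_le X
  haveI := finite_of_le hXS
  haveI := finite_normalizerIn (S := S) (up X)
  let φ : up X →* S := Subgroup.inclusion hXS
  have hinj : Function.Injective φ := Subgroup.inclusion_injective hXS
  have hrange : φ.range = X := le_antisymm (by rintro _ ⟨w, rfl⟩; exact mem_up.1 w.2)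
    fun g hg => ⟨⟨g, mem_up.2 hg⟩, rfl⟩
  have hcm : ∀ K : Subgroup S, K ≤ X → (K.comap φ).map φ = K := fun K hK => by
    rw [Subgroup.map_comap_eq, hrange, inf_eq_right.2 hK]
  have l3 : K₃ ≤ X := h4 ▸ le_sup_left
  have l2 : K₂ ≤ X := le_trans (h3 ▸ le_sup_left) l3
  have l1 : K₁ ≤ X := le_trans (h2 ▸ le_sup_left) l2
  have my : ∀ {K : Subgroup S} {y : S}, y ∈ K → K ≤ X → ∃ w : up X, φ w = y := fun {K y} hy hK =>
    ⟨⟨y, mem_up.2 (hK hy)⟩, rfl⟩
  obtain ⟨w₁, e1⟩ := my (h1 ▸ Subgroup.mem_zpowers y₁) l1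
  obtain ⟨w₂, e2⟩ := my (h2 ▸ Subgroup.mem_sup_right (Subgroup.mem_zpowers y₂)) l2
  obtain ⟨w₃, e3⟩ := my (h3 ▸ Subgroup.mem_sup_right (Subgroup.mem_zpowers y₃)) l3
  obtain ⟨w₄, e4⟩ := my (h4 ▸ Subgroup.mem_sup_right (Subgroup.mem_zpowers y₄)) le_rfl
  have hj := Subgroup.map_injective hinj
  obtain ⟨C, hC⟩ := exists_chain (K₁.comap φ) (K₂.comap φ) (K₃.comap φ) w₁ w₂ w₃ w₄
    (hj (by rw [MonoidHom.map_zpowers, e1, hcm _ l1, h1]))
    (hj (by rw [Subgroup.map_sup, MonoidHom.map_zpowers, e2, hcm _ l1, hcm _ l2, h2]))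
    (hj (by rw [Subgroup.map_sup, MonoidHom.map_zpowers, e3, hcm _ l2, hcm _ l3, h3]))
    (hj (by rw [Subgroup.map_sup, MonoidHom.map_zpowers, e4, hcm _ l3, h4, ← MonoidHom.range_eq_map,
      hrange]))
  have hi : ∀ a ∈ F.autGroup (up X), ∀ i, ∀ v ∈ C.K i, a v ∈ C.K i := by
    intro a ha i v hv
    have key : ∀ K ∈ [K₁, K₂, K₃], v ∈ K.comap φ → a v ∈ K.comap φ := by
      intro K hK hvK
      obtain ⟨w, hw, he⟩ := hinv a ha K hK (φ v) v.2 hvK
      show φ (a v) ∈ K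
      rwa [show φ (a v) = w from Subtype.ext he]
    rcases hC i with e | e | e | e | e <;> rw [e] at hv ⊢
    · rw [Subgroup.mem_bot] at hv ⊢; rw [hv, map_one]
    · exact key _ (by simp) hv
    · exact key _ (by simp) hv
    · exact key _ (by simp) hv
    · exact Subgroup.mem_top _
  obtain ⟨δ', hδ', hδx⟩ := exists_extend_of_chain h.hS h.hF hfn C hi hγ
  obtain ⟨δ, hδ, hcast⟩ := aut_cast hY hδ'
  exact ⟨δ, hδ, fun x hx hx' => (hcast x (hY.ge hx') hx').trans (hδx ⟨x, hx⟩ _)⟩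

/-- The torus on `S`. -/
theorem pearl_torus {R : Subgroup Ω} (hE : F.IsEssential p R) (d : PearlGroup p S) (hR : R = up d.R)
    (hab : ∀ a b : R, a * b = b * a) (hexp : ∀ a : R, a ^ p = 1)
    {γ : MulAut (normalizerIn S R)} (hγ : γ ∈ F.autGroup (normalizerIn S R)) :
    ∃ δ ∈ F.autGroup S, ∀ (g : S) (hg : (g : Ω) ∈ normalizerIn S R), (δ g : Ω) = γ ⟨g, hg⟩ := by
  subst hR
  have hRS := hE.1.1
  haveI := finite_normalizerIn (S := S) (up d.R)
  have hN : up d.N1 = normalizerIn S (up d.R) := by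
    refine Subgroup.eq_of_le_of_card_ge ?_ ?_
    · intro v hv
      obtain ⟨g, hg, rfl⟩ := hv
      refine ⟨g.2, Subgroup.mem_normalizer_iff.2 fun r => ?_⟩
      have key : ∀ g ∈ d.N1, ∀ r ∈ up d.R, (g : Ω) * r * (g : Ω)⁻¹ ∈ up d.R := by
        rintro g hg _ ⟨r, hr, rfl⟩
        exact ⟨g * r * g⁻¹, d.N1_normalises_R hg hr, rfl⟩
      exact ⟨key g hg r, fun hr => by
        simpa [mul_assoc] using key g⁻¹ (d.N1.inv_mem hg) _ hr⟩
    · rw [card_normalizer h.hS h.hF hE h.hp2 hab hexp (Or.inl (by rw [card_up, d.card_R])), card_up,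
        card_up, d.card_R, d.card_N1, ← pow_succ]
  obtain ⟨γ₁, hγ₁, hγ₁x⟩ := aut_cast hN.symm hγ
  obtain ⟨a₀, ha₀, ha₀z, ha₀e⟩ := d.exists_move
  have hcen : ∀ (X : Subgroup S), X ≤ d.N2 → d.e ∈ X → third S ≤ X →
      ∀ a ∈ F.autGroup (up X), ∀ (v : S) (hv : (v : Ω) ∈ up X), v ∈ Subgroup.zpowers d.z →
        ∃ w ∈ Subgroup.zpowers d.z, ((a ⟨v, hv⟩ : up X) : Ω) = w := by
    intro X hX heX h3X a ha v hv hvz
    refine ⟨⟨_, up_le X (a ⟨v, hv⟩).2⟩, ?_, rfl⟩
    have hall : ∀ u ∈ X, Commute (⟨_, up_le X (a ⟨v, hv⟩).2⟩ : S) u := by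
      intro u hu
      obtain ⟨⟨u', hu'⟩, hae⟩ := a.surjective ⟨u, mem_up.2 hu⟩
      have e1 : (⟨v, hv⟩ : up X) * ⟨u', hu'⟩ = ⟨u', hu'⟩ * ⟨v, hv⟩ := Subtype.ext
        (show (v : Ω) * u' = u' * v from congrArg Subtype.val
          (d.z_central hvz ⟨u', up_le X hu'⟩).symm.eq)
      have e2 := congrArg (fun x => ((a x : up X) : Ω)) e1
      simp only [map_mul, Subgroup.coe_mul, hae] at e2
      exact Subtype.ext e2
    exact d.center_N1 (hX (mem_up.1 (a ⟨v, hv⟩).2)) (hall _ heX) fun b hb => hall b (h3X hb)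
  have hR3 : Subgroup.zpowers d.z ⊔ Subgroup.zpowers a₀ = third S := d.third_eq ha₀ ha₀z
  have hN1N2 : d.N1 ≤ d.N2 := sup_le (third_le.trans le_sup_left) le_sup_right
  haveI hn2 : (Subgroup.zpowers d.z).Normal := inferInstance
  -- bound on the normalisers of the conjugates
  have hbound : ∀ Q, F.IsConj (up d.N1) Q → Nat.card (normalizerIn S Q) ≤ p ^ 4 := by
    intro Q hQ
    have hQS : Q ≤ S := isConj_le_right hQ
    by_contra hlt
    obtain ⟨k, hk5, hk⟩ := exists_card h (A := normalizerIn S Q) inf_le_left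
    rw [not_le, hk, Nat.pow_lt_pow_iff_right hp.out.one_lt] at hlt
    haveI := finite_normalizerIn (S := S) Q
    have heq : normalizerIn S Q = S :=
      Subgroup.eq_of_le_of_card_ge inf_le_left (by rw [h.hcard, hk, show k = 5 by omega])
    set Q' := Q.subgroupOf S
    haveI : Q'.Normal := ⟨fun v hv g =>
      (Subgroup.mem_normalizer_iff.1 (heq.ge g.2).2 (v : Ω)).1 hv⟩
    have hQc : Nat.card Q' = p ^ 3 := by
      rw [Nat.card_congr (Subgroup.subgroupOfEquivOfLe hQS).toEquiv, isConj_card hQ, card_up, d.card_N1]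
    have hidx : Q'.index = p ^ 2 := by
      have h1 := Q'.card_mul_index
      rw [hQc, h.hcard, show p ^ 5 = p ^ 3 * p ^ 2 by ring] at h1
      exact Nat.eq_of_mul_eq_mul_left (pow_pos hp.out.pos 3) h1
    have hcQ : commutator S = Q' := Subgroup.eq_of_le_of_card_ge (by
      rw [commutator_def, Subgroup.commutator_le]
      intro a _ b _
      exact comm_mem_of_commute_mk (IsPGroup.commutative_of_card_eq_prime_sq (G := S ⧸ Q')
        (by rw [← hidx]; rfl) _ _)) (by rw [hQc, d.card_commutator])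
    obtain ⟨ψ, hψ, hr⟩ := hQ
    let za : up d.N1 := ⟨a₀, mem_up.2 (Subgroup.mem_sup_left ha₀)⟩
    let ze : up d.N1 := ⟨d.e, mem_up.2 (Subgroup.mem_sup_right (Subgroup.mem_zpowers _))⟩
    have hm : ∀ u : up d.N1, (⟨ψ u, val_mem hψ u⟩ : S) ∈ commutator S := fun u => by
      rw [hcQ]; exact hr.le ⟨u, rfl⟩
    have h2 : ψ (za * ze) = ψ (ze * za) := by
      rw [map_mul, map_mul]
      exact congrArg Subtype.val (d.comm_commutator (hm za) (hm ze))
    have h3 := congrArg Subtype.val (F.injective_of_mem hψ h2)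
    refine d.z1 ?_
    rw [← ha₀e, commutatorElement_eq_one_iff_commute]
    exact Subtype.ext h3
  have hfn1 : F.IsFullyNormalized (up d.N1) := by
    haveI := finite_normalizerIn (S := S) (up d.N1)
    have hge : up d.N2 ≤ normalizerIn S (up d.N1) := by
      rintro _ ⟨g, hg, rfl⟩
      refine ⟨g.2, Subgroup.mem_normalizer_iff.2 fun w => ?_⟩
      have key : ∀ g ∈ d.N2, ∀ w ∈ up d.N1, (g : Ω) * w * (g : Ω)⁻¹ ∈ up d.N1 := by
        rintro g hg _ ⟨w, hw, rfl⟩
        exact ⟨g * w * g⁻¹, d.N2_normalises_N1 hg hw, rfl⟩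
      exact ⟨key g hg w, fun hw => by simpa [mul_assoc] using key g⁻¹ (d.N2.inv_mem hg) _ hw⟩
    refine ⟨up_le _, fun Q hQ => (hbound Q hQ).trans ?_⟩
    rw [← d.card_N2, ← card_up]
    exact Subgroup.card_le_of_le hge
  have hY1 : normalizerIn S (up d.N1) = up d.N2 := by
    haveI := finite_normalizerIn (S := S) (up d.N1)
    refine (Subgroup.eq_of_le_of_card_ge ?_ ?_).symm
    · rintro _ ⟨g, hg, rfl⟩
      refine ⟨g.2, Subgroup.mem_normalizer_iff.2 fun w => ?_⟩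
      have key : ∀ g ∈ d.N2, ∀ w ∈ up d.N1, (g : Ω) * w * (g : Ω)⁻¹ ∈ up d.N1 := by
        rintro g hg _ ⟨w, hw, rfl⟩
        exact ⟨g * w * g⁻¹, d.N2_normalises_N1 hg hw, rfl⟩
      exact ⟨key g hg w, fun hw => by simpa [mul_assoc] using key g⁻¹ (d.N2.inv_mem hg) _ hw⟩
    · rw [card_up, d.card_N2]; exact hbound _ (isConj_refl (up_le _))
  obtain ⟨γ₂, hγ₂, hγ₂x⟩ := extend_of_series h hfn1 hY1 (Subgroup.zpowers d.z) (third S) (third S)
    (y₁ := d.z) (y₂ := a₀) (y₃ := 1) (y₄ := d.e) rfl hR3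
    (by rw [Subgroup.zpowers_one_eq_bot, sup_bot_eq]) rfl (by
      intro a ha K hK v hv hvK
      simp only [List.mem_cons, List.not_mem_nil, or_false] at hK
      rcases hK with rfl | rfl | rfl
      · exact hcen _ hN1N2 (Subgroup.mem_sup_right (Subgroup.mem_zpowers _)) le_sup_left a ha v hv hvK
      all_goals
        refine ⟨⟨_, up_le _ (a ⟨v, hv⟩).2⟩, ?_, rfl⟩
        by_contra hav
        have hDN : up (third S) ≤ up d.N1 := Subgroup.map_mono le_sup_left
        have hm := autGroup_hom_mem (up_le d.N1) ha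
        haveI := finite_of_le (up_le d.N1)
        set Q := imgSub (autHom a) (up (third S)) with hQ
        have hQc : Nat.card Q = p ^ 2 := by
          rw [hQ, card_imgSub (F.injective_of_mem hm) hDN, card_up, d.card_third]
        obtain ⟨g, b, hg⟩ := d.exists_conj (mem_up.1 (a ⟨v, hv⟩).2 :
          (⟨_, up_le _ (a ⟨v, hv⟩).2⟩ : S) ∈ d.N1) hav
        have hvQ : ((a ⟨v, hv⟩ : up d.N1) : Ω) ∈ Q := mem_imgSub.2 ⟨⟨v, hv⟩, mem_up.2 hvK, rfl⟩
        have hzQ : ∀ u ∈ Subgroup.zpowers d.z, (u : Ω) ∈ Q := by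
          intro u hu
          have huX : (u : Ω) ∈ up d.N1 :=
            mem_up.2 (Subgroup.mem_sup_left (Subgroup.zpowers_le.2 d.z_mem_third hu))
          obtain ⟨w, hw, he⟩ := hcen _ hN1N2 (Subgroup.mem_sup_right (Subgroup.mem_zpowers _)) le_sup_left
            a⁻¹ (inv_mem ha) u huX hu
          refine mem_imgSub.2 ⟨a⁻¹ ⟨u, huX⟩, ?_, ?_⟩
          · rw [he]; exact mem_up.2 (Subgroup.zpowers_le.2 d.z_mem_third hw)
          · rw [autHom_apply, MulAut.apply_inv_self]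
        have hgQ : ((g * d.e * g⁻¹ : S) : Ω) ∈ Q := by
          rw [hg, SubgroupClass.coe_zpow]; exact Q.zpow_mem hvQ b
        have hle : (up d.R).map (MulAut.conj (g : Ω)).toMonoidHom ≤ Q := by
          rintro _ ⟨_, ⟨r, hr, rfl⟩, rfl⟩
          obtain ⟨i, j, rfl⟩ := d.R_form hr
          show (g : Ω) * ((d.z ^ i * d.e ^ j : S) : Ω) * (g : Ω)⁻¹ ∈ Q
          have e' : (g : Ω) * ((d.z ^ i * d.e ^ j : S) : Ω) * (g : Ω)⁻¹ =
              ((d.z ^ i : S) : Ω) * ((g * d.e * g⁻¹ : S) : Ω) ^ j := by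
            simp only [Subgroup.coe_mul, SubgroupClass.coe_zpow, Subgroup.coe_inv]
            have hc : Commute ((d.z : Ω) ^ i) (g : Ω) := ((d.zc g).map S.subtype).zpow_left i
            rw [conj_zpow, ← mul_assoc (g : Ω) ((d.z : Ω) ^ i), hc.symm.eq]
            simp only [mul_assoc]
          rw [e']
          exact Q.mul_mem (hzQ _ (zpow_mem (Subgroup.mem_zpowers _) i)) (Q.zpow_mem hgQ j)
        haveI : Finite Q := finite_of_le ((imgSub_le_range _).trans (range_le hm))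
        have heq : (up d.R).map (MulAut.conj (g : Ω)).toMonoidHom = Q := Subgroup.eq_of_le_of_card_ge hle
          (by rw [hQc, Subgroup.card_map_of_injective (MulAut.conj (g : Ω)).injective, card_up, d.card_R])
        have hRQ : F.IsConj (up d.R) Q := ⟨conjHom (up d.R) g, F.conj_mem hRS g.2, by
          rw [← heq, conjHom, MonoidHom.range_comp, Subgroup.range_subtype]⟩
        have hfin := hE.2.1.2 _ (isConj_trans hRQ (isConj_symm (isConj_imgSub hm hDN)))
        rw [normalizerIn_up_of_normal, ← hN, card_up, d.card_N1, h.hcard,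
          Nat.pow_le_pow_iff_right hp.out.one_lt] at hfin
        omega) hγ₁
  obtain ⟨u, hu, hu3⟩ := SetLike.exists_of_lt d.third_lt
  have hAeq : third S ⊔ Subgroup.zpowers u = commutator S := by
    refine Subgroup.eq_of_le_of_card_ge (sup_le third_le (Subgroup.zpowers_le.2 hu)) ?_
    have := d.card_le_sup hu3
    rwa [d.card_third, ← pow_succ, ← d.card_commutator] at this
  have hY2 : normalizerIn S (up d.N2) = S := normalizerIn_up_of_normal _
  have hY2' : normalizerIn S (up d.N2) = up (⊤ : Subgroup S) := by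
    rw [hY2, up, ← MonoidHom.range_eq_map, Subgroup.range_subtype]
  have h3inv : ∀ a ∈ F.autGroup (up d.N2), ∀ (v : S) (hv : (v : Ω) ∈ up d.N2), v ∈ third S →
      ∃ w ∈ third S, ((a ⟨v, hv⟩ : up d.N2) : Ω) = w := by
    intro a _ v hv hvK
    obtain ⟨b, hb, rfl⟩ := d.exists_comm_third hvK
    let wb : up d.N2 := ⟨b, mem_up.2 (Subgroup.mem_sup_left hb)⟩
    let we : up d.N2 := ⟨d.e, mem_up.2 (Subgroup.mem_sup_right (Subgroup.mem_zpowers _))⟩
    refine ⟨⁅(⟨_, up_le _ (a wb).2⟩ : S), ⟨_, up_le _ (a we).2⟩⁆,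
      d.comm_N2 (mem_up.1 (a wb).2) (mem_up.1 (a we).2), ?_⟩
    rw [show (⟨(⁅b, d.e⁆ : S), hv⟩ : up d.N2) = ⁅wb, we⁆ from Subtype.ext rfl, map_commutatorElement]
    rfl
  obtain ⟨γ₃, hγ₃, hγ₃x⟩ := extend_of_series h ⟨up_le _, fun Q _ => by
      rw [hY2]; exact Subgroup.card_le_of_le inf_le_left⟩ hY2'
    (Subgroup.zpowers d.z) (third S) (commutator S) (y₁ := d.z) (y₂ := a₀) (y₃ := u) (y₄ := d.e)
    rfl hR3 hAeq rfl (by
      intro a ha K hK v hv hvK
      simp only [List.mem_cons, List.not_mem_nil, or_false] at hK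
      rcases hK with rfl | rfl | rfl
      · exact hcen _ le_rfl (Subgroup.mem_sup_right (Subgroup.mem_zpowers _))
          (third_le.trans le_sup_left) a ha v hv hvK
      · exact h3inv a ha v hv hvK
      · refine ⟨⟨_, up_le _ (a ⟨v, hv⟩).2⟩, d.mem_commutator_of_commute (mem_up.1 (a ⟨v, hv⟩).2)
          (fun b hb => ?_), rfl⟩
        have hbX : (b : Ω) ∈ up d.N2 := mem_up.2 (Subgroup.mem_sup_left (third_le hb))
        obtain ⟨b', hb', he⟩ := h3inv a⁻¹ (inv_mem ha) b hbX hb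
        have hb'X : (b' : Ω) ∈ up d.N2 := mem_up.2 (Subgroup.mem_sup_left (third_le hb'))
        have e1 : a ⟨b', hb'X⟩ = ⟨b, hbX⟩ := by
          rw [show (⟨b', hb'X⟩ : up d.N2) = a⁻¹ ⟨b, hbX⟩ from Subtype.ext he.symm,
            MulAut.apply_inv_self]
        have e2 : (⟨v, hv⟩ : up d.N2) * ⟨b', hb'X⟩ = ⟨b', hb'X⟩ * ⟨v, hv⟩ :=
          Subtype.ext (show (v : Ω) * (b' : Ω) = b' * v from
            congrArg Subtype.val (d.commute_third hb' hvK).symm.eq)
        have e3 := congrArg (fun x => ((a x : up d.N2) : Ω)) e2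
        simp only [map_mul, Subgroup.coe_mul, e1] at e3
        exact Subtype.ext e3) hγ₂
  have hT : up (⊤ : Subgroup S) = S := by rw [up, ← MonoidHom.range_eq_map, Subgroup.range_subtype]
  obtain ⟨δ, hδ, hδx⟩ := aut_cast hT hγ₃
  refine ⟨δ, hδ, fun g hg => ?_⟩
  have hg1 : (g : Ω) ∈ up d.N1 := hN.ge hg
  have hg2 : (g : Ω) ∈ up d.N2 := Subgroup.map_mono hN1N2 hg1
  exact ((hδx g (mem_up.2 (Subgroup.mem_top g)) g.2).trans (hγ₃x g hg2 _)).trans
    ((hγ₂x g hg1 hg2).trans (hγ₁x g hg hg1))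

end Cfsg.Agent.Lib.FusionOrderFive
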