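import Cfsg.Agent.Lib.FusionOrderFive.CubeWeights

/-!
A group of order `p ^ 5` without abelian maximal subgroups containing an element whose centraliser
has order `p ^ 2`.
-/

set_option autoImplicit false
set_option linter.unusedSectionVars false

namespace Cfsg.Agent.Lib.FusionOrderFive

open scoped commutatorElement

/-- The group around the subgroup `⟨z, e⟩`. -/
structure PearlGroup (p : ℕ) (G : Type*) [Group G] where
  hG : Nat.card G = p ^ 5
  hno : ∀ A : Subgroup G, (∀ a ∈ A, ∀ b ∈ A, a * b = b * a) → Nat.card A ≠ p ^ 4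
  z : G
  e : G
  zc : ∀ g : G, Commute z g
  zp : z ^ p = 1
  z1 : z ≠ 1
  ep : e ^ p = 1
  ez : e ∉ Subgroup.zpowers z
  hC : ∀ y : G, Commute y e → y ∈ Subgroup.zpowers z ⊔ Subgroup.zpowers e

/-- The lower central terms. -/
def third (G : Type*) [Group G] : Subgroup G := ⁅commutator G, (⊤ : Subgroup G)⁆

instance {G : Type*} [Group G] : (third G).Normal := by unfold third; infer_instance

theorem third_le {G : Type*} [Group G] : third G ≤ commutator G :=
  Subgroup.commutator_le_left _ _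

theorem comm_mem_third {G : Type*} [Group G] {a : G} (ha : a ∈ commutator G) (g : G) :
    ⁅a, g⁆ ∈ third G := Subgroup.commutator_mem_commutator ha (Subgroup.mem_top g)

theorem eq_bot_of_le_commutator_top {p : ℕ} [Fact p.Prime] {G : Type*} [Group G] [Finite G]
    (hG : IsPGroup p G) {K : Subgroup G} (h : K ≤ ⁅K, (⊤ : Subgroup G)⁆) : K = ⊥ := by
  have key : ∀ n, K ≤ (⊤ : Subgroup G).lowerCentralSeries n := by
    intro n
    induction n with
    | zero => simp
    | succ n ih =>
      rw [Subgroup.lowerCentralSeries_succ]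
      exact h.trans (Subgroup.commutator_mono ih le_rfl)
  obtain ⟨n, hn⟩ := Subgroup.nilpotent_iff_lowerCentralSeries.1 hG.isNilpotent
  exact le_bot_iff.1 (hn ▸ key n)

/-- Powers of the elements of a subgroup fall into a normal subgroup of index `p`. -/
theorem pow_mem_of_card {p : ℕ} [hp : Fact p.Prime] {G : Type*} [Group G] [Finite G] {K A : Subgroup G}
    [K.Normal] (hKA : K ≤ A) (h : Nat.card A = Nat.card K * p) {x : G} (hx : x ∈ A) : x ^ p ∈ K := by
  have hidx : (K.subgroupOf A).index = p := by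
    have h1 := (K.subgroupOf A).card_mul_index
    rw [Nat.card_congr (Subgroup.subgroupOfEquivOfLe hKA).toEquiv, h] at h1
    exact Nat.eq_of_mul_eq_mul_left Nat.card_pos h1
  have := Subgroup.pow_index_mem (K.subgroupOf A) ⟨x, hx⟩
  rw [hidx] at this
  exact this

/-- Adding an element of order `p` to a normal subgroup multiplies the order by at most `p`. -/
theorem card_sup_le {p : ℕ} [hp : Fact p.Prime] {G : Type*} [Group G] [Finite G] (K : Subgroup G)
    [K.Normal] {x : G} (hx : x ^ p ∈ K) :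
    Nat.card (K ⊔ Subgroup.zpowers x : Subgroup G) ≤ Nat.card K * p := by
  set q := QuotientGroup.mk' K
  have hmap : (K ⊔ Subgroup.zpowers x).map q = Subgroup.zpowers (q x) := by
    rw [Subgroup.map_sup, MonoidHom.map_zpowers, QuotientGroup.map_mk'_self, bot_sup_eq]
  have e := (q.comp (K ⊔ Subgroup.zpowers x).subtype).ker.card_mul_index
  rw [Subgroup.index_ker, MonoidHom.range_comp, Subgroup.range_subtype, hmap, ← MonoidHom.comap_ker,
    QuotientGroup.ker_mk'] at e
  change Nat.card (K.subgroupOf _) * _ = _ at e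
  rw [Nat.card_congr (Subgroup.subgroupOfEquivOfLe le_sup_left).toEquiv] at e
  rw [← e, Nat.card_zpowers]
  refine Nat.mul_le_mul_left _ (orderOf_le_of_pow_eq_one hp.out.pos ?_)
  rw [← map_pow]
  exact (QuotientGroup.eq_one_iff _).2 hx

/-- The maximal subgroup on `s`. -/
def topC {G : Type*} [Group G] (s : G) : Subgroup G := commutator G ⊔ Subgroup.zpowers s

theorem topC_normal {G : Type*} [Group G] (s : G) : (topC s).Normal :=
  Subgroup.Normal.of_commutator_le _ le_sup_left

namespace PearlGroup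

variable {p : ℕ} [hp : Fact p.Prime] {G : Type*} [Group G] [Finite G] (d : PearlGroup p G)
include d

instance : (Subgroup.zpowers d.z).Normal :=
  normal_of_le_center' (Subgroup.zpowers_le.2 (Subgroup.mem_center_iff.2 fun g => (d.zc g).eq.symm))

theorem isPGroup : IsPGroup p G := IsPGroup.of_card d.hG

theorem z_central {w : G} (hw : w ∈ Subgroup.zpowers d.z) (g : G) : Commute g w := by
  obtain ⟨k, rfl⟩ := Subgroup.mem_zpowers_iff.1 hw
  exact ((d.zc g).zpow_left k).symm

theorem card_le_mul {A B : Subgroup G} (hlt : A < B) : Nat.card A * p ≤ Nat.card B := by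
  obtain ⟨i, hi⟩ := IsPGroup.iff_card.1 (d.isPGroup.to_subgroup A)
  obtain ⟨j, hj⟩ := IsPGroup.iff_card.1 (d.isPGroup.to_subgroup B)
  have hlt' : Nat.card A < Nat.card B := lt_of_le_of_ne (Subgroup.card_le_of_le hlt.le) fun e =>
    hlt.ne (Subgroup.eq_of_le_of_card_ge hlt.le e.ge)
  rw [hi, hj, Nat.pow_lt_pow_iff_right hp.out.one_lt] at hlt'
  rw [hi, hj, ← pow_succ]
  exact Nat.pow_le_pow_right hp.out.pos hlt'

theorem card_le_sup {A : Subgroup G} {x : G} (hx : x ∉ A) :
    Nat.card A * p ≤ Nat.card (A ⊔ Subgroup.zpowers x : Subgroup G) :=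
  d.card_le_mul (lt_of_le_of_ne le_sup_left fun e =>
    hx (e.ge (Subgroup.mem_sup_right (Subgroup.mem_zpowers x))))

/-- The subgroup of order `p ^ 2`. -/
def R : Subgroup G := Subgroup.zpowers d.z ⊔ Subgroup.zpowers d.e

theorem card_z : Nat.card (Subgroup.zpowers d.z) = p := by
  rw [Nat.card_zpowers, orderOf_eq_prime d.zp d.z1]

theorem card_R : Nat.card d.R = p ^ 2 := by
  refine le_antisymm ?_ ?_
  · have := card_sup_le (p := p) (Subgroup.zpowers d.z) (x := d.e) (by rw [d.ep]; exact one_mem _)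
    rwa [d.card_z, ← sq] at this
  · have := d.card_le_sup d.ez
    rwa [d.card_z, ← sq] at this

theorem R_form {y : G} (hy : y ∈ d.R) : ∃ i j : ℤ, y = d.z ^ i * d.e ^ j := by
  obtain ⟨u, hu, v, hv, rfl⟩ := Subgroup.mem_sup_of_normal_left.1 hy
  obtain ⟨i, rfl⟩ := Subgroup.mem_zpowers_iff.1 hu
  obtain ⟨j, rfl⟩ := Subgroup.mem_zpowers_iff.1 hv
  exact ⟨i, j, rfl⟩

theorem commute_R {y : G} (hy : y ∈ d.R) : Commute y d.e := by
  obtain ⟨i, j, rfl⟩ := d.R_form hy
  exact ((d.zc d.e).zpow_left i).mul_left ((Commute.refl d.e).zpow_left j)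

theorem mem_R_of_comm {y y' : G} (h : ⁅y, d.e⁆ = ⁅y', d.e⁆) : y⁻¹ * y' ∈ d.R := by
  refine d.hC _ ?_
  rw [commutatorElement_def, commutatorElement_def, mul_left_inj] at h
  show y⁻¹ * y' * d.e = d.e * (y⁻¹ * y')
  calc y⁻¹ * y' * d.e = y⁻¹ * (y' * d.e * y'⁻¹) * y' := by group
    _ = y⁻¹ * (y * d.e * y⁻¹) * y' := by rw [h]
    _ = d.e * (y⁻¹ * y') := by group

theorem index_R : d.R.index = p ^ 3 := by
  have h1 := d.R.card_mul_index
  rw [d.card_R, d.hG, show p ^ 5 = p ^ 2 * p ^ 3 by ring] at h1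
  exact Nat.eq_of_mul_eq_mul_left (pow_pos hp.out.pos 2) h1

/-- The commutator map by `e` on cosets. -/
noncomputable def commMap (q : G ⧸ d.R) : commutator G :=
  ⟨⁅q.out, d.e⁆, Subgroup.commutator_mem_commutator (Subgroup.mem_top _) (Subgroup.mem_top _)⟩

theorem commMap_injective : Function.Injective d.commMap := fun q q' h => by
  rw [← QuotientGroup.out_eq' q, ← QuotientGroup.out_eq' q']
  exact QuotientGroup.eq.2 (d.mem_R_of_comm (congrArg Subtype.val h))

theorem nonabelian : ∃ a b : G, a * b ≠ b * a := by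
  by_contra hall
  push Not at hall
  have htop : (⊤ : Subgroup G) ≤ d.R := fun y _ => d.hC y (hall y d.e)
  have h := Subgroup.card_le_of_le htop
  rw [Subgroup.card_top, d.hG, d.card_R, Nat.pow_le_pow_iff_right hp.out.one_lt] at h
  omega

theorem card_commutator : Nat.card (commutator G) = p ^ 3 := by
  refine le_antisymm ?_ ?_
  · obtain ⟨i, hi⟩ := IsPGroup.iff_card.1 (d.isPGroup.to_subgroup (commutator G))
    by_contra hlt
    rw [not_le, hi, Nat.pow_lt_pow_iff_right hp.out.one_lt] at hlt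
    have hΦ := Lib.PFrattini.commutator_le_frattini d.isPGroup
    have hne : commutator G ≠ ⊤ := fun e => by
      have hb : (⊥ : Subgroup G) = ⊤ := frattini_nongenerating (by
        rw [bot_sup_eq]; exact top_le_iff.1 (e.ge.trans hΦ))
      obtain ⟨a, b, hab⟩ := d.nonabelian
      have ha := Subgroup.mem_bot.1 (hb.symm ▸ Subgroup.mem_top a : a ∈ (⊥ : Subgroup G))
      rw [ha, one_mul, mul_one] at hab
      exact hab rfl
    obtain ⟨g, hg⟩ : ∃ g, g ∉ commutator G := by
      by_contra hall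
      push Not at hall
      exact hne (eq_top_iff.2 fun g _ => hall g)
    have htop : commutator G ⊔ Subgroup.zpowers g = ⊤ := by
      refine Subgroup.eq_top_of_card_eq _ (le_antisymm (Subgroup.card_le_card_group _) ?_)
      refine le_trans ?_ (d.card_le_sup hg)
      rw [hi, d.hG, ← pow_succ]
      exact Nat.pow_le_pow_right hp.out.pos (by omega)
    have hz : Subgroup.zpowers g = ⊤ := frattini_nongenerating
      (top_le_iff.1 (htop.ge.trans (sup_le (hΦ.trans le_sup_right) le_sup_left)))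
    obtain ⟨a, b, hab⟩ := d.nonabelian
    obtain ⟨r, rfl⟩ := Subgroup.mem_zpowers_iff.1 (hz.ge (Subgroup.mem_top a))
    obtain ⟨t, rfl⟩ := Subgroup.mem_zpowers_iff.1 (hz.ge (Subgroup.mem_top b))
    exact hab ((Commute.refl g).zpow_zpow r t).eq
  · rw [← d.index_R]
    exact Nat.card_le_card_of_injective _ d.commMap_injective

theorem exists_comm {a : G} (ha : a ∈ commutator G) : ∃ y : G, ⁅y, d.e⁆ = a := by
  have hbij : Function.Bijective d.commMap := by
    rw [Nat.bijective_iff_injective_and_card]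
    exact ⟨d.commMap_injective, by rw [d.card_commutator]; exact d.index_R⟩
  obtain ⟨q, hq⟩ := hbij.2 ⟨a, ha⟩
  exact ⟨q.out, congrArg Subtype.val hq⟩

theorem e_notMem : d.e ∉ commutator G := fun he => by
  obtain ⟨y, hy⟩ := d.exists_comm (inv_mem he)
  rw [commutatorElement_def, mul_eq_right, conj_eq_one_iff] at hy
  exact d.ez (hy ▸ one_mem _)

theorem center_le : Subgroup.center G ≤ Subgroup.zpowers d.z := by
  intro g hg
  obtain ⟨i, j, rfl⟩ := d.R_form (d.hC g (Subgroup.mem_center_iff.1 hg d.e).symm)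
  by_cases hj : (j : ZMod p) = 0
  · rw [zpow_eq_one_of_cast d.ep hj, mul_one]
    exact zpow_mem (Subgroup.mem_zpowers _) i
  exfalso
  have hej : d.e ^ j ∈ Subgroup.center G := by
    have := mul_mem (inv_mem (zpow_mem (Subgroup.mem_center_iff.2 fun h => (d.zc h).eq.symm :
      d.z ∈ Subgroup.center G) i)) hg
    rwa [inv_mul_cancel_left] at this
  have he : d.e ∈ Subgroup.center G := by
    by_contra h
    exact hj (cast_eq_zero_of_zpow_mem (by rw [d.ep]; exact one_mem _) h hej)
  obtain ⟨a, b, hab⟩ := d.nonabelian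
  have hall : ∀ y, y ∈ d.R := fun y => d.hC y (Subgroup.mem_center_iff.1 he y)
  obtain ⟨i1, j1, rfl⟩ := d.R_form (hall a)
  exact hab ((((d.zc b).zpow_left i1).mul_left
    ((show Commute d.e b from (Subgroup.mem_center_iff.1 he b).symm).zpow_left j1))).eq

theorem z_mem_of_ne_bot {N : Subgroup G} [N.Normal] (h : N ≠ ⊥) : d.z ∈ N := by
  obtain ⟨w, hwN, hwc, hw1⟩ := Lib.Critical.exists_center_mem d.isPGroup h
  obtain ⟨k, rfl⟩ := Subgroup.mem_zpowers_iff.1 (d.center_le hwc)
  by_contra hz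
  exact hw1 (zpow_eq_one_of_cast d.zp
    (cast_eq_zero_of_zpow_mem (by rw [d.zp]; exact one_mem _) hz hwN))

theorem z_mem : d.z ∈ commutator G := d.z_mem_of_ne_bot fun e => by
  have := d.card_commutator
  rw [e, Subgroup.card_bot] at this
  exact absurd this (Nat.one_lt_pow (by norm_num) hp.out.one_lt).ne

theorem mem_z_of_commutator {u : G} (hu : u ∈ commutator G) (hR : u ∈ d.R) : u ∈ Subgroup.zpowers d.z := by
  obtain ⟨i, j, rfl⟩ := d.R_form hR
  by_cases hj : (j : ZMod p) = 0
  · rw [zpow_eq_one_of_cast d.ep hj, mul_one]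
    exact zpow_mem (Subgroup.mem_zpowers _) i
  exfalso
  have hej : d.e ^ j ∈ commutator G := by
    have := mul_mem (inv_mem (zpow_mem d.z_mem i)) hu
    rwa [inv_mul_cancel_left] at this
  exact hj (cast_eq_zero_of_zpow_mem (by rw [d.ep]; exact one_mem _) d.e_notMem hej)

/-- On a normal subgroup meeting `R` in the centre the commutators with `e` fill the next term. -/
theorem comm_image {N M : Subgroup G} (hN : N ≤ commutator G) (hzN : d.z ∈ N)
    (hmem : ∀ a ∈ N, ⁅a, d.e⁆ ∈ M) :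
    Nat.card N ≤ p * Nat.card M ∧
      (Nat.card N = p * Nat.card M → ∀ m ∈ M, ∃ a ∈ N, ⁅a, d.e⁆ = m) := by
  set K := (Subgroup.zpowers d.z).subgroupOf N
  have hKc : Nat.card K = p := by
    rw [Nat.card_congr (Subgroup.subgroupOfEquivOfLe (Subgroup.zpowers_le.2 hzN)).toEquiv, d.card_z]
  let f : N ⧸ K → M := fun q => ⟨⁅(q.out : G), d.e⁆, hmem _ q.out.2⟩
  have hf : Function.Injective f := fun q q' h => by
    rw [← QuotientGroup.out_eq' q, ← QuotientGroup.out_eq' q']
    refine QuotientGroup.eq.2 (d.mem_z_of_commutator ?_ (d.mem_R_of_comm (congrArg Subtype.val h)))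
    exact hN (N.mul_mem (N.inv_mem q.out.2) q'.out.2)
  have h1 := K.card_mul_index
  rw [hKc] at h1
  have h2 : Nat.card (N ⧸ K) ≤ Nat.card M := Nat.card_le_card_of_injective _ hf
  refine ⟨h1 ▸ Nat.mul_le_mul_left p h2, fun heq m hm => ?_⟩
  have hbij : Function.Bijective f := by
    rw [Nat.bijective_iff_injective_and_card]
    exact ⟨hf, Nat.eq_of_mul_eq_mul_left hp.out.pos (h1.trans heq)⟩
  obtain ⟨q, hq⟩ := hbij.2 ⟨m, hm⟩
  exact ⟨q.out, q.out.2, congrArg Subtype.val hq⟩

theorem third_lt : third G < commutator G := lt_of_le_of_ne third_le fun e => by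
  have hb := eq_bot_of_le_commutator_top d.isPGroup (K := commutator G) e.ge
  have := d.card_commutator
  rw [hb, Subgroup.card_bot] at this
  exact absurd this (Nat.one_lt_pow (by norm_num) hp.out.one_lt).ne

theorem card_third : Nat.card (third G) = p ^ 2 := by
  have h1 := (d.comm_image (N := commutator G) (M := third G) le_rfl d.z_mem
    fun a ha => comm_mem_third ha _).1
  have h2 := d.card_le_mul d.third_lt
  rw [d.card_commutator, pow_succ'] at h1
  rw [d.card_commutator, pow_succ] at h2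
  exact le_antisymm (Nat.le_of_mul_le_mul_right h2 hp.out.pos) (Nat.le_of_mul_le_mul_left h1 hp.out.pos)

theorem exists_comm_third {a : G} (ha : a ∈ third G) : ∃ b ∈ commutator G, ⁅b, d.e⁆ = a :=
  (d.comm_image (N := commutator G) (M := third G) le_rfl d.z_mem fun a ha => comm_mem_third ha _).2
    (by rw [d.card_commutator, d.card_third, pow_succ']) a ha

theorem z_mem_third : d.z ∈ third G := d.z_mem_of_ne_bot fun e => by
  have := d.card_third
  rw [e, Subgroup.card_bot] at this
  exact absurd this (Nat.one_lt_pow (by norm_num) hp.out.one_lt).ne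

theorem comm_third {a : G} (ha : a ∈ third G) (g : G) : ⁅a, g⁆ ∈ Subgroup.zpowers d.z := by
  rw [← commutatorElement_inv]
  refine inv_mem ?_
  rw [commutatorElement_def]
  exact Lib.NormalElem.commutator_mem_of_index_le d.isPGroup
    (by rw [d.card_third, d.card_z, sq]) (Subgroup.zpowers_le.2 d.z_mem_third) g ha

theorem exists_comm_z {w : G} (hw : w ∈ Subgroup.zpowers d.z) : ∃ a ∈ third G, ⁅a, d.e⁆ = w :=
  (d.comm_image (N := third G) (M := Subgroup.zpowers d.z) third_le d.z_mem_third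
    fun a ha => d.comm_third ha _).2 (by rw [d.card_third, d.card_z, sq]) w hw

theorem commute_third {a u : G} (ha : a ∈ third G) (hu : u ∈ commutator G) : Commute a u := by
  have hle : commutator G ≤ Subgroup.centralizer ({a} : Set G) := by
    rw [commutator_def, Subgroup.commutator_le]
    intro b _ c _
    rw [Subgroup.mem_centralizer_singleton_iff]
    have hfix : ∀ x, ∃ w ∈ Subgroup.zpowers d.z, a * x * a⁻¹ = x * w := fun x => by
      refine ⟨⁅a, x⁆, d.comm_third ha x, ?_⟩
      rw [(d.z_central (d.comm_third ha x) x).eq, commutatorElement_def]; group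
    obtain ⟨w1, hw1, e1⟩ := hfix b
    obtain ⟨w2, hw2, e2⟩ := hfix c
    have e3 : a * ⁅b, c⁆ * a⁻¹ = ⁅b, c⁆ := by
      rw [show a * ⁅b, c⁆ * a⁻¹ = ⁅a * b * a⁻¹, a * c * a⁻¹⁆ by
        simp only [commutatorElement_def]; group, e1, e2,
        comm_mul_left (d.z_central hw1 _).symm, comm_mul_right (d.z_central hw2 _)]
    exact (mul_inv_eq_iff_eq_mul.1 e3).symm
  exact (Subgroup.mem_centralizer_singleton_iff.1 (hle hu)).symm

theorem comm_commutator {a b : G} (ha : a ∈ commutator G) (hb : b ∈ commutator G) : a * b = b * a := by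
  obtain ⟨u, hu, hu'⟩ := SetLike.exists_of_lt d.third_lt
  have heq : third G ⊔ Subgroup.zpowers u = commutator G := by
    refine Subgroup.eq_of_le_of_card_ge (sup_le third_le (Subgroup.zpowers_le.2 hu)) ?_
    have := d.card_le_sup hu'
    rwa [d.card_third, ← pow_succ, ← d.card_commutator] at this
  rw [← heq] at ha hb
  obtain ⟨a1, ha1, w1, hw1, rfl⟩ := Subgroup.mem_sup_of_normal_left.1 ha
  obtain ⟨b1, hb1, w2, hw2, rfl⟩ := Subgroup.mem_sup_of_normal_left.1 hb
  obtain ⟨i, rfl⟩ := Subgroup.mem_zpowers_iff.1 hw1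
  obtain ⟨j, rfl⟩ := Subgroup.mem_zpowers_iff.1 hw2
  exact ((((d.commute_third ha1 (third_le hb1)).mul_right
    ((d.commute_third ha1 hu).zpow_right j)).mul_left
    (((d.commute_third hb1 hu).zpow_right i).symm.mul_right ((Commute.refl u).zpow_zpow i j)))).eq

/-- A generator of the third term moved by `e`. -/
theorem exists_move : ∃ a, a ∈ third G ∧ a ∉ Subgroup.zpowers d.z ∧ ⁅a, d.e⁆ = d.z := by
  obtain ⟨a, ha, he⟩ := d.exists_comm_z (Subgroup.mem_zpowers d.z)
  refine ⟨a, ha, fun hz => d.z1 ?_, he⟩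
  rw [← he, commutatorElement_eq_one_iff_commute]
  exact (d.z_central hz d.e).symm

theorem third_eq {a : G} (ha : a ∈ third G) (haz : a ∉ Subgroup.zpowers d.z) :
    Subgroup.zpowers d.z ⊔ Subgroup.zpowers a = third G := by
  refine Subgroup.eq_of_le_of_card_ge
    (sup_le (Subgroup.zpowers_le.2 d.z_mem_third) (Subgroup.zpowers_le.2 ha)) ?_
  have := d.card_le_sup haz
  rwa [d.card_z, ← sq, ← d.card_third] at this

/-- The normaliser of `R`. -/
def N1 : Subgroup G := third G ⊔ Subgroup.zpowers d.e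

/-- The normaliser of `N1`. -/
def N2 : Subgroup G := commutator G ⊔ Subgroup.zpowers d.e

instance : d.N2.Normal := Subgroup.Normal.of_commutator_le _ le_sup_left

theorem card_N1 : Nat.card d.N1 = p ^ 3 := by
  refine le_antisymm ?_ ?_
  · have := card_sup_le (p := p) (third G) (x := d.e) (by rw [d.ep]; exact one_mem _)
    rwa [d.card_third, ← pow_succ] at this
  · have := d.card_le_sup (fun h => d.e_notMem (third_le h))
    rwa [d.card_third, ← pow_succ] at this

theorem card_N2 : Nat.card d.N2 = p ^ 4 := by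
  refine le_antisymm ?_ ?_
  · have := card_sup_le (p := p) (commutator G) (x := d.e) (by rw [d.ep]; exact one_mem _)
    rwa [d.card_commutator, ← pow_succ] at this
  · have := d.card_le_sup d.e_notMem
    rwa [d.card_commutator, ← pow_succ] at this

theorem R_le_N1 : d.R ≤ d.N1 :=
  sup_le ((Subgroup.zpowers_le.2 d.z_mem_third).trans le_sup_left) le_sup_right

theorem N1_normalises_R {g : G} (hg : g ∈ d.N1) {r : G} (hr : r ∈ d.R) : g * r * g⁻¹ ∈ d.R := by
  obtain ⟨a, ha, w, hw, rfl⟩ := Subgroup.mem_sup_of_normal_left.1 hg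
  obtain ⟨i, rfl⟩ := Subgroup.mem_zpowers_iff.1 hw
  have e : a * d.e ^ i * r * (a * d.e ^ i)⁻¹ = ⁅a, r⁆ * r := by
    rw [show a * d.e ^ i * r = a * r * d.e ^ i by
      rw [mul_assoc, ((d.commute_R hr).zpow_right i).symm.eq, mul_assoc], commutatorElement_def]
    group
  rw [e]
  exact mul_mem (Subgroup.mem_sup_left (d.comm_third ha r)) hr

theorem N2_normalises_N1 {g : G} (hg : g ∈ d.N2) {w : G} (hw : w ∈ d.N1) : g * w * g⁻¹ ∈ d.N1 := by
  obtain ⟨a, ha, u, hu, rfl⟩ := Subgroup.mem_sup_of_normal_left.1 hw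
  obtain ⟨i, rfl⟩ := Subgroup.mem_zpowers_iff.1 hu
  rw [← conj_mul, ← conj_zpow]
  refine mul_mem (Subgroup.mem_sup_left ((inferInstance : (third G).Normal).conj_mem a ha g)) (zpow_mem ?_ i)
  obtain ⟨v, hv, t, ht, rfl⟩ := Subgroup.mem_sup_of_normal_left.1 hg
  obtain ⟨k, rfl⟩ := Subgroup.mem_zpowers_iff.1 ht
  rw [show v * d.e ^ k * d.e * (v * d.e ^ k)⁻¹ = ⁅v, d.e⁆ * d.e by
    rw [commutatorElement_def]; group]
  exact mul_mem (Subgroup.mem_sup_left (comm_mem_third hv _)) (Subgroup.mem_sup_right (Subgroup.mem_zpowers _))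

theorem exists_conj {w : G} (hw : w ∈ d.N1) (hw' : w ∉ third G) :
    ∃ (g : G) (b : ℤ), g * d.e * g⁻¹ = w ^ b := by
  obtain ⟨a, ha, u, hu, rfl⟩ := Subgroup.mem_sup_of_normal_left.1 hw
  obtain ⟨i, rfl⟩ := Subgroup.mem_zpowers_iff.1 hu
  obtain ⟨a', b, hab⟩ := (Nat.prime_iff_prime_int.1 hp.out).coprime_iff_not_dvd.2
    (show ¬ (p : ℤ) ∣ i by
      rintro ⟨q, rfl⟩
      refine hw' ?_
      rw [zpow_mul, zpow_natCast, d.ep, one_zpow, mul_one]
      exact ha)
  have h1 : (a * d.e ^ i) ^ b * d.e⁻¹ ∈ third G := by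
    rw [← QuotientGroup.ker_mk' (third G), MonoidHom.mem_ker, map_mul, map_zpow, map_mul, map_zpow,
      map_inv, show QuotientGroup.mk' (third G) a = 1 from (QuotientGroup.eq_one_iff _).2 ha, one_mul,
      ← zpow_mul, mul_inv_eq_one]
    conv_rhs => rw [← zpow_one (QuotientGroup.mk' (third G) d.e), ← hab, zpow_add, mul_comm a' (p : ℤ),
      zpow_mul _ (p : ℤ) a', zpow_natCast, ← map_pow, d.ep, map_one, one_zpow, one_mul, mul_comm b i]
  obtain ⟨g, -, hg⟩ := d.exists_comm_third h1
  refine ⟨g, b, ?_⟩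
  rw [commutatorElement_def, mul_left_inj] at hg
  exact hg

theorem center_N1 {w : G} (hw : w ∈ d.N2) (he : Commute w d.e)
    (ha : ∀ a ∈ third G, Commute w a) : w ∈ Subgroup.zpowers d.z := by
  obtain ⟨i, j, rfl⟩ := d.R_form (d.hC w he)
  by_cases hj : (j : ZMod p) = 0
  · rw [zpow_eq_one_of_cast d.ep hj, mul_one]
    exact zpow_mem (Subgroup.mem_zpowers _) i
  exfalso
  obtain ⟨a, ha3, -, hae⟩ := d.exists_move
  refine d.z1 ?_
  rw [← hae, commutatorElement_eq_one_iff_commute]
  have h1 : Commute (d.e ^ j) a := by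
    have := (((d.zc a).zpow_left i).inv_left).mul_left (ha a ha3)
    rwa [inv_mul_cancel_left] at this
  have h2 : d.e ∈ Subgroup.centralizer ({a} : Set G) := by
    by_contra h
    exact hj (cast_eq_zero_of_zpow_mem (by rw [d.ep]; exact one_mem _) h
      (Subgroup.mem_centralizer_singleton_iff.2 h1.eq))
  exact (Subgroup.mem_centralizer_singleton_iff.1 h2).symm

theorem mem_commutator_of_commute {w : G} (hw : w ∈ d.N2) (ha : ∀ a ∈ third G, Commute w a) :
    w ∈ commutator G := by
  obtain ⟨v, hv, u, hu, rfl⟩ := Subgroup.mem_sup_of_normal_left.1 hw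
  obtain ⟨j, rfl⟩ := Subgroup.mem_zpowers_iff.1 hu
  by_cases hj : (j : ZMod p) = 0
  · rw [zpow_eq_one_of_cast d.ep hj, mul_one]; exact hv
  exfalso
  obtain ⟨a, ha3, -, hae⟩ := d.exists_move
  refine d.z1 ?_
  rw [← hae, commutatorElement_eq_one_iff_commute]
  have h1 : Commute (d.e ^ j) a := by
    have := ((d.commute_third ha3 hv).symm.inv_left).mul_left (ha a ha3)
    rwa [inv_mul_cancel_left] at this
  have h2 : d.e ∈ Subgroup.centralizer ({a} : Set G) := by
    by_contra h
    exact hj (cast_eq_zero_of_zpow_mem (by rw [d.ep]; exact one_mem _) h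
      (Subgroup.mem_centralizer_singleton_iff.2 h1.eq))
  exact (Subgroup.mem_centralizer_singleton_iff.1 h2).symm

theorem comm_N2 {a b : G} (ha : a ∈ d.N2) (hb : b ∈ d.N2) : ⁅a, b⁆ ∈ third G := by
  refine comm_mem_of_commute_mk ?_
  obtain ⟨v, hv, u, hu, rfl⟩ := Subgroup.mem_sup_of_normal_left.1 ha
  obtain ⟨j, rfl⟩ := Subgroup.mem_zpowers_iff.1 hu
  obtain ⟨v', hv', u', hu', rfl⟩ := Subgroup.mem_sup_of_normal_left.1 hb
  obtain ⟨j', rfl⟩ := Subgroup.mem_zpowers_iff.1 hu'
  rw [map_mul, map_mul, map_zpow, map_zpow]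
  have hc : ∀ x ∈ commutator G, ∀ g, Commute (QuotientGroup.mk' (third G) x) (QuotientGroup.mk' (third G) g) :=
    fun x hx g => commute_mk (comm_mem_third hx g)
  exact ((hc v hv v').mul_right ((hc v hv d.e).zpow_right j')).mul_left
    (((hc v' hv' d.e).symm.zpow_left j).mul_right ((Commute.refl _).zpow_zpow j j'))

/-- The maximal subgroup centralising the third term. -/
theorem exists_s : ∃ s, s ∉ d.N2 ∧ ∀ a ∈ third G, Commute s a := by
  obtain ⟨y, hy⟩ : ∃ y, y ∉ d.N2 := by
    by_contra hall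
    push Not at hall
    have h := Subgroup.card_le_of_le (K := d.N2) (H := ⊤) fun g _ => hall g
    rw [Subgroup.card_top, d.hG, d.card_N2, Nat.pow_le_pow_iff_right hp.out.one_lt] at h
    omega
  obtain ⟨a, ha3, haz, hae⟩ := d.exists_move
  obtain ⟨k, hk⟩ := Subgroup.mem_zpowers_iff.1 (d.comm_third ha3 y)
  refine ⟨y * d.e ^ (-k), fun h => hy ?_, ?_⟩
  · have := mul_mem h (zpow_mem (Subgroup.mem_sup_right (Subgroup.mem_zpowers d.e) : d.e ∈ d.N2) k)
    rwa [mul_assoc, ← zpow_add, neg_add_cancel, zpow_zero, mul_one] at this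
  have hca : ∀ g, Commute g ⁅a, d.e⁆ := fun g => d.z_central (d.comm_third ha3 d.e) g
  have hpow := comm_zpow (hca a) (hca d.e) 1 (-k)
  rw [zpow_one, one_mul, hae] at hpow
  have h1 : Commute a (y * d.e ^ (-k)) := by
    rw [← commutatorElement_eq_one_iff_commute, comm_mul_of_central (d.z_central (d.comm_third ha3 _) y),
      hpow, ← hk, ← zpow_add, add_neg_cancel, zpow_zero]
  intro b hb
  rw [← d.third_eq ha3 haz] at hb
  obtain ⟨w, hw, u, hu, rfl⟩ := Subgroup.mem_sup_of_normal_left.1 hb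
  obtain ⟨i, rfl⟩ := Subgroup.mem_zpowers_iff.1 hu
  exact (d.z_central hw _).mul_right (h1.symm.zpow_right i)

variable {s : G} (hs : s ∉ d.N2) (hsa : ∀ a ∈ third G, Commute s a)
include hs hsa

theorem s_notMem : s ∉ commutator G := fun h => hs (Subgroup.mem_sup_left h)

theorem N2_sup : d.N2 ⊔ Subgroup.zpowers s = ⊤ := by
  refine Subgroup.eq_top_of_card_eq _ (le_antisymm (Subgroup.card_le_card_group _) ?_)
  have := d.card_le_sup hs
  rwa [d.card_N2, ← pow_succ, ← d.hG] at this

theorem C_commute {w a : G} (hw : w ∈ topC s) (ha : a ∈ third G) : Commute w a := by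
  obtain ⟨v, hv, u, hu, rfl⟩ := Subgroup.mem_sup_of_normal_left.1 hw
  obtain ⟨k, rfl⟩ := Subgroup.mem_zpowers_iff.1 hu
  exact (d.commute_third ha hv).symm.mul_left ((hsa a ha).zpow_left k)

theorem e_notMem_C : d.e ∉ topC s := fun h => by
  obtain ⟨a, ha3, -, hae⟩ := d.exists_move
  refine d.z1 ?_
  rw [← hae, commutatorElement_eq_one_iff_commute]
  exact (d.C_commute hs hsa h ha3).symm

theorem C_ne_top : topC s ≠ ⊤ := fun h => d.e_notMem_C hs hsa (h ▸ Subgroup.mem_top _)

theorem card_C : Nat.card (topC s) = p ^ 4 := by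
  refine le_antisymm ?_ ?_
  · have h1 := d.card_le_mul (lt_top_iff_ne_top.2 (d.C_ne_top hs hsa))
    rw [Subgroup.card_top, d.hG, pow_succ] at h1
    exact Nat.le_of_mul_le_mul_right h1 hp.out.pos
  · have := d.card_le_sup (d.s_notMem hs hsa)
    rwa [d.card_commutator, ← pow_succ] at this

theorem C_sup : topC s ⊔ Subgroup.zpowers d.e = ⊤ := by
  refine Subgroup.eq_top_of_card_eq _ (le_antisymm (Subgroup.card_le_card_group _) ?_)
  have := d.card_le_sup (d.e_notMem_C hs hsa)
  rwa [d.card_C hs hsa, ← pow_succ, ← d.hG] at this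

theorem mem_C_iff {w : G} : w ∈ topC s ↔ ∀ a ∈ third G, Commute w a := by
  refine ⟨fun hw a ha => d.C_commute hs hsa hw ha, fun h => ?_⟩
  haveI := topC_normal s
  obtain ⟨v, hv, u, hu, rfl⟩ := Subgroup.mem_sup_of_normal_left.1 ((d.C_sup hs hsa).ge (Subgroup.mem_top w))
  obtain ⟨j, rfl⟩ := Subgroup.mem_zpowers_iff.1 hu
  have he : d.e ^ j ∈ commutator G :=
    d.mem_commutator_of_commute (Subgroup.mem_sup_right (zpow_mem (Subgroup.mem_zpowers _) j)) fun a ha => by
      have := (d.C_commute hs hsa hv ha).inv_left.mul_left (h a ha)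
      rwa [inv_mul_cancel_left] at this
  exact mul_mem hv (Subgroup.mem_sup_left he)

theorem a2_notMem : ⁅s, d.e⁆ ∉ third G := fun h => by
  obtain ⟨b, hb, he⟩ := d.exists_comm_third h
  refine hs ?_
  have := mul_mem (Subgroup.mem_sup_left hb : b ∈ d.N2) (sup_le ((Subgroup.zpowers_le.2 d.z_mem).trans le_sup_left)
    le_sup_right (d.mem_R_of_comm he))
  rwa [mul_inv_cancel_left] at this

theorem a3_notMem : ⁅⁅s, d.e⁆, d.e⁆ ∉ Subgroup.zpowers d.z := fun h => by
  obtain ⟨b, hb, he⟩ := d.exists_comm_z h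
  have ha2 : ⁅s, d.e⁆ ∈ commutator G :=
    Subgroup.commutator_mem_commutator (Subgroup.mem_top _) (Subgroup.mem_top _)
  have h1 := d.mem_z_of_commutator (mul_mem (inv_mem (third_le hb)) ha2) (d.mem_R_of_comm he)
  have h2 := mul_mem hb (Subgroup.zpowers_le.2 d.z_mem_third h1)
  rw [mul_inv_cancel_left] at h2
  exact d.a2_notMem hs hsa h2

theorem z'_ne : ⁅⁅⁅s, d.e⁆, d.e⁆, d.e⁆ ≠ 1 := fun h => by
  rw [commutatorElement_eq_one_iff_commute] at h
  have ha2 : ⁅s, d.e⁆ ∈ commutator G :=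
    Subgroup.commutator_mem_commutator (Subgroup.mem_top _) (Subgroup.mem_top _)
  exact d.a3_notMem hs hsa (d.mem_z_of_commutator (third_le (comm_mem_third ha2 _)) (d.hC _ h))

theorem zpowers_z' : Subgroup.zpowers ⁅⁅⁅s, d.e⁆, d.e⁆, d.e⁆ = Subgroup.zpowers d.z := by
  have hmem : ⁅⁅⁅s, d.e⁆, d.e⁆, d.e⁆ ∈ Subgroup.zpowers d.z := d.comm_third
    (comm_mem_third (Subgroup.commutator_mem_commutator (Subgroup.mem_top _) (Subgroup.mem_top _)) _) _
  refine Subgroup.eq_of_le_of_card_ge (Subgroup.zpowers_le.2 hmem) ?_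
  obtain ⟨k, hk⟩ := Subgroup.mem_zpowers_iff.1 hmem
  rw [d.card_z, Nat.card_zpowers, orderOf_eq_prime (by
    rw [← hk, ← zpow_natCast, ← zpow_mul, mul_comm, zpow_mul, zpow_natCast, d.zp, one_zpow])
    (d.z'_ne hs hsa)]

/-- The data for the weights. -/
def data : PearlData p G where
  A := commutator G
  A3 := third G
  e := d.e
  s := s
  z := ⁅⁅⁅s, d.e⁆, d.e⁆, d.e⁆
  comm _ ha _ hb := d.comm_commutator ha hb
  le := third_le
  zmem := (Subgroup.zpowers_le.2 d.z_mem_third)
    ((d.zpowers_z' hs hsa).le (Subgroup.mem_zpowers _))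
  zc g := (d.z_central ((d.zpowers_z' hs hsa).le (Subgroup.mem_zpowers _)) g).symm
  zp := by
    obtain ⟨k, hk⟩ := Subgroup.mem_zpowers_iff.1 ((d.zpowers_z' hs hsa).le (Subgroup.mem_zpowers _))
    rw [← hk, ← zpow_natCast, ← zpow_mul, mul_comm, zpow_mul, zpow_natCast, d.zp, one_zpow]
  z1 := d.z'_ne hs hsa
  comm_A _ ha g := comm_mem_third ha g
  comm_A3 _ ha g := (d.zpowers_z' hs hsa).ge (d.comm_third ha g)
  sA3 := hsa
  se := Subgroup.commutator_mem_commutator (Subgroup.mem_top _) (Subgroup.mem_top _)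
  hz := rfl
  gen3 a ha := by
    have h3 : ⁅⁅s, d.e⁆, d.e⁆ ∈ third G :=
      comm_mem_third (Subgroup.commutator_mem_commutator (Subgroup.mem_top _) (Subgroup.mem_top _)) _
    rw [← d.third_eq h3 (d.a3_notMem hs hsa), ← d.zpowers_z' hs hsa] at ha
    haveI : (Subgroup.zpowers ⁅⁅⁅s, d.e⁆, d.e⁆, d.e⁆).Normal := by rw [d.zpowers_z' hs hsa]; infer_instance
    obtain ⟨u, hu, v, hv, rfl⟩ := Subgroup.mem_sup_of_normal_left.1 ha
    obtain ⟨j, rfl⟩ := Subgroup.mem_zpowers_iff.1 hu
    obtain ⟨i, rfl⟩ := Subgroup.mem_zpowers_iff.1 hv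
    exact ⟨i, j, (d.z_central ((d.zpowers_z' hs hsa).le (zpow_mem (Subgroup.mem_zpowers _) j)) _).eq.symm⟩
  gen2 a ha := by
    have ha2 : ⁅s, d.e⁆ ∈ commutator G :=
      Subgroup.commutator_mem_commutator (Subgroup.mem_top _) (Subgroup.mem_top _)
    have heq : third G ⊔ Subgroup.zpowers ⁅s, d.e⁆ = commutator G := by
      refine Subgroup.eq_of_le_of_card_ge (sup_le third_le (Subgroup.zpowers_le.2 ha2)) ?_
      have := d.card_le_sup (d.a2_notMem hs hsa)
      rwa [d.card_third, ← pow_succ, ← d.card_commutator] at this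
    rw [← heq] at ha
    obtain ⟨i, w, hw, rfl⟩ := exists_zpow_mul ha
    exact ⟨i, by rwa [inv_mul_cancel_left]⟩
  pow3 := by
    rw [d.zpowers_z' hs hsa]
    exact pow_mem_of_card (p := p) (Subgroup.zpowers_le.2 d.z_mem_third)
      (by rw [d.card_third, d.card_z, sq])
      (comm_mem_third (Subgroup.commutator_mem_commutator (Subgroup.mem_top _) (Subgroup.mem_top _)) _)
  pow2 := pow_mem_of_card (p := p) third_le (by rw [d.card_commutator, d.card_third, pow_succ])
    (Subgroup.commutator_mem_commutator (Subgroup.mem_top _) (Subgroup.mem_top _))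

theorem not_commute_v : (d.data hs hsa).v ≠ 1 := fun h => by
  refine d.hno (topC s) ?_ (d.card_C hs hsa)
  intro a ha b hb
  haveI : (commutator G).Normal := inferInstance
  obtain ⟨v, hv, u, hu, rfl⟩ := Subgroup.mem_sup_of_normal_left.1 ha
  obtain ⟨v', hv', u', hu', rfl⟩ := Subgroup.mem_sup_of_normal_left.1 hb
  obtain ⟨i, rfl⟩ := Subgroup.mem_zpowers_iff.1 hu
  obtain ⟨j, rfl⟩ := Subgroup.mem_zpowers_iff.1 hu'
  have hsA := (d.data hs hsa).commute_of_v h
  exact (((show Commute v v' from d.comm_commutator hv hv').mul_right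
    ((hsA v hv).symm.zpow_right j)).mul_left
    (((hsA v' hv').zpow_left i).mul_right ((Commute.refl s).zpow_zpow i j))).eq

end PearlGroup

end Cfsg.Agent.Lib.FusionOrderFive
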