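import Cfsg.Agent.Lib.FusionOrderFive.Transvection
import Cfsg.Agent.Lib.Fusion87.EssentialElementary
import Cfsg.Agent.Lib.RankTwoAut.Essential
import Cfsg.Agent.Lib.Fusion87.Supersoluble

/-!
Automizers of essential subgroups acting on the Frattini quotient, and extension of automorphisms
to normalisers.
-/

set_option autoImplicit false
set_option linter.unusedSectionVars false

namespace Cfsg.Agent.Lib.FusionOrderFive

open Cfsg Cfsg.FusionSystem Cfsg.Agent.Lib.Fusion Cfsg.Agent.Lib.Fusion87 Cfsg.Agent.Lib.Fusion87.RankThree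
open scoped commutatorElement

universe u

section Quotient

variable {D : Type*} [Group D] {p : ℕ} [hp : Fact p.Prime]

/-- An automorphism of `D` on its Frattini quotient. -/
def quotHom (D : Type*) [Group D] : MulAut D →* MulAut (D ⧸ frattini D) where
  toFun a := QuotientGroup.congr (frattini D) (frattini D) a
    (Subgroup.characteristic_iff_map_eq.1 frattini_characteristic a)
  map_one' := MulEquiv.ext fun x => QuotientGroup.induction_on x fun y => rfl
  map_mul' a b := MulEquiv.ext fun x => QuotientGroup.induction_on x fun y => rfl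

theorem quotHom_mk (a : MulAut D) (x : D) : quotHom D a (x : D ⧸ frattini D) = ((a x : D) : D ⧸ frattini D) :=
  rfl

theorem quotHom_eq_one {a : MulAut D} : quotHom D a = 1 ↔ ∀ x, x⁻¹ * a x ∈ frattini D := by
  refine ⟨fun h x => QuotientGroup.eq.1 ?_, fun h => MulEquiv.ext fun x =>
    QuotientGroup.induction_on x fun y => ?_⟩
  · rw [← quotHom_mk, h]; rfl
  · rw [quotHom_mk, MulAut.one_apply]
    exact (QuotientGroup.eq.2 (h y)).symm

variable [Finite D] (hD : IsPGroup p D)
include hD

theorem comm_quot (x y : D ⧸ frattini D) : x * y = y * x := by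
  induction x using QuotientGroup.induction_on with
  | _ a =>
  induction y using QuotientGroup.induction_on with
  | _ b =>
  rw [← QuotientGroup.mk_mul, ← QuotientGroup.mk_mul, QuotientGroup.eq]
  rw [show (a * b)⁻¹ * (b * a) = ⁅b⁻¹, a⁻¹⁆ by rw [commutatorElement_def]; group]
  exact Lib.PFrattini.commutator_le_frattini hD
    (Subgroup.commutator_mem_commutator (Subgroup.mem_top _) (Subgroup.mem_top _))

theorem pow_quot (x : D ⧸ frattini D) : x ^ p = 1 := by
  induction x using QuotientGroup.induction_on with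
  | _ a =>
  rw [← QuotientGroup.mk_pow, QuotientGroup.eq_one_iff]
  exact Lib.PFrattini.pow_mem_frattini hD a

/-- The Frattini quotient as a commutative group. -/
@[reducible] def quotCommGroup : CommGroup (D ⧸ frattini D) :=
  { (inferInstance : Group (D ⧸ frattini D)) with mul_comm := comm_quot hD }

theorem quotHom_inn (g : D) : quotHom D (MulAut.conj g) = 1 :=
  quotHom_eq_one.2 fun x => by
    rw [MulAut.conj_apply, show x⁻¹ * (g * x * g⁻¹) = ⁅x⁻¹, g⁆ by rw [commutatorElement_def]; group]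
    exact Lib.PFrattini.commutator_le_frattini hD
      (Subgroup.commutator_mem_commutator (Subgroup.mem_top _) (Subgroup.mem_top _))

end Quotient

section SmallPlane

variable {p : ℕ} [hp : Fact p.Prime] {V : Type*} [Group V] [Finite V]

/-- A `p`-group of automorphisms of a group of order `p ^ 2` moves every element along a fixed
cyclic subgroup and has order at most `p`. -/
theorem plane_data (hab : ∀ a b : V, a * b = b * a) (h2 : Nat.card V = p ^ 2)
    {T : Subgroup (MulAut V)} (hT : IsPGroup p T) :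
    Nat.card T ≤ p ∧ ∃ z : V, z ≠ 1 ∧ ∀ t ∈ T, t z = z ∧ ∀ v, ∃ i : ℤ, t v = v * z ^ i := by
  have hV : IsPGroup p V := IsPGroup.of_card h2
  have hne : (⊤ : Subgroup V) ≠ ⊥ := fun h => by
    have := congrArg (fun K : Subgroup V => Nat.card K) h
    simp only [Subgroup.card_top, Subgroup.card_bot, h2] at this
    exact (Nat.one_lt_pow two_ne_zero hp.out.one_lt).ne' this
  set M := Subgroup.closure {x : V | ∃ t ∈ T, ∃ w ∈ (⊤ : Subgroup V), x = disp t w} with hMdef
  have hM : M < ⊤ := closure_disp_lt hV hT hne fun _ _ _ _ => Subgroup.mem_top _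
  have hdM : ∀ t ∈ T, ∀ v, disp t v ∈ M := fun t ht v =>
    Subgroup.subset_closure ⟨t, ht, v, Subgroup.mem_top v, rfl⟩
  obtain ⟨i, hi⟩ := IsPGroup.iff_card.1 (hV.to_subgroup M)
  have hi1 : i ≤ 1 := by
    have : Nat.card M < Nat.card V := by
      refine lt_of_le_of_ne (Subgroup.card_le_card_group M) fun e => hM.ne ?_
      exact Subgroup.eq_top_of_card_eq M e
    rw [hi, h2, Nat.pow_lt_pow_iff_right hp.out.one_lt] at this
    omega
  have hfixM : ∀ t ∈ T, ∀ w ∈ M, t w = w := by
    intro t ht w hw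
    rcases Nat.le_one_iff_eq_zero_or_eq_one.1 hi1 with h0 | h1
    · rw [h0, pow_zero, Subgroup.card_eq_one] at hi
      rw [hi] at hw
      rw [Subgroup.mem_bot.1 hw, map_one]
    · have hMne : M ≠ ⊥ := fun e => by
        rw [e, Subgroup.card_bot, h1, pow_one] at hi
        exact hp.out.ne_one hi.symm
      have hlt := closure_disp_lt hV hT hMne
        fun t ht w hw => apply_eq t w ▸ mul_mem (hdM t ht w) hw
      obtain ⟨j, hj⟩ := IsPGroup.iff_card.1 (hV.to_subgroup
        (Subgroup.closure {x : V | ∃ t ∈ T, ∃ w ∈ M, x = disp t w}))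
      have hc : Nat.card (Subgroup.closure {x : V | ∃ t ∈ T, ∃ w ∈ M, x = disp t w}) < Nat.card M :=
        lt_of_le_of_ne (Subgroup.card_le_of_le hlt.le) fun e =>
          hlt.ne (Subgroup.eq_of_le_of_card_ge hlt.le e.ge)
      rw [hj, hi, Nat.pow_lt_pow_iff_right hp.out.one_lt] at hc
      have hb : Subgroup.closure {x : V | ∃ t ∈ T, ∃ w ∈ M, x = disp t w} = ⊥ := by
        rw [← Subgroup.card_eq_one, hj, show j = 0 by omega, pow_zero]
      refine disp_eq_one.1 (Subgroup.mem_bot.1 (hb.le ?_))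
      exact Subgroup.subset_closure ⟨t, ht, w, hw, rfl⟩
  obtain ⟨z, hz1, hzM⟩ : ∃ z : V, z ≠ 1 ∧ M ≤ Subgroup.zpowers z ∧ ∀ t ∈ T, t z = z := by
    rcases M.bot_or_exists_ne_one with hb | ⟨z, hz, hz1⟩
    · obtain ⟨z, -, hz1⟩ := (⊤ : Subgroup V).bot_or_exists_ne_one.resolve_left hne
      exact ⟨z, hz1, by rw [hb]; exact bot_le, fun t ht => disp_eq_one.1 (Subgroup.mem_bot.1 (hb ▸ hdM t ht z))⟩
    · refine ⟨z, hz1, (Subgroup.eq_of_le_of_card_ge (Subgroup.zpowers_le.2 hz) ?_).ge,
        fun t ht => hfixM t ht z hz⟩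
      rw [hi, Nat.card_zpowers]
      obtain ⟨k, hk⟩ := hV z
      obtain ⟨l, -, hl⟩ := (Nat.dvd_prime_pow hp.out).1 (orderOf_dvd_of_pow_eq_one hk)
      rw [hl]
      refine Nat.pow_le_pow_right hp.out.pos (hi1.trans (Nat.one_le_iff_ne_zero.2 fun h => hz1 ?_))
      rwa [h, pow_zero, orderOf_eq_one_iff] at hl
  refine ⟨?_, z, hz1, fun t ht => ⟨hzM.2 t ht, fun v => ?_⟩⟩
  · obtain ⟨v, -, hv⟩ := SetLike.exists_of_lt hM
    have hinj : Function.Injective fun t : T => (⟨disp (t : MulAut V) v, hdM t t.2 v⟩ : M) := by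
      intro s t h
      have he : (s : MulAut V) v = (t : MulAut V) v := mul_right_cancel (congrArg Subtype.val h)
      let Fx : Subgroup V :=
        { carrier := {x | (s : MulAut V) x = (t : MulAut V) x}
          one_mem' := by simp
          mul_mem' := fun {x y} hx hy => by simp only [Set.mem_setOf_eq] at *; rw [map_mul, map_mul, hx, hy]
          inv_mem' := fun {x} hx => by simp only [Set.mem_setOf_eq] at *; rw [map_inv, map_inv, hx] }
      have hlt : M < Fx := by
        refine lt_of_le_not_ge (fun w hw => ?_) fun hle => hv (hle he)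
        show (s : MulAut V) w = (t : MulAut V) w
        rw [hfixM s s.2 w hw, hfixM t t.2 w hw]
      have htop : Fx = ⊤ := by
        refine Subgroup.eq_top_of_card_eq Fx (le_antisymm (Subgroup.card_le_card_group Fx) ?_)
        rw [h2]
        obtain ⟨j, hj⟩ := IsPGroup.iff_card.1 (hV.to_subgroup Fx)
        rw [hj]
        refine Nat.pow_le_pow_right hp.out.pos ?_
        rcases Nat.le_one_iff_eq_zero_or_eq_one.1 hi1 with h0 | h1
        · -- nothing moves
          by_contra hj2
          have hall : ∀ x : V, x ∈ Fx := fun x => by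
            have hMb : M = ⊥ := by rw [← Subgroup.card_eq_one, hi, h0, pow_zero]
            show (s : MulAut V) x = (t : MulAut V) x
            rw [disp_eq_one.1 (Subgroup.mem_bot.1 (hMb ▸ hdM s s.2 x)),
              disp_eq_one.1 (Subgroup.mem_bot.1 (hMb ▸ hdM t t.2 x))]
          have : Nat.card Fx = Nat.card V := by
            rw [(Subgroup.eq_top_iff' Fx).2 hall, Subgroup.card_top]
          rw [hj, h2] at this
          exact hj2 (Nat.pow_right_injective hp.out.two_le this).ge
        · have hc : Nat.card M < Nat.card Fx :=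
            lt_of_le_of_ne (Subgroup.card_le_of_le hlt.le) fun e =>
              hlt.ne (Subgroup.eq_of_le_of_card_ge hlt.le e.ge)
          rw [hi, hj, Nat.pow_lt_pow_iff_right hp.out.one_lt] at hc
          omega
      exact Subtype.ext (MulEquiv.ext fun x => (htop ▸ Subgroup.mem_top x : x ∈ Fx))
    refine (Nat.card_le_card_of_injective _ hinj).trans ?_
    rw [hi]
    exact (Nat.pow_le_pow_right hp.out.pos hi1).trans (pow_one p).le
  · obtain ⟨k, hk⟩ := Subgroup.mem_zpowers_iff.1 (hzM.1 (hdM t ht v))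
    exact ⟨k, by rw [hk, apply_eq t v]; exact hab _ _⟩

end SmallPlane

variable {Ω : Type u} [Group Ω] {S : Subgroup Ω} [Finite S] {F : FusionSystem S} {p : ℕ}
  [hp : Fact p.Prime] (hS : IsPGroup p S) (hF : F.IsSaturated p)

include hS hF

/-- An automorphism normalising the induced automorphisms extends to the normaliser. -/
theorem exists_extend {P : Subgroup Ω} (hP : F.IsFullyNormalized P) {α : MulAut P}
    (hα : α ∈ F.autGroup P) (h : ∀ a ∈ autInducedBy S P, α * a * α⁻¹ ∈ autInducedBy S P) :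
    ∃ γ ∈ F.autGroup (normalizerIn S P),
      ∀ (x : P) (hx : (x : Ω) ∈ normalizerIn S P), (γ ⟨x, hx⟩ : Ω) = α x := by
  obtain ⟨ψ, hψ, hψx⟩ := (isReceptive_of_isFullyNormalized hS hF hP).2 P _
    (autGroup_hom_mem hP.1 hα) (range_autHom α)
  have hle : normalizerIn S P ≤ extender S P (autHom α) := fun g hg => by
    obtain ⟨t, htS, ht⟩ := mem_autInducedBy.1
      (h (conjAut P g hg.2) (mem_autInducedBy_normalizer.2 ⟨g, hg.2, hg.1, rfl⟩))
    refine mem_extender.2 ⟨hg.1, hg.2, t, htS, fun x hx => ?_⟩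
    have h2 := ht (α x)
    simp only [MulAut.mul_apply, MulAut.inv_apply_self] at h2
    exact h2
  haveI := finite_normalizerIn (S := S) P
  have hEN : P ≤ normalizerIn S P := le_normalizerIn hP.1
  have h0 : ∀ y : P, ψ ⟨y, hle (hEN y.2)⟩ = α y := fun y => hψx y y.2 _
  have hr : ∀ g : normalizerIn S P, ψ (Subgroup.inclusion hle g) ∈ normalizerIn S P := fun g => by
    refine ⟨val_mem hψ _, mem_normalizer_of_aut (α := α * conjAut P g g.2.2 * α⁻¹) fun y => ?_⟩
    have hx' : (g : Ω) * (α⁻¹ y : P) * (g : Ω)⁻¹ ∈ P :=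
      (Subgroup.mem_normalizer_iff.1 g.2.2 _).1 (α⁻¹ y).2
    have h1 := h0 ⟨_, hx'⟩
    have h2 : (⟨(g : Ω) * (α⁻¹ y : P) * (g : Ω)⁻¹, hle (hEN hx')⟩ : extender S P (autHom α)) =
        Subgroup.inclusion hle g * ⟨_, hle (hEN (α⁻¹ y).2)⟩ * (Subgroup.inclusion hle g)⁻¹ := rfl
    rw [h2, map_mul, map_mul, map_inv, h0, MulAut.apply_inv_self] at h1
    rw [h1]
    rfl
  obtain ⟨γ, hγ, hγx⟩ := exists_aut_of_hom (φ := ψ.comp (Subgroup.inclusion hle))
    (restrict_mem hψ hle) hr
  exact ⟨γ, hγ, fun x hx => (hγx ⟨x, hx⟩).trans (hψx x x.2 (hle hx))⟩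

/-- The induced automorphisms are normal when a chain with cyclic steps is invariant. -/
theorem normalizes_of_chain {P : Subgroup Ω} (hP : F.IsFullyNormalized P) (C : CyclicChain P)
    (hC : ∀ a ∈ F.autGroup P, ∀ i, ∀ y ∈ C.K i, a y ∈ C.K i) {α : MulAut P} (hα : α ∈ F.autGroup P)
    {a : MulAut P} (ha : a ∈ autInducedBy S P) : α * a * α⁻¹ ∈ autInducedBy S P := by
  haveI := finite_of_le hP.1
  haveI := finite_autGroup (F := F) hP.1
  obtain ⟨T, hT⟩ := C.exists_normal_sylow (hS.to_le hP.1) hC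
  obtain ⟨-, Q, hQ⟩ := isFullyAutomized_of_isFullyNormalized hS hF hP
  haveI := hT
  rw [T.ext (T.3 Q.2 (T.2.le_sylow_of_normal Q)).symm, hQ] at hT
  exact hT.conj_mem ⟨a, autInducedBy_le_autGroup hP.1 ha⟩ ha ⟨α, hα⟩

theorem exists_extend_of_chain {P : Subgroup Ω} (hP : F.IsFullyNormalized P) (C : CyclicChain P)
    (hC : ∀ a ∈ F.autGroup P, ∀ i, ∀ y ∈ C.K i, a y ∈ C.K i) {α : MulAut P} (hα : α ∈ F.autGroup P) :
    ∃ γ ∈ F.autGroup (normalizerIn S P),
      ∀ (x : P) (hx : (x : Ω) ∈ normalizerIn S P), (γ ⟨x, hx⟩ : Ω) = α x :=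
  exists_extend hS hF hP hα fun _ ha => normalizes_of_chain hS hF hP C hC hα ha

/-- The whole group is not essential. -/
theorem not_isEssential_self : ¬ F.IsEssential p S := fun hE => by
  obtain ⟨-, Q, hQ⟩ := isFullyAutomized_of_isFullyNormalized hS hF hE.2.1
  refine false_of_normal_sylow hE Q ?_
  rw [hQ, ← inn_eq_autInducedBy]
  exact inn_normal_subgroupOf F S

variable {P : Subgroup Ω} (hE : F.IsEssential p P)
include hE

/-- An automorphism trivial on the Frattini quotient of an essential subgroup is inner. -/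
theorem mem_inn_of_quot_trivial {α : MulAut P} (hα : α ∈ F.autGroup P) (h : quotHom P α = 1) :
    α ∈ Inn P := by
  haveI := finite_of_le hE.1.1
  haveI := finite_autGroup (F := F) hE.1.1
  set K := ((quotHom P).comp (F.autGroup P).subtype).ker
  have hKp : IsPGroup p K := by
    have h1 := RankTwoAut.isPGroup_of_trivial_on_frattini (hS.to_le hE.1.1)
      (K.map (F.autGroup P).subtype) (by
        rintro _ ⟨β, hβ, rfl⟩ x
        exact quotHom_eq_one.1 hβ x)
    exact h1.of_equiv (K.equivMapOfInjective _ (F.autGroup P).subtype_injective).symm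
  have hK : K ≤ pCore p (F.autGroup P) := le_sSup ⟨inferInstance, hKp⟩
  rw [← (isRadical_of_isEssential hS hE).2]
  exact ⟨⟨α, hα⟩, hK h, rfl⟩

/-- The image on the Frattini quotient has a strongly embedded subgroup. -/
theorem exists_stronglyP_quot : ∃ H : Subgroup ((F.autGroup P).map (quotHom P)),
    IsStronglyPEmbedded p H := by
  haveI := finite_of_le hE.1.1
  haveI := finite_autGroup (F := F) hE.1.1
  obtain ⟨-, -, hN, H, hH⟩ := id hE
  set f := ((quotHom P).comp (F.autGroup P).subtype) with hf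
  have hker : f.ker = (Inn P).subgroupOf (F.autGroup P) := by
    ext α
    refine ⟨fun h => mem_inn_of_quot_trivial hS hF hE α.2 h, ?_⟩
    rintro ⟨g, hg⟩
    show quotHom P (α : MulAut P) = 1
    rw [show (α : MulAut P) = MulAut.conj g from hg.symm]
    exact quotHom_inn (hS.to_le hE.1.1) g
  haveI := hN
  let e : F.autGroup P ⧸ (Inn P).subgroupOf (F.autGroup P) ≃* (F.autGroup P).map (quotHom P) :=
    (QuotientGroup.quotientMulEquivOfEq hker.symm).trans ((QuotientGroup.quotientKerEquivRange f).trans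
      (MulEquiv.subgroupCongr (by rw [hf, MonoidHom.range_comp, Subgroup.range_subtype])))
  haveI : Finite ((F.autGroup P).map (quotHom P)) := Finite.of_equiv _ e.toEquiv
  exact ⟨_, isStronglyPEmbedded_map hH e⟩

/-- On a Frattini quotient of order at most `p ^ 3` the `p`-subgroups of the image have order at
most `p`. -/
theorem card_le_prime_quot (hp2 : p ≠ 2) (hr : (frattini P).index = p ^ 2 ∨ (frattini P).index = p ^ 3)
    {T : Subgroup (MulAut (P ⧸ frattini P))} (hTA : T ≤ (F.autGroup P).map (quotHom P))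
    (hT : IsPGroup p T) : Nat.card T ≤ p := by
  haveI := finite_of_le hE.1.1
  have hPp := hS.to_le hE.1.1
  rcases hr with h2 | h3
  · exact (plane_data (comm_quot hPp) h2 hT).1
  · obtain ⟨H, hH⟩ := exists_stronglyP_quot hS hF hE
    haveI : Finite (MulAut (P ⧸ frattini P)) := Finite.of_injective
      (fun a : MulAut (P ⧸ frattini P) => (a : P ⧸ frattini P → P ⧸ frattini P)) DFunLike.coe_injective
    have h := card_le_prime (comm_quot hPp) h3 (pow_quot hPp) hH hp2
      (T := T.subgroupOf ((F.autGroup P).map (quotHom P)))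
      (hT.of_equiv (Subgroup.subgroupOfEquivOfLe hTA).symm)
    rwa [Nat.card_congr (Subgroup.subgroupOfEquivOfLe hTA).toEquiv] at h

/-- Commuting elements of order `p` of the image generate a cyclic group. -/
theorem mem_zpowers_of_commute (hp2 : p ≠ 2)
    (hr : (frattini P).index = p ^ 2 ∨ (frattini P).index = p ^ 3)
    {a b : MulAut (P ⧸ frattini P)} (ha : a ∈ (F.autGroup P).map (quotHom P))
    (hb : b ∈ (F.autGroup P).map (quotHom P)) (hap : a ^ p = 1) (hbp : b ^ p = 1) (hab : Commute a b)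
    (ha1 : a ≠ 1) : b ∈ Subgroup.zpowers a := by
  haveI := finite_of_le hE.1.1
  haveI : Finite (MulAut (P ⧸ frattini P)) := Finite.of_injective
    (fun a : MulAut (P ⧸ frattini P) => (a : P ⧸ frattini P → P ⧸ frattini P)) DFunLike.coe_injective
  set T := Subgroup.closure ({a, b} : Set (MulAut (P ⧸ frattini P)))
  have hTc : ∀ x ∈ T, x ^ p = 1 := by
    intro x hx
    obtain ⟨i, j, rfl⟩ : ∃ i j : ℤ, x = a ^ i * b ^ j := by
      refine Subgroup.closure_induction (p := fun x _ => ∃ i j : ℤ, x = a ^ i * b ^ j) ?_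
        ⟨0, 0, by simp⟩ ?_ ?_ hx
      · rintro y (rfl | rfl)
        exacts [⟨1, 0, by simp⟩, ⟨0, 1, by simp⟩]
      · rintro _ _ _ _ ⟨i, j, rfl⟩ ⟨k, l, rfl⟩
        exact ⟨i + k, j + l, by
          rw [zpow_add, zpow_add, mul_assoc, ← mul_assoc (b ^ j), ((hab.zpow_zpow k j).symm).eq]
          simp only [mul_assoc]⟩
      · rintro _ _ ⟨i, j, rfl⟩
        exact ⟨-i, -j, by rw [mul_inv_rev, ← zpow_neg, ← zpow_neg, (hab.zpow_zpow (-i) (-j)).eq]⟩
    rw [(hab.zpow_zpow i j).mul_pow, ← zpow_natCast, ← zpow_natCast, ← zpow_mul, ← zpow_mul,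
      mul_comm i, mul_comm j, zpow_mul, zpow_mul, zpow_natCast, zpow_natCast, hap, hbp, one_zpow,
      one_zpow, one_mul]
  have hT : IsPGroup p T := fun x => ⟨1, Subtype.ext (by simpa using hTc x x.2)⟩
  have hc := card_le_prime_quot hS hF hE hp2 hr
    ((Subgroup.closure_le _).2 (by rintro x (rfl | rfl); exacts [ha, hb])) hT
  have haT : Subgroup.zpowers a ≤ T := Subgroup.zpowers_le.2 (Subgroup.subset_closure (Set.mem_insert _ _))
  rw [Subgroup.eq_of_le_of_card_ge haT (by rw [Nat.card_zpowers, orderOf_eq_prime hap ha1]; exact hc)]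
  exact Subgroup.subset_closure (Set.mem_insert_of_mem _ rfl)

end Cfsg.Agent.Lib.FusionOrderFive
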