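import Cfsg.Agent.Lib.FusionOrderFive.Tools

/-!
An element of a normaliser inducing a transvection on the Frattini quotient of an essential
subgroup: some automorphism moves its centre, and then the automizer contains a torus normalising
the induced automorphisms.
-/

set_option autoImplicit false
set_option linter.unusedSectionVars false

namespace Cfsg.Agent.Lib.FusionOrderFive

open Cfsg Cfsg.FusionSystem Cfsg.Agent.Lib.Fusion Cfsg.Agent.Lib.Fusion87

universe u

variable {Ω : Type u} [Group Ω] {S : Subgroup Ω} [Finite S] {F : FusionSystem S} {p : ℕ}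
  [hp : Fact p.Prime] (hS : IsPGroup p S) (hF : F.IsSaturated p) {P : Subgroup Ω}
  (hE : F.IsEssential p P) (hp2 : p ≠ 2)
  (hr : (frattini P).index = p ^ 2 ∨ (frattini P).index = p ^ 3)
  {a : MulAut P} (ha : a ∈ autInducedBy S P) (ha1 : quotHom P a ≠ 1)

include hS hF hE hp2 hr ha ha1

/-- The induced automorphisms act on the Frattini quotient as powers of one of them. -/
theorem exists_pow_of_induced {b : MulAut P} (hb : b ∈ autInducedBy S P) :
    ∃ k : ℤ, quotHom P b = quotHom P a ^ k := by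
  haveI := finite_of_le hE.1.1
  haveI : Finite (MulAut (P ⧸ frattini P)) := Finite.of_injective
    (fun a : MulAut (P ⧸ frattini P) => (a : P ⧸ frattini P → P ⧸ frattini P)) DFunLike.coe_injective
  have hT : IsPGroup p ((autInducedBy S P).map (quotHom P)) :=
    (isPGroup_autInducedBy hS).map _
  have hle : Subgroup.zpowers (quotHom P a) ≤ (autInducedBy S P).map (quotHom P) :=
    Subgroup.zpowers_le.2 (Subgroup.mem_map_of_mem _ ha)
  have hc := card_le_prime_quot hS hF hE hp2 hr
    (Subgroup.map_mono (autInducedBy_le_autGroup hE.1.1)) hT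
  obtain ⟨j, hj⟩ := IsPGroup.iff_card.1 (hT.to_le hle)
  have hj1 : j ≠ 0 := fun h => ha1 (by
    rw [h, pow_zero, Subgroup.card_eq_one, Subgroup.zpowers_eq_bot] at hj; exact hj)
  have heq : Subgroup.zpowers (quotHom P a) = (autInducedBy S P).map (quotHom P) :=
    Subgroup.eq_of_le_of_card_ge hle (hc.trans (by rw [hj]; exact Nat.le_self_pow hj1 p))
  obtain ⟨k, hk⟩ := Subgroup.mem_zpowers_iff.1 (heq.ge (Subgroup.mem_map_of_mem _ hb))
  exact ⟨k, hk.symm⟩

/-- An automorphism carrying the image of `a` to a power normalises the induced automorphisms. -/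
theorem normalizes_of_quot {β : MulAut P} (hβ : β ∈ F.autGroup P) {c : ℤ}
    (h : quotHom P β * quotHom P a = quotHom P a ^ c * quotHom P β) {b : MulAut P}
    (hb : b ∈ autInducedBy S P) : β * b * β⁻¹ ∈ autInducedBy S P := by
  obtain ⟨k, hk⟩ := exists_pow_of_induced hS hF hE hp2 hr ha ha1 hb
  have h1 : quotHom P (β * b * β⁻¹ * (a ^ (c * k))⁻¹) = 1 := by
    rw [map_mul, map_mul, map_mul, map_inv, map_inv, map_zpow, hk, mul_inv_eq_one, zpow_mul,
      ← conj_zpow, h, mul_inv_cancel_right]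
  have hA := autInducedBy_le_autGroup (F := F) (P := P) hE.1.1
  have h2 := mem_inn_of_quot_trivial hS hF hE (mul_mem (mul_mem (mul_mem hβ (hA hb)) (inv_mem hβ))
    (inv_mem (zpow_mem (hA ha) _))) h1
  have := mul_mem (inn_le_autInducedBy hE.1.1 h2) (zpow_mem ha (c * k))
  rwa [inv_mul_cancel_right] at this

variable {z : P ⧸ frattini P} (hz : quotHom P a z = z)
  (hmove : ∀ v, ∃ i : ℤ, quotHom P a v = v * z ^ i)
include hz hmove

/-- Some automorphism moves the centre of the transvection. -/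
theorem exists_moved : ∃ g ∈ F.autGroup P, quotHom P g z ∉ Subgroup.zpowers z := by
  haveI := finite_of_le hE.1.1
  haveI := finite_autGroup (F := F) hE.1.1
  have hPp := hS.to_le hE.1.1
  letI := quotCommGroup hPp
  have hexp := pow_quot hPp
  by_contra hall
  push Not at hall
  obtain ⟨-, Q, hQ⟩ := isFullyAutomized_of_isFullyNormalized hS hF hE.2.1
  refine false_of_normal_sylow hE Q ?_
  rw [hQ]
  refine ⟨fun b hb g => ?_⟩
  rw [Subgroup.mem_subgroupOf] at hb ⊢
  have hA := autInducedBy_le_autGroup (F := F) (P := P) hE.1.1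
  set t := quotHom P a
  set u := quotHom P (g : MulAut P) with hu
  have hzu : z ∈ Subgroup.zpowers (u z) := by
    obtain ⟨j, hj⟩ := Subgroup.mem_zpowers_iff.1 (hall _ ((F.autGroup P).inv_mem g.2))
    refine Subgroup.mem_zpowers_iff.2 ⟨j, ?_⟩
    simp only [hu]
    rw [← map_zpow, hj, ← MulAut.mul_apply, ← map_mul, mul_inv_cancel, map_one, MulAut.one_apply]
  obtain ⟨i, hi⟩ := Subgroup.mem_zpowers_iff.1 (hall _ g.2)
  obtain ⟨j, hj⟩ := Subgroup.mem_zpowers_iff.1 hzu
  have e1 : t (u z) = u z := by rw [show u z = z ^ i from hi.symm, map_zpow, hz]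
  have e2 : (u * t * u⁻¹) z = z := by rw [← hj, map_zpow, conj_fix u hz]
  have hmem := mem_zpowers_of_commute hS hF hE hp2 hr
    (Subgroup.mem_map_of_mem _ (hA ha))
    (show u * t * u⁻¹ ∈ (F.autGroup P).map (quotHom P) from
      mul_mem (mul_mem (Subgroup.mem_map_of_mem _ g.2) (Subgroup.mem_map_of_mem _ (hA ha)))
        (inv_mem (Subgroup.mem_map_of_mem _ g.2)))
    (move_pow_prime hexp hmove hz) (move_pow_prime hexp (isMove_conj u hmove) (conj_fix u hz))
    (commute_of_fix hmove (isMove_conj u hmove) e1 e2) ha1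
  obtain ⟨c, hc⟩ := Subgroup.mem_zpowers_iff.1 hmem
  exact normalizes_of_quot hS hF hE hp2 hr ha ha1 g.2 (c := c) (by
    rw [hc]; simp [t, u, mul_assoc]) hb

/-- The torus through a moved centre. -/
theorem exists_torus_aut {g : MulAut P} (hg : g ∈ F.autGroup P)
    (hgz : quotHom P g z ∉ Subgroup.zpowers z) {n m : ℤ} (hnm : ((n * m : ℤ) : ZMod p) = 1) :
    quotHom P a (quotHom P g z) ≠ quotHom P g z ∧ ∃ β ∈ F.autGroup P,
      quotHom P β z = z ^ n ∧ quotHom P β (quotHom P g z) = (quotHom P g z) ^ m ∧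
      (∀ l, quotHom P a l = l → quotHom P (g * a * g⁻¹) l = l → quotHom P β l = l) ∧
      (∀ v, ∃ (i j : ℤ) (l : P ⧸ frattini P), quotHom P a l = l ∧ quotHom P (g * a * g⁻¹) l = l ∧
        v = z ^ i * (quotHom P g z) ^ j * l) ∧
      ∀ b ∈ autInducedBy S P, β * b * β⁻¹ ∈ autInducedBy S P := by
  haveI := finite_of_le hE.1.1
  have hPp := hS.to_le hE.1.1
  letI := quotCommGroup hPp
  have hA := autInducedBy_le_autGroup (F := F) (P := P) hE.1.1
  obtain ⟨h1, b, hb, hb1, hb2, hb3, hb4, hb5⟩ := exists_torus_of_moved (pow_quot hPp)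
    (fun x hx y hy => mem_zpowers_of_commute hS hF hE hp2 hr hx hy)
    (Subgroup.mem_map_of_mem _ (hA ha)) hmove hz ha1 (Subgroup.mem_map_of_mem _ hg) hgz hnm
  obtain ⟨β, hβ, rfl⟩ := Subgroup.mem_map.1 hb
  refine ⟨h1, β, hβ, hb1, hb2, fun l hl hl' => hb3 l hl ?_, fun v => ?_,
    fun c hc => normalizes_of_quot hS hF hE hp2 hr ha ha1 hβ hb4 hc⟩
  · rwa [map_mul, map_mul, map_inv] at hl'
  · obtain ⟨i, j, l, l1, l2, l3⟩ := hb5 v
    exact ⟨i, j, l, l1, by rwa [map_mul, map_mul, map_inv], l3⟩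

end Cfsg.Agent.Lib.FusionOrderFive
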