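import Mathlib

/-!
Two transvections of an abelian group of exponent `p` whose centres are not fixed by each other
generate a group containing a torus of the plane they span.
-/

set_option autoImplicit false

namespace Cfsg.Agent.Lib.FusionOrderFive

open Subgroup

variable {p : ℕ} [hp : Fact p.Prime] {V : Type*} [CommGroup V]

/-- `t` moves every element by a power of `z`. -/
def IsMove (t : MulAut V) (z : V) : Prop := ∀ v, ∃ i : ℤ, t v = v * z ^ i

variable (hexp : ∀ v : V, v ^ p = 1)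
include hexp

theorem zpow_congr (x : V) {m n : ℤ} (h : (m : ZMod p) = n) : x ^ m = x ^ n := by
  obtain ⟨k, hk⟩ := (ZMod.intCast_eq_intCast_iff_dvd_sub m n p).1 h
  rw [show n = m + (p : ℤ) * k by omega, zpow_add, zpow_mul, zpow_natCast, hexp, one_zpow, mul_one]

omit hexp in
theorem exists_intCast (x : ZMod p) : ∃ k : ℤ, (k : ZMod p) = x := ⟨x.val, by simp⟩

theorem mem_zpowers_of_zpow {x : V} {S : Subgroup V} {i : ℤ} (hi : (i : ZMod p) ≠ 0)
    (h : x ^ i ∈ S) : x ∈ S := by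
  obtain ⟨k, hk⟩ := exists_intCast ((i : ZMod p)⁻¹)
  have := S.zpow_mem h k
  rwa [← zpow_mul, zpow_congr hexp x (n := 1) (by push_cast; rw [hk, mul_inv_cancel₀ hi]), zpow_one]
    at this

omit hp hexp in
theorem move_pow {t : MulAut V} {z : V} (htz : t z = z) {v : V} {i : ℤ} (h : t v = v * z ^ i)
    (n : ℕ) : (t ^ n) v = v * z ^ ((n : ℤ) * i) := by
  induction n with
  | zero => simp
  | succ n ih =>
    rw [pow_succ', MulAut.mul_apply, ih, map_mul, map_zpow, htz, h, mul_assoc, ← zpow_add]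
    congr 2
    push_cast
    ring

theorem move_zpow {t : MulAut V} {z : V} (htz : t z = z) {v : V} {i : ℤ} (h : t v = v * z ^ i)
    (n : ℤ) : (t ^ n) v = v * z ^ (n * i) := by
  induction n using Int.induction_on with
  | zero => simp
  | succ n ih =>
    rw [zpow_add_one, MulAut.mul_apply, h, map_mul, ih, map_zpow]
    rw [show (t ^ (n : ℤ)) z = z by rw [zpow_natCast]; exact (move_pow htz (i := 0) (by simpa using htz) n).trans (by simp)]
    rw [mul_assoc, ← zpow_add]
    congr 2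
    ring
  | pred n ih =>
    rw [zpow_sub_one, MulAut.mul_apply]
    have e : t⁻¹ v = v * z ^ (-i) := by
      apply t.injective
      rw [MulAut.apply_inv_self, map_mul, map_zpow, htz, h, mul_assoc, ← zpow_add, add_neg_cancel,
        zpow_zero, mul_one]
    rw [e, map_mul, ih, map_zpow]
    rw [show (t ^ (-(n : ℤ))) z = z by
      rw [zpow_neg, zpow_natCast]
      apply (t ^ n).injective
      rw [MulAut.apply_inv_self, move_pow htz (i := 0) (by simpa using htz) n]; simp]
    rw [mul_assoc, ← zpow_add]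
    congr 2
    ring

theorem move_pow_prime {t : MulAut V} {z : V} (ht : IsMove t z) (htz : t z = z) : t ^ p = 1 := by
  refine MulEquiv.ext fun v => ?_
  obtain ⟨i, hi⟩ := ht v
  rw [move_pow htz hi, MulAut.one_apply, zpow_mul, zpow_natCast, hexp, one_zpow, mul_one]

omit hp hexp in
theorem commute_of_fix {t t' : MulAut V} {z z' : V} (ht : IsMove t z) (ht' : IsMove t' z')
    (h : t z' = z') (h' : t' z = z) : Commute t t' := by
  refine MulEquiv.ext fun v => ?_
  obtain ⟨i, hi⟩ := ht v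
  obtain ⟨j, hj⟩ := ht' v
  rw [MulAut.mul_apply, MulAut.mul_apply, hj, hi, map_mul, map_mul, map_zpow, map_zpow, h, h', hi, hj]
  exact mul_right_comm _ _ _

omit hp hexp in
theorem isMove_conj (g : MulAut V) {t : MulAut V} {z : V} (ht : IsMove t z) :
    IsMove (g * t * g⁻¹) (g z) := fun v => by
  obtain ⟨i, hi⟩ := ht (g⁻¹ v)
  refine ⟨i, ?_⟩
  rw [MulAut.mul_apply, MulAut.mul_apply, hi, map_mul, MulAut.apply_inv_self, map_zpow]

omit hp hexp in
theorem conj_fix (g : MulAut V) {t : MulAut V} {z : V} (htz : t z = z) : (g * t * g⁻¹) (g z) = g z := by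
  rw [MulAut.mul_apply, MulAut.mul_apply, MulAut.inv_apply_self, htz]

/-- In a group whose commuting elements of order `p` generate cyclic groups, two commuting
transvections have the same centre. -/
theorem center_mem_of_commute {A : Subgroup (MulAut V)}
    (hA : ∀ a ∈ A, ∀ b ∈ A, a ^ p = 1 → b ^ p = 1 → Commute a b → a ≠ 1 → b ∈ zpowers a)
    {t t' : MulAut V} {z z' : V} (htA : t ∈ A) (ht'A : t' ∈ A) (ht : IsMove t z) (htz : t z = z)
    (ht' : IsMove t' z') (ht'z : t' z' = z') (ht1 : t ≠ 1) (ht'1 : t' ≠ 1)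
    (h : t z' = z') (h' : t' z = z) : z' ∈ zpowers z := by
  obtain ⟨k, hk⟩ := mem_zpowers_iff.1 (hA t htA t' ht'A (move_pow_prime hexp ht htz)
    (move_pow_prime hexp ht' ht'z) (commute_of_fix ht ht' h h') ht1)
  obtain ⟨v, hv⟩ : ∃ v, t' v ≠ v := by
    by_contra hall
    push Not at hall
    exact ht'1 (MulEquiv.ext hall)
  obtain ⟨j, hj⟩ := ht' v
  obtain ⟨i, hi⟩ := ht v
  refine mem_zpowers_of_zpow hexp (i := j) (fun h0 => hv ?_) ?_
  · rw [hj, zpow_congr hexp z' (n := 0) (by rw [h0, Int.cast_zero]), zpow_zero, mul_one]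
  · rw [← hk, move_zpow hexp htz hi] at hj
    exact mul_left_cancel hj ▸ zpow_mem (mem_zpowers z) _

/-- A conjugate whose centre is moved is not fixed by the transvection, and conversely. -/
theorem not_fix_of_conj {A : Subgroup (MulAut V)}
    (hA : ∀ a ∈ A, ∀ b ∈ A, a ^ p = 1 → b ^ p = 1 → Commute a b → a ≠ 1 → b ∈ zpowers a)
    {t t' : MulAut V} {z z' : V} (htA : t ∈ A) (ht'A : t' ∈ A) (ht : IsMove t z) (htz : t z = z)
    (ht' : IsMove t' z') (ht'z : t' z' = z') (ht1 : t ≠ 1) (ht'1 : t' ≠ 1)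
    (hz' : z' ∉ zpowers z) : t z' ≠ z' := by
  intro h
  by_cases h' : t' z = z
  · exact hz' (center_mem_of_commute hexp hA htA ht'A ht htz ht' ht'z ht1 ht'1 h h')
  obtain ⟨b, hb⟩ := ht' z
  have hc : t (t' z) = t' z := by rw [hb, map_mul, map_zpow, htz, h]
  have hinv : t'⁻¹ z = z * z' ^ (-b) := by
    apply t'.injective
    rw [MulAut.apply_inv_self, map_mul, map_zpow, ht'z, hb, mul_assoc, ← zpow_add, add_neg_cancel,
      zpow_zero, mul_one]
  have hc' : (t' * t * t'⁻¹) z = z := by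
    rw [MulAut.mul_apply, MulAut.mul_apply, hinv, map_mul t, map_zpow t, htz, h, ← hinv,
      MulAut.apply_inv_self]
  have hmem := center_mem_of_commute hexp hA htA
    (A.mul_mem (A.mul_mem ht'A htA) (A.inv_mem ht'A)) ht htz (isMove_conj t' ht) (conj_fix t' htz)
    ht1 (fun e => ht1 (by simpa using (conj_eq_one_iff (a := t') (b := t)).1 e)) hc hc'
  rw [hb] at hmem
  refine hz' (mem_zpowers_of_zpow hexp (i := b) (fun h0 => h' ?_) ?_)
  · rw [hb, zpow_congr hexp z' (n := 0) (by rw [h0, Int.cast_zero]), zpow_zero, mul_one]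
  · simpa using (zpowers z).mul_mem ((zpowers z).inv_mem (mem_zpowers z)) hmem

/-- The torus of the plane spanned by the centres of two transvections. -/
theorem exists_torus {t t' : MulAut V} {z z' : V} (ht : IsMove t z) (htz : t z = z)
    (ht' : IsMove t' z') (ht'z : t' z' = z') (h : t z' ≠ z') (h' : t' z ≠ z) {n m : ℤ}
    (hnm : ((n * m : ℤ) : ZMod p) = 1) :
    ∃ β ∈ closure ({t, t'} : Set (MulAut V)), β z = z ^ n ∧ β z' = z' ^ m ∧
      (∀ l, t l = l → t' l = l → β l = l) ∧ β * t = t ^ (n * n) * β ∧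
      ∀ v, ∃ (i j : ℤ) (l : V), t l = l ∧ t' l = l ∧ v = z ^ i * z' ^ j * l := by
  obtain ⟨a, ha⟩ := ht z'
  obtain ⟨b, hb⟩ := ht' z
  have ha0 : (a : ZMod p) ≠ 0 := fun h0 => h (by
    rw [ha, zpow_congr hexp z (n := 0) (by rw [h0, Int.cast_zero]), zpow_zero, mul_one])
  have hb0 : (b : ZMod p) ≠ 0 := fun h0 => h' (by
    rw [hb, zpow_congr hexp z' (n := 0) (by rw [h0, Int.cast_zero]), zpow_zero, mul_one])
  obtain ⟨a', ha'⟩ := exists_intCast ((a : ZMod p)⁻¹)
  obtain ⟨b', hb'⟩ := exists_intCast ((b : ZMod p)⁻¹)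
  set G := closure ({t, t'} : Set (MulAut V)) with hG
  have htG : t ∈ G := subset_closure (Set.mem_insert _ _)
  have ht'G : t' ∈ G := subset_closure (Set.mem_insert_of_mem _ rfl)
  have hU : ∀ x : ℤ, (t ^ (a' * x)) z = z ∧ (t ^ (a' * x)) z' = z' * z ^ x := fun x =>
    ⟨(move_zpow hexp htz (i := 0) (by simpa using htz) _).trans (by simp),
      (move_zpow hexp htz ha _).trans (by
        rw [zpow_congr hexp z (n := x)]
        push_cast; rw [ha']; field_simp)⟩
  have hL : ∀ y : ℤ, (t' ^ (b' * y)) z' = z' ∧ (t' ^ (b' * y)) z = z * z' ^ y := fun y =>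
    ⟨(move_zpow hexp ht'z (i := 0) (by simpa using ht'z) _).trans (by simp),
      (move_zpow hexp ht'z hb _).trans (by
        rw [zpow_congr hexp z' (n := y)]
        push_cast; rw [hb']; field_simp)⟩
  have hM : ∀ x y : ℤ, ((x * y : ℤ) : ZMod p) = -1 → ∃ μ ∈ G, μ z = z' ^ y ∧ μ z' = z ^ x ∧
      ∀ l, t l = l → t' l = l → μ l = l := by
    intro x y hxy
    refine ⟨t ^ (a' * x) * t' ^ (b' * y) * t ^ (a' * x), G.mul_mem (G.mul_mem (G.zpow_mem htG _)
      (G.zpow_mem ht'G _)) (G.zpow_mem htG _), ?_, ?_, fun l hl hl' => ?_⟩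
    · rw [MulAut.mul_apply, MulAut.mul_apply, (hU x).1, (hL y).2, map_mul, map_zpow, (hU x).1,
        (hU x).2, mul_zpow, ← zpow_mul, mul_comm (z' ^ y), ← mul_assoc]
      rw [show z * z ^ (x * y) = 1 by
        rw [← zpow_one_add, zpow_congr hexp z (n := 0) (by push_cast at hxy ⊢; rw [hxy]; ring),
          zpow_zero], one_mul]
    · rw [MulAut.mul_apply, MulAut.mul_apply, (hU x).2, map_mul, map_zpow, (hL y).1, (hL y).2,
        mul_zpow, ← zpow_mul, ← mul_assoc, mul_comm z' (z ^ x), mul_assoc, ← zpow_one_add,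
        zpow_congr hexp z' (m := 1 + y * x) (n := 0) (by
          push_cast at hxy ⊢; rw [mul_comm, hxy]; ring),
        zpow_zero, mul_one, map_zpow, (hU x).1]
    · have e1 : ∀ s : MulAut V, s l = l → ∀ k : ℤ, (s ^ k) l = l := fun s hs k =>
        zpow_mem (show s ∈ MulAction.stabilizer (MulAut V) l from hs) k
      rw [MulAut.mul_apply, MulAut.mul_apply, e1 _ hl, e1 _ hl', e1 _ hl]
  push_cast at hnm
  obtain ⟨μ, hμG, μ1, μ2, μ3⟩ := hM n (-m) (by push_cast; rw [mul_neg, hnm])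
  obtain ⟨ν, hνG, ν1, ν2, ν3⟩ := hM (-1) 1 (by simp)
  have e1 : (μ * ν) z = z ^ n := by rw [MulAut.mul_apply, ν1, zpow_one, μ2]
  have e2 : (μ * ν) z' = z' ^ m := by
    rw [MulAut.mul_apply, ν2, map_zpow, μ1, ← zpow_mul, mul_neg, mul_one, neg_neg]
  have e3 : ∀ l, t l = l → t' l = l → (μ * ν) l = l := fun l hl hl' => by
    rw [MulAut.mul_apply, ν3 l hl hl', μ3 l hl hl']
  have hdec : ∀ v, ∃ (i j : ℤ) (l : V), t l = l ∧ t' l = l ∧ v = z ^ i * z' ^ j * l := by
    intro v
    obtain ⟨i, hi⟩ := ht v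
    obtain ⟨j, hj⟩ := ht' v
    refine ⟨j * b', i * a', v * z' ^ (-(i * a')) * z ^ (-(j * b')), ?_, ?_, ?_⟩
    · rw [map_mul, map_mul, map_zpow, map_zpow, htz, hi, ha, mul_zpow, ← zpow_mul]
      rw [show v * z ^ i * (z' ^ (-(i * a')) * z ^ (a * -(i * a'))) =
        v * z' ^ (-(i * a')) * (z ^ i * z ^ (a * -(i * a'))) by simp only [mul_assoc, mul_left_comm],
        ← zpow_add, zpow_congr hexp z (m := i + a * -(i * a')) (n := 0) (by
          push_cast; rw [ha']; field_simp; ring), zpow_zero, mul_one]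
    · rw [map_mul, map_mul, map_zpow, map_zpow, ht'z, hj, hb, mul_zpow, ← zpow_mul]
      rw [show v * z' ^ j * z' ^ (-(i * a')) * (z ^ (-(j * b')) * z' ^ (b * -(j * b'))) =
        v * z' ^ (-(i * a')) * z ^ (-(j * b')) * (z' ^ j * z' ^ (b * -(j * b'))) by
          simp only [mul_assoc, mul_left_comm],
        ← zpow_add, zpow_congr hexp z' (m := j + b * -(j * b')) (n := 0) (by
          push_cast; rw [hb']; field_simp; ring), zpow_zero, mul_one]
    · rw [zpow_neg, zpow_neg]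
      simp [mul_assoc, mul_left_comm]
  refine ⟨μ * ν, G.mul_mem hμG hνG, e1, e2, e3, ?_, hdec⟩
  refine MulEquiv.ext fun v => ?_
  obtain ⟨i, j, l, hl, hl', rfl⟩ := hdec v
  have f1 : ∀ k : ℤ, (t ^ k) z = z := fun k =>
    (move_zpow hexp htz (i := 0) (by simpa using htz) k).trans (by simp)
  have f2 : (t ^ (n * n)) l = l := (move_zpow hexp htz (i := 0) (by simpa using hl) _).trans (by simp)
  generalize hβ : μ * ν = β at e1 e2 e3 ⊢
  simp only [MulAut.mul_apply, map_mul, map_zpow, e1, e2,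
    e3 l hl hl', htz, hl, ha, f1, f2, move_zpow hexp htz ha (n * n), mul_zpow, ← zpow_mul]
  rw [zpow_congr hexp z (m := n * a * j) (n := n * n * a * m * j) (by
    push_cast
    linear_combination (-(n : ZMod p) * a * j) * hnm)]

/-- A transvection and a moved conjugate give a torus inside the group. -/
theorem exists_torus_of_moved {A : Subgroup (MulAut V)}
    (hA : ∀ a ∈ A, ∀ b ∈ A, a ^ p = 1 → b ^ p = 1 → Commute a b → a ≠ 1 → b ∈ zpowers a)
    {t : MulAut V} {z : V} (htA : t ∈ A) (ht : IsMove t z) (htz : t z = z) (ht1 : t ≠ 1)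
    {g : MulAut V} (hgA : g ∈ A) (hgz : g z ∉ zpowers z) {n m : ℤ}
    (hnm : ((n * m : ℤ) : ZMod p) = 1) :
    t (g z) ≠ g z ∧ ∃ β ∈ A, β z = z ^ n ∧ β (g z) = (g z) ^ m ∧
      (∀ l, t l = l → (g * t * g⁻¹) l = l → β l = l) ∧ β * t = t ^ (n * n) * β ∧
      ∀ v, ∃ (i j : ℤ) (l : V), t l = l ∧ (g * t * g⁻¹) l = l ∧ v = z ^ i * (g z) ^ j * l := by
  have ht' : g * t * g⁻¹ ∈ A := A.mul_mem (A.mul_mem hgA htA) (A.inv_mem hgA)
  have ht'1 : g * t * g⁻¹ ≠ 1 := fun e => ht1 (conj_eq_one_iff.1 e)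
  have hz : z ∉ zpowers (g z) := fun hc => by
    obtain ⟨k, hk⟩ := mem_zpowers_iff.1 hc
    refine hgz (mem_zpowers_of_zpow hexp (i := k) (fun h0 => hgz ?_) (by rw [hk]; exact mem_zpowers z))
    rw [← hk, zpow_congr hexp (g z) (n := 0) (by rw [h0, Int.cast_zero]), zpow_zero, map_one]
    exact one_mem _
  have h1 := not_fix_of_conj hexp hA htA ht' ht htz (isMove_conj g ht) (conj_fix g htz) ht1 ht'1 hgz
  have h2 := not_fix_of_conj hexp hA ht' htA (isMove_conj g ht) (conj_fix g htz) ht htz ht'1 ht1 hz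
  obtain ⟨β, hβ, hrest⟩ := exists_torus hexp ht htz (isMove_conj g ht) (conj_fix g htz) h1 h2 hnm
  refine ⟨h1, β, (closure_le _).2 ?_ hβ, hrest⟩
  rintro x (rfl | rfl)
  exacts [htA, ht']

end Cfsg.Agent.Lib.FusionOrderFive
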